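import Cfsg.Agent.Lib.Sporadic.J4Inj.Inject
import Cfsg.Agent.Lib.Sporadic.J4Order.Simple

/-!
# The presented J4 is the group generated in the representation (owner: helper21)
-/

set_option autoImplicit false
set_option maxRecDepth 40000

namespace CfsgLib.Sporadic.J4Inj

open Cfsg
open CfsgLib.Sporadic.J4Rep (jL rho V)
open CfsgLib.Sporadic.J4Order (hG let2 tP nG eA eG)

theorem range_rho : rho.range = hG := by
  rw [MonoidHom.range_eq_map, ← PresentedGroup.closure_range_of, MonoidHom.map_closure, hG, ← Set.range_comp]
  have h : ∀ g, rho (PresentedGroup.of g) = J4Rep.letter (J4Rep.code (g, true)) := fun g =>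
    PresentedGroup.toGroup.of J4Rep.rels_one
  congr 1
  ext z
  simp only [Set.mem_range, Function.comp_apply, Set.mem_insert_iff, Set.mem_singleton_iff, h]
  rw [tP, J4Order.let2_eq_letter (by norm_num), J4Order.let2_eq_letter (by norm_num),
    J4Order.let2_eq_letter (by norm_num)]
  constructor
  · rintro ⟨g, rfl⟩
    cases g
    · exact Or.inl rfl
    · exact Or.inr (Or.inl rfl)
    · exact Or.inr (Or.inr rfl)
  · rintro (rfl | rfl | rfl)
    · exact ⟨.x, rfl⟩
    · exact ⟨.y, rfl⟩
    · exact ⟨.t, rfl⟩

/-- The presented group is the group generated in the representation. -/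
noncomputable def isoHG : Spor.J4 ≃* hG :=
  (MonoidHom.ofInjective rho_injective).trans (MulEquiv.subgroupCongr range_rho)

theorem isJ4 : Cfsg.IsJ4 Spor.J4 := by
  haveI := J4Order.hG_simple
  haveI : Nontrivial Spor.J4 := isoHG.toEquiv.nontrivial
  exact ⟨isoHG.isSimpleGroup, by rw [Nat.card_congr isoHG.toEquiv, J4Order.card_hG]⟩

theorem map_Nh : Nh.map rho = nG := by
  apply le_antisymm
  · rintro _ ⟨x, hx, rfl⟩
    exact rho_mem_nG hx
  · intro n hn
    obtain ⟨x, hx, rfl⟩ := exists_pre hn
    exact ⟨x, hx, rfl⟩

theorem index_Nh : Nh.index = 173067389 := by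
  have hc : Nat.card Nh = 2048 * 244823040 := by
    rw [← J4Order.card_nG, ← map_Nh, Subgroup.card_map_of_injective rho_injective]
  have h := Nh.card_mul_index
  rw [isJ4.2, hc] at h
  exact Nat.eq_of_mul_eq_mul_left (by norm_num : 0 < 2048 * 244823040) (h.trans (by norm_num))

theorem closure_Nh : Subgroup.closure {jk [0], jk [2], eJ} = Nh := by
  set H := Subgroup.closure {jk [0], jk [2], eJ} with hH
  apply le_antisymm
  · rw [hH, Subgroup.closure_le]
    rintro _ (rfl | rfl | rfl)
    · exact jk_mem _
    · exact jk_mem _
    · rw [← Eg_2007]; exact Eg_mem (by norm_num)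
  · intro x hx
    have hr : rho x ∈ H.map rho := by
      have hmem : ∀ g : Spor.J4, g ∈ ({jk [0], jk [2], eJ} : Set Spor.J4) → rho g ∈ H.map rho := fun g hg =>
        Subgroup.mem_map_of_mem _ (Subgroup.subset_closure hg)
      have h0 : let2 0 ∈ H.map rho := by
        have := hmem (jk [0]) (by simp)
        rwa [rho_jk (by simp), J4Order.el_single] at this
      have h2 : let2 2 ∈ H.map rho := by
        have := hmem (jk [2]) (by simp)
        rwa [rho_jk (by simp), J4Order.el_single] at this
      have he : eA 2007 ∈ H.map rho := by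
        have := hmem eJ (by simp)
        rwa [rho_eJ] at this
      have hK : J4Order.rK.range ≤ H.map rho := by
        rw [J4Order.rK_range, Subgroup.closure_le]
        rintro _ (rfl | rfl)
        · exact h0
        · exact h2
      have hE : eG ≤ H.map rho := by
        refine J4Order.eG_le_of_normalized (fun g hg => ?_) (a := 2007) (by norm_num) (by norm_num) he
        refine Subgroup.le_normalizer ?_
        unfold J4Order.xyGen
        split
        · exact h0
        · exact h2
      exact (sup_le hE hK : nG ≤ H.map rho) (rho_mem_nG hx)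
    obtain ⟨y, hy, e⟩ := hr
    exact rho_injective e ▸ hy

end CfsgLib.Sporadic.J4Inj
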