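import Cfsg.Agent.Lib.Sporadic.J4Rep.Embed

/-!
# The third generator of the presented J4 against the copy of M24 (owner: helper21)
-/

set_option autoImplicit false
set_option maxRecDepth 20000

namespace CfsgLib.Sporadic.J4Inj

open Cfsg
open CfsgLib.Sporadic (Rep)
open CfsgLib.Sporadic.J4Rep (jL toJ4)

/-- A word of the first two generators, in the presented J4. -/
noncomputable def jk (w : List ℕ) : Spor.J4 := toJ4 (J4Pres.val w)

/-- The third generator. -/
noncomputable def jT : Spor.J4 := jL 4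

theorem jk_nil : jk [] = 1 := by simp [jk, J4Pres.val]

theorem jk_append (u v : List ℕ) : jk (u ++ v) = jk u * jk v := by rw [jk, J4Pres.val_append, map_mul]; rfl

theorem jk_cons {k : ℕ} (hk : k < 4) (w : List ℕ) : jk (k :: w) = jL k * jk w := by
  rw [show k :: w = [k] ++ w from rfl, jk_append]
  congr 1
  show toJ4 (J4Pres.val [k]) = _
  rw [show J4Pres.val [k] = J4Pres.L k by simp [J4Pres.val]]
  exact J4Rep.lift_fr hk

theorem toM24_val (w : List ℕ) : J4Pres.toM24 (J4Pres.val w) = (w.map J4Pres.perm).prod := by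
  rw [J4Pres.val, map_list_prod, List.map_map]
  exact congrArg List.prod (List.map_congr_left fun k _ => J4Pres.lift_fr k)

theorem val_eq_of_pword {u v : List ℕ} (h : Nat.beq (J4Pres.pword u) (J4Pres.pword v) = true) :
    J4Pres.val u = J4Pres.val v := by
  apply J4Pres.toM24_injective
  rw [toM24_val, toM24_val]
  apply Subtype.ext
  have hu := J4Pres.rep_word u
  rw [Nat.eq_of_beq_eq_true h] at hu
  exact hu.unique (J4Pres.rep_word v)

theorem jk_eq_of_pword {u v : List ℕ} (h : Nat.beq (J4Pres.pword u) (J4Pres.pword v) = true) : jk u = jk v :=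
  congrArg toJ4 (val_eq_of_pword h)

theorem jk_eq_one {u : List ℕ} (h : Nat.beq (J4Pres.pword u) pone = true) : jk u = 1 := by
  rw [jk_eq_of_pword (v := []) h, jk_nil]

/-- The inverse of a word. -/
noncomputable def invK (w : List ℕ) : List ℕ := (w.map fun k => k ^^^ 1).reverse

theorem jk_invK : ∀ w : List ℕ, jk (invK w) = (jk w)⁻¹
  | [] => by simp [invK, jk_nil]
  | k :: w => by
    have h1 : jk [k ^^^ 1] = (jk [k])⁻¹ := by
      refine eq_inv_of_mul_eq_one_left ?_
      rw [← jk_append]
      by_cases hk : k < 4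
      · refine jk_eq_one ?_
        interval_cases k <;> decide +kernel
      · have hd : (k ^^^ 1) / 2 = k / 2 := by
          rw [← Nat.shiftRight_one, Nat.shiftRight_xor_distrib, Nat.shiftRight_one]
          simp
        simp [jk, J4Pres.val, J4Pres.L_big (by omega : 4 ≤ k), J4Pres.L_big (by omega : 4 ≤ k ^^^ 1)]
    show jk ((((k :: w).map fun k => k ^^^ 1).reverse)) = _
    rw [List.map_cons, List.reverse_cons, jk_append, ← invK, jk_invK w, h1, show k :: w = [k] ++ w from rfl,
      jk_append, mul_inv_rev]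

theorem rel_one {r : FreeGroup Spor.J4.Gen} (hr : r ∈ Spor.J4.extra) :
    PresentedGroup.mk (Spor.coxRelators Spor.J4.edges ∪ {r | r ∈ Spor.J4.extra}) r = 1 :=
  PresentedGroup.one_of_mem (Or.inr hr)

theorem jT_sq : jT * jT = 1 := by
  have h := rel_one (r := Spor.J4.t ^ 2) (by simp [Spor.J4.extra])
  rw [map_pow, pow_two] at h
  exact h

theorem jT_inv : jT⁻¹ = jT := inv_eq_of_mul_eq_one_right jT_sq

/-- The second generator of the centraliser of the third generator inside the copy of M24. -/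
noncomputable def uWord : List ℕ := [2, 0, 2, 0, 3, 0, 3, 0, 2, 0, 2, 0, 2]

theorem comm_of_commutator {G : Type*} [Group G] {a b : G} (h : a⁻¹ * b⁻¹ * a * b = 1) : Commute b a :=
  calc b * a = b * a * (a⁻¹ * b⁻¹ * a * b) := by rw [h, mul_one]
    _ = a * b := by group

theorem comm_x : Commute (jk [0]) jT := by
  have h := rel_one (r := Spor.J4.t⁻¹ * Spor.J4.x⁻¹ * Spor.J4.t * Spor.J4.x) (by simp [Spor.J4.extra])
  simp only [map_mul, map_inv] at h
  rw [jk_cons (by norm_num), jk_nil, mul_one]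
  exact comm_of_commutator h

theorem comm_u : Commute (jk uWord) jT := by
  have h := rel_one (r := Spor.J4.t⁻¹ * (Spor.J4.y * Spor.J4.x * Spor.J4.y *
    ((Spor.J4.x * Spor.J4.y⁻¹) ^ 2) * ((Spor.J4.x * Spor.J4.y) ^ 3))⁻¹ * Spor.J4.t *
    (Spor.J4.y * Spor.J4.x * Spor.J4.y * ((Spor.J4.x * Spor.J4.y⁻¹) ^ 2) *
    ((Spor.J4.x * Spor.J4.y) ^ 3))) (by simp [Spor.J4.extra])
  simp only [map_mul, map_inv, map_pow] at h
  refine comm_of_commutator (Eq.trans ?_ h)
  simp only [uWord, jk_cons (show (0 : ℕ) < 4 by norm_num), jk_cons (show (2 : ℕ) < 4 by norm_num),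
    jk_cons (show (3 : ℕ) < 4 by norm_num), jk_nil, mul_one, pow_succ, pow_zero, one_mul, mul_assoc]
  rfl

end CfsgLib.Sporadic.J4Inj
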