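import Cfsg.Agent.Lib.Sporadic.J4Inj.Graph

/-!
# Checks of the nodes, part 0 (owner: helper21)
-/

set_option autoImplicit false
set_option maxRecDepth 100000

namespace CfsgLib.Sporadic.J4Inj

theorem nodes0_ok : (List.range 576).all (fun q => nodeOK graph (0 + q)) = true := by
  decide +kernel

theorem nodes1_ok : (List.range 576).all (fun q => nodeOK graph (576 + q)) = true := by
  decide +kernel

theorem nodes2_ok : (List.range 576).all (fun q => nodeOK graph (1152 + q)) = true := by
  decide +kernel

theorem nodes3_ok : (List.range 576).all (fun q => nodeOK graph (1728 + q)) = true := by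
  decide +kernel

theorem nodes4_ok : (List.range 576).all (fun q => nodeOK graph (2304 + q)) = true := by
  decide +kernel

end CfsgLib.Sporadic.J4Inj
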