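import Cfsg.Agent.Lib.Sporadic.J4Inj.Graph

/-!
# Checks of the nodes, part 1 (owner: helper21)
-/

set_option autoImplicit false
set_option maxRecDepth 100000

namespace CfsgLib.Sporadic.J4Inj

theorem nodes5_ok : (List.range 576).all (fun q => nodeOK graph (2880 + q)) = true := by
  decide +kernel

theorem nodes6_ok : (List.range 576).all (fun q => nodeOK graph (3456 + q)) = true := by
  decide +kernel

theorem nodes7_ok : (List.range 576).all (fun q => nodeOK graph (4032 + q)) = true := by
  decide +kernel

theorem nodes8_ok : (List.range 576).all (fun q => nodeOK graph (4608 + q)) = true := by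
  decide +kernel

theorem nodes9_ok : (List.range 576).all (fun q => nodeOK graph (5184 + q)) = true := by
  decide +kernel

end CfsgLib.Sporadic.J4Inj
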