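import Cfsg.Agent.Lib.Sporadic.J4Inj.Graph

/-!
# Checks of the nodes, part 2 (owner: helper21)
-/

set_option autoImplicit false
set_option maxRecDepth 100000

namespace CfsgLib.Sporadic.J4Inj

theorem nodes10_ok : (List.range 576).all (fun q => nodeOK graph (5760 + q)) = true := by
  decide +kernel

theorem nodes11_ok : (List.range 576).all (fun q => nodeOK graph (6336 + q)) = true := by
  decide +kernel

theorem nodes12_ok : (List.range 576).all (fun q => nodeOK graph (6912 + q)) = true := by
  decide +kernel

theorem nodes13_ok : (List.range 576).all (fun q => nodeOK graph (7488 + q)) = true := by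
  decide +kernel

theorem nodes14_ok : (List.range 576).all (fun q => nodeOK graph (8064 + q)) = true := by
  decide +kernel

end CfsgLib.Sporadic.J4Inj
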