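import Cfsg.Agent.Lib.Sporadic.J4Inj.CertTargets
import Cfsg.Agent.Lib.Sporadic.J4Inj.CertNodes0
import Cfsg.Agent.Lib.Sporadic.J4Inj.CertNodes1
import Cfsg.Agent.Lib.Sporadic.J4Inj.CertNodes2
import Cfsg.Agent.Lib.Sporadic.J4Inj.CertNodes3

/-!
# Every node and every traced word checks (owner: helper21)
-/

set_option autoImplicit false
set_option maxRecDepth 100000

namespace CfsgLib.Sporadic.J4Inj

theorem block_ok {b n : ℕ} (h : (List.range n).all (fun q => nodeOK graph (b + q)) = true) {k : ℕ}
    (h1 : b ≤ k) (h2 : k < b + n) : nodeOK graph k = true := by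
  have h' := List.all_eq_true.1 h (k - b) (List.mem_range.2 (by omega))
  rwa [Nat.add_sub_cancel' h1] at h'

theorem all_nodes_ok : ∀ k < nNodes, nodeOK graph k = true := by
  intro k hk
  unfold nNodes at hk
  by_cases c0 : k < 576
  · exact block_ok nodes0_ok (by omega) (by omega)
  by_cases c1 : k < 1152
  · exact block_ok nodes1_ok (by omega) (by omega)
  by_cases c2 : k < 1728
  · exact block_ok nodes2_ok (by omega) (by omega)
  by_cases c3 : k < 2304
  · exact block_ok nodes3_ok (by omega) (by omega)
  by_cases c4 : k < 2880
  · exact block_ok nodes4_ok (by omega) (by omega)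
  by_cases c5 : k < 3456
  · exact block_ok nodes5_ok (by omega) (by omega)
  by_cases c6 : k < 4032
  · exact block_ok nodes6_ok (by omega) (by omega)
  by_cases c7 : k < 4608
  · exact block_ok nodes7_ok (by omega) (by omega)
  by_cases c8 : k < 5184
  · exact block_ok nodes8_ok (by omega) (by omega)
  by_cases c9 : k < 5760
  · exact block_ok nodes9_ok (by omega) (by omega)
  by_cases c10 : k < 6336
  · exact block_ok nodes10_ok (by omega) (by omega)
  by_cases c11 : k < 6912
  · exact block_ok nodes11_ok (by omega) (by omega)
  by_cases c12 : k < 7488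
  · exact block_ok nodes12_ok (by omega) (by omega)
  by_cases c13 : k < 8064
  · exact block_ok nodes13_ok (by omega) (by omega)
  by_cases c14 : k < 8640
  · exact block_ok nodes14_ok (by omega) (by omega)
  by_cases c15 : k < 9216
  · exact block_ok nodes15_ok (by omega) (by omega)
  by_cases c16 : k < 9792
  · exact block_ok nodes16_ok (by omega) (by omega)
  by_cases c17 : k < 10368
  · exact block_ok nodes17_ok (by omega) (by omega)
  exact block_ok nodes18_ok (by omega) (by omega)

theorem all_targets_ok : ∀ t ∈ tgtAll, targetOK graph nNodes t = true := by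
  intro t ht
  simp only [tgtAll, List.mem_append] at ht
  rcases ht with ((((h | h) | h) | h) | h) | h
  · exact List.all_eq_true.1 tgt0_ok t h
  · exact List.all_eq_true.1 tgt1_ok t h
  · exact List.all_eq_true.1 tgt2_ok t h
  · exact List.all_eq_true.1 tgt3_ok t h
  · exact List.all_eq_true.1 tgt4_ok t h
  · exact List.all_eq_true.1 tgt5_ok t h

end CfsgLib.Sporadic.J4Inj
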