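import Cfsg.Agent.Lib.Sporadic.J4Inj.Graph

/-!
# Checks of the traced words (owner: helper21)
-/

set_option autoImplicit false
set_option maxRecDepth 100000

namespace CfsgLib.Sporadic.J4Inj

theorem tgt0_ok : tgt0.all (fun t => targetOK graph nNodes t) = true := by decide +kernel

theorem tgt1_ok : tgt1.all (fun t => targetOK graph nNodes t) = true := by decide +kernel

theorem tgt2_ok : tgt2.all (fun t => targetOK graph nNodes t) = true := by decide +kernel

theorem tgt3_ok : tgt3.all (fun t => targetOK graph nNodes t) = true := by decide +kernel

theorem tgt4_ok : tgt4.all (fun t => targetOK graph nNodes t) = true := by decide +kernel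

theorem tgt5_ok : tgt5.all (fun t => targetOK graph nNodes t) = true := by decide +kernel

end CfsgLib.Sporadic.J4Inj
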