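import Cfsg.Agent.Lib.Sporadic.J4Inj.Translations

set_option autoImplicit false

/-!
# Data: even cocode values of pairs of points (owner: helper21)
-/

namespace CfsgLib.Sporadic.J4Inj

/-- Eleven bits for each pair, a row per first point. -/
def duadRows : List ℕ := [
  18550379142066089909291143163446412473858285164086967977844679302287242659106816,
  25993655287744159045548056043250467467899141391337270293940771003450886874726914,
  11222951652338395263918603850204425571880689899588584890537869959275640506033670,
  13655773372365493363991510877784363630872879554328907631054818199140241177405102,
  14814033775525892331972965865052836888228908673615575566862927737380707223725822,
  24067445170639293657775081795688176293537139746951764686836889715351638856428415,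
  16638650106956707151896152644138078794690231738833659545622255926451538405093756,
  20302363851827289527144768298675060360928236091038001931881960119470201215633531,
  10498671396086055469270858850817517306864909102652650398027290924796026018510804,
  16841611411385152200458609517507362204404088884045839101884481010843269902123402,
  21171228826756751359795259255063502476844750837647161630985281033682411219953847,
  8514989263969162586439289537898584326960267407126107529067573695599980696993613,
  5922649430313040054118222462459302705673210364907455327406544524381594357912728,
  10006314608253122694639023210308714342943600052439990334919254091091622776113074,
  15842416808897354611605549284462945838732793091631137109846366370550594116659527,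
  637280658426611223728901376577666257559952519164627090696616296252107732385069,
  1288703191758598076103485593848664756020149660795261093551548081882278414439768,
  2114124920715088701550639066752900981718539215442401203189565567734506298576275,
  72518515816772545209737832379183121383704128171920598716770636733351359689988,
  144923870593678449097053482087925497007845739048055509111306250802004741344523,
  289508589270800487200233066855651949120723143656804544117766415748644120083733,
  115961706602716477744046878326234003470172322376395982861980631378268603833609,
  231584261302349939021872707863712060558872754155322603284595280228469626674449,
  113105852839366653393745133285737627905519538241483002141588949633101995265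
]

/-- Pairs giving the unit values. -/
def unitPairs : List (List (ℕ × ℕ)) := [
  [(0, 1), (5, 6)],
  [(21, 19)],
  [(22, 20)],
  [(23, 21)],
  [(23, 22)],
  [(0, 10), (17, 18)],
  [(0, 6), (7, 14)],
  [(0, 4), (5, 23)],
  [(0, 1), (2, 18)],
  [(0, 1), (19, 21)],
  [(0, 12), (17, 19)]
]

end CfsgLib.Sporadic.J4Inj
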