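import Cfsg.Agent.Lib.Sporadic.J4Inj.Engine

set_option autoImplicit false
set_option maxRecDepth 20000

/-!
# Data: sextets, lines and the translations (owner: helper21)
-/

namespace CfsgLib.Sporadic.J4Inj

/-- The tokens. -/
def toks2 : List (ℕ × List ℕ) := [
  (1, [2, 0, 2, 0, 3, 0, 3, 0, 3, 0, 2, 0, 2, 0, 3, 0]),
  (1, [3, 0, 3, 0, 3, 0, 2, 0, 3, 0, 3, 0, 3, 0, 3, 0, 3, 0, 3, 0, 2, 0, 3, 0]),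
  (1, [2, 0, 2, 0, 3, 0, 2, 0, 3, 0, 2, 0, 2, 0, 3, 0]),
  (1, [2, 0, 2, 0, 2, 0, 2, 0, 3, 0, 3, 0, 3, 0, 2, 0, 3, 0, 2, 0, 2, 0, 2, 0]),
  (1, [0, 3, 0, 2, 0, 3, 0, 3, 0, 2, 0, 3, 0, 2, 0, 2, 0, 3, 0, 2, 0]),
  (1, [2, 0, 2, 0, 2, 0, 3, 0, 3, 0, 3, 0, 2, 0, 2, 0, 3, 0]),
  (1, [2, 0, 2, 0, 2, 0, 2, 0, 3, 0, 3, 0, 3, 0]),
  (1, [2, 0, 3, 0, 2, 0, 2, 0, 3, 0, 3, 0, 3, 0, 3, 0, 2, 0, 2, 0]),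
  (1, [0, 2, 0, 3, 0, 3, 0, 2, 0, 3, 0, 3, 0, 2, 0, 3, 0]),
  (1, [3, 0, 3, 0, 2, 0, 3, 0, 3, 0, 3, 0, 3, 0]),
  (1, [0, 2, 0, 3, 0, 3, 0, 2, 0, 3, 0, 3, 0, 2, 0]),
  (1, [0, 3, 0, 3, 0, 3, 0, 3, 0, 2, 0, 3, 0, 3, 0]),
  (1, [0, 3, 0, 3, 0, 2, 0, 3, 0, 2, 0, 2, 0, 3, 0, 3, 0]),
  (1, [2, 0, 2, 0, 3, 0, 3, 0, 3, 0, 2, 0, 2, 0, 3, 0, 2, 0, 3, 0, 3, 0]),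
  (1, [2, 0, 3, 0, 3, 0, 2, 0, 3, 0, 3, 0, 3, 0, 2, 0, 3, 0]),
  (1, [0, 2, 0, 3, 0, 3, 0, 3, 0, 2, 0, 3, 0, 2, 0, 3, 0, 2, 0, 2, 0, 2, 0]),
  (1, [2, 0, 2, 0, 2, 0, 3, 0, 2, 0, 3, 0, 3, 0, 2, 0]),
  (1, [0, 3, 0, 2, 0, 3, 0, 3, 0, 2, 0, 3, 0]),
  (1, [0, 3, 0, 3, 0, 2, 0, 3, 0, 3, 0, 3, 0, 3, 0]),
  (1, [3, 0, 2, 0, 2, 0, 3, 0, 3, 0, 2, 0, 3, 0, 2, 0, 2, 0, 3, 0, 2, 0]),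
  (1, [3, 0, 3, 0, 2, 0, 3, 0, 2, 0, 3, 0, 3, 0, 3, 0]),
  (1, [0, 2, 0, 2, 0, 2, 0, 2, 0, 3, 0, 2, 0, 3, 0, 2, 0, 3, 0, 3, 0]),
  (1, [0, 3, 0, 2, 0, 2, 0, 2, 0, 3, 0, 2, 0, 2, 0, 2, 0, 3, 0, 3, 0]),
  (1, [3, 0, 3, 0, 3, 0, 3, 0, 2, 0, 2, 0, 3, 0]),
  (1, [2, 0, 2, 0, 2, 0, 2, 0, 3, 0, 2, 0, 3, 0, 2, 0, 3, 0, 3, 0]),
  (1, [2, 0, 2, 0, 3, 0, 3, 0, 3, 0, 3, 0, 2, 0, 2, 0]),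
  (1, [3, 0, 3, 0, 2, 0, 3, 0, 2, 0, 2, 0, 3, 0, 2, 0, 3, 0, 2, 0, 2, 0, 2, 0]),
  (1, [2, 0, 2, 0, 2, 0, 2, 0, 2, 0, 3, 0, 3, 0, 2, 0, 3, 0, 2, 0]),
  (1, [0, 3, 0, 3, 0, 3, 0, 2, 0, 2, 0, 3, 0, 3, 0, 3, 0, 3, 0]),
  (1, [0, 2, 0, 2, 0, 3, 0, 3, 0, 3, 0, 3, 0, 2, 0, 2, 0]),
  (1, [2, 0, 3, 0, 2, 0, 2, 0, 2, 0, 2, 0, 3, 0, 3, 0, 3, 0]),
  (1, [3, 0, 2, 0, 2, 0, 2, 0, 3, 0, 2, 0, 3, 0, 2, 0, 2, 0, 2, 0]),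
  (1, [2, 0, 3, 0, 3, 0, 2, 0, 3, 0, 3, 0, 2, 0, 3, 0]),
  (1, [3, 0, 2, 0, 3, 0, 3, 0, 2, 0, 3, 0]),
  (1, [3, 0, 2, 0, 2, 0, 2, 0, 3, 0, 2, 0, 3, 0, 2, 0, 3, 0, 2, 0, 3, 0]),
  (1, [2, 0, 3, 0, 2, 0, 2, 0, 2, 0, 3, 0, 2, 0]),
  (1, [0, 3, 0, 2, 0, 2, 0, 3, 0, 2, 0, 2, 0, 3, 0, 3, 0, 2, 0, 3, 0, 2, 0]),
  (1, [2, 0, 3, 0, 3, 0, 2, 0, 2, 0, 2, 0, 3, 0, 2, 0]),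
  (1, [3, 0, 2, 0, 2, 0, 3, 0, 3, 0, 2, 0, 3, 0, 3, 0, 3, 0, 2, 0, 2, 0]),
  (1, [0, 3, 0, 2, 0, 3, 0, 3, 0, 3, 0, 2, 0, 3, 0]),
  (1, [0, 3, 0, 3, 0, 3, 0, 3, 0, 2, 0, 2, 0, 3, 0, 2, 0, 3, 0, 3, 0]),
  (1, [2, 0, 3, 0, 2, 0, 2, 0, 2, 0, 2, 0, 2, 0, 3, 0, 3, 0, 3, 0]),
  (1, [3, 0, 3, 0, 2, 0, 2, 0, 2, 0, 2, 0, 3, 0, 2, 0, 2, 0]),
  (1, [0, 2, 0, 2, 0, 3, 0, 3, 0, 3, 0, 2, 0, 2, 0]),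
  (1, [3, 0, 2, 0, 2, 0, 2, 0, 2, 0, 2, 0]),
  (1, [0, 3, 0, 3, 0, 2, 0, 2, 0]),
  (1, [3, 0, 2, 0, 2, 0, 2, 0, 2, 0, 3, 0, 3, 0, 3, 0, 2, 0]),
  (1, [2, 0, 3, 0, 2, 0, 3, 0, 2, 0, 3, 0, 2, 0, 2, 0, 2, 0]),
  (1, [3, 0, 2, 0, 2, 0, 3, 0, 3, 0, 3, 0, 3, 0, 3, 0, 2, 0, 3, 0]),
  (1, [2, 0, 3, 0, 3, 0, 3, 0, 3, 0]),
  (1, [2, 0, 2, 0, 3, 0, 2, 0, 2, 0, 3, 0, 3, 0, 2, 0, 3, 0, 2, 0]),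
  (1, [2, 0, 2, 0, 2, 0, 2, 0, 2, 0, 2, 0, 3, 0, 3, 0, 2, 0]),
  (1, [3, 0, 2, 0, 2, 0, 2, 0, 2, 0, 3, 0, 3, 0, 2, 0, 3, 0, 2, 0]),
  (1, [0, 2, 0, 2, 0, 3, 0, 3, 0, 2, 0, 3, 0, 2, 0, 3, 0, 3, 0, 3, 0]),
  (1, [2, 0, 3, 0, 3, 0, 2, 0, 2, 0, 2, 0, 3, 0, 3, 0, 2, 0, 2, 0]),
  (1, [0, 2, 0, 3, 0, 2, 0, 3, 0, 3, 0, 2, 0, 3, 0]),
  (1, [2, 0, 3, 0, 2, 0, 2, 0, 2, 0, 3, 0, 3, 0, 3, 0, 3, 0, 3, 0]),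
  (1, [3, 0, 2, 0, 3, 0, 2, 0, 2, 0, 2, 0, 2, 0, 3, 0, 3, 0]),
  (1, [3, 0, 2, 0, 2, 0, 3, 0, 3, 0, 3, 0, 3, 0]),
  (1, [0, 2, 0, 2, 0, 3, 0, 3, 0, 3, 0, 3, 0, 2, 0, 2, 0, 3, 0]),
  (1, [0, 3, 0, 2, 0, 3, 0, 2, 0, 2, 0, 2, 0, 2, 0, 3, 0, 2, 0]),
  (1, [3, 0, 3, 0, 2, 0, 3, 0, 3, 0, 3, 0, 2, 0, 2, 0, 3, 0, 2, 0, 3, 0]),
  (1, [2, 0, 3, 0, 3, 0, 2, 0, 2, 0, 2, 0, 3, 0, 3, 0, 3, 0, 2, 0]),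
  (1, [0, 2, 0, 2, 0, 2, 0, 3, 0, 2, 0, 3, 0, 2, 0]),
  (1, [0, 3, 0, 3, 0, 3, 0, 2, 0, 2, 0, 3, 0, 2, 0, 3, 0, 3, 0, 2, 0, 2, 0]),
  (1, [2, 0, 2, 0, 2, 0, 2, 0, 3, 0, 3, 0, 2, 0, 2, 0, 3, 0, 2, 0]),
  (1, [0, 3, 0, 3, 0, 2, 0, 3, 0, 2, 0, 3, 0, 3, 0, 2, 0, 3, 0]),
  (1, [0, 3, 0, 3, 0, 2, 0, 3, 0, 2, 0, 3, 0, 3, 0]),
  (1, [0, 3, 0, 2, 0, 2, 0, 3, 0, 2, 0, 3, 0, 3, 0, 2, 0, 2, 0, 3, 0]),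
  (1, [0, 3, 0, 3, 0, 3, 0, 2, 0, 3, 0, 3, 0, 3, 0, 2, 0, 2, 0]),
  (1, [0, 3, 0, 3, 0, 2, 0, 2, 0, 3, 0, 3, 0, 3, 0, 3, 0, 3, 0, 2, 0, 2, 0]),
  (1, [2, 0, 3, 0, 3, 0, 3, 0, 2, 0, 2, 0, 2, 0, 2, 0, 2, 0]),
  (1, [0, 2, 0, 3, 0, 3, 0, 2, 0, 2, 0, 3, 0, 3, 0, 3, 0, 3, 0, 2, 0]),
  (1, [3, 0, 3, 0, 3, 0, 3, 0, 2, 0]),
  (1, [3, 0, 2, 0, 3, 0, 3, 0, 2, 0, 2, 0]),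
  (1, [3, 0, 2, 0, 2, 0, 3, 0, 3, 0, 3, 0, 2, 0, 2, 0]),
  (1, [3, 0, 2, 0, 2, 0, 2, 0, 2, 0, 2, 0, 2, 0, 2, 0, 2, 0]),
  (1, [0, 2, 0, 2, 0, 3, 0, 2, 0, 2, 0, 2, 0, 3, 0, 2, 0, 3, 0, 2, 0]),
  (1, [3, 0, 3, 0, 3, 0, 2, 0, 2, 0]),
  (1, [0, 3, 0, 2, 0, 3, 0, 2, 0, 2, 0, 2, 0, 2, 0, 2, 0]),
  (1, [2, 0, 2, 0, 3, 0, 3, 0, 2, 0, 2, 0, 3, 0, 2, 0, 2, 0]),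
  (1, [2, 0, 3, 0, 2, 0, 3, 0, 2, 0, 2, 0, 3, 0, 2, 0, 3, 0, 2, 0, 2, 0, 2, 0]),
  (1, [3, 0, 3, 0, 3, 0, 2, 0, 2, 0, 2, 0, 3, 0, 3, 0, 2, 0]),
  (1, [0, 2, 0, 2, 0, 3, 0, 3, 0, 2, 0, 3, 0, 3, 0, 2, 0, 2, 0]),
  (1, [0, 3, 0, 2, 0, 2, 0, 2, 0, 2, 0, 3, 0, 2, 0]),
  (1, [0, 2, 0, 3, 0, 3, 0, 3, 0, 2, 0]),
  (1, [2, 0, 2, 0, 2, 0, 3, 0, 3, 0]),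
  (1, [0, 3, 0, 3, 0, 3, 0, 2, 0, 2, 0, 2, 0, 2, 0, 2, 0, 2, 0, 2, 0, 2, 0]),
  (1, [2, 0, 3, 0, 3, 0, 2, 0, 2, 0, 3, 0, 2, 0, 3, 0, 3, 0, 2, 0, 2, 0]),
  (1, [3, 0, 2, 0, 2, 0, 3, 0, 3, 0, 2, 0, 2, 0, 2, 0, 3, 0, 3, 0, 3, 0]),
  (1, [0, 2, 0, 3, 0, 3, 0, 2, 0, 3, 0, 3, 0, 3, 0, 2, 0, 2, 0, 3, 0, 2, 0]),
  (1, [3, 0, 3, 0, 3, 0, 3, 0, 2, 0, 2, 0, 2, 0, 3, 0, 3, 0, 2, 0]),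
  (1, [2, 0, 2, 0, 2, 0, 2, 0, 3, 0, 3, 0, 2, 0, 2, 0]),
  (1, [3, 0, 2, 0, 3, 0, 2, 0, 3, 0, 2, 0, 2, 0, 3, 0, 2, 0]),
  (1, [0, 3, 0, 2, 0, 2, 0, 3, 0, 2, 0, 2, 0, 2, 0, 2, 0, 3, 0, 3, 0]),
  (1, [2, 0, 3, 0, 2, 0, 2, 0, 3, 0]),
  (1, [0, 3, 0, 2, 0, 2, 0, 3, 0, 2, 0, 3, 0, 3, 0]),
  (1, [2, 0, 2, 0, 2, 0, 3, 0, 3, 0, 3, 0, 3, 0, 3, 0, 2, 0, 3, 0]),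
  (1, [3, 0, 3, 0, 3, 0, 2, 0, 3, 0, 2, 0, 2, 0, 3, 0]),
  (1, [0, 3, 0, 2, 0, 2, 0, 2, 0, 3, 0, 2, 0, 3, 0, 3, 0]),
  (1, [3, 0, 2, 0, 2, 0, 2, 0, 2, 0, 3, 0, 2, 0, 2, 0, 2, 0]),
  (1, [0, 2, 0, 3, 0, 3, 0, 3, 0, 3, 0, 2, 0]),
  (1, [2, 0, 3, 0, 2, 0, 2, 0, 2, 0]),
  (1, [3, 0, 2, 0, 2, 0, 3, 0, 3, 0, 3, 0, 3, 0, 2, 0]),
  (1, [0, 3, 0, 3, 0, 2, 0, 2, 0, 2, 0, 2, 0, 2, 0]),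
  (1, [0, 2, 0, 2, 0, 3, 0, 2, 0, 3, 0, 3, 0, 3, 0]),
  (1, [2, 0, 3, 0, 3, 0, 2, 0, 2, 0, 3, 0, 3, 0, 3, 0, 3, 0, 2, 0]),
  (1, [2, 0, 2, 0, 3, 0, 3, 0, 3, 0, 2, 0]),
  (1, [0, 3, 0, 2, 0, 3, 0, 3, 0, 2, 0]),
  (1, [2, 0, 3, 0, 3, 0, 2, 0, 2, 0, 2, 0, 3, 0, 3, 0, 2, 0]),
  (1, [0, 3, 0, 3, 0, 2, 0, 3, 0, 3, 0, 3, 0, 3, 0, 2, 0, 3, 0, 2, 0]),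
  (1, [3, 0, 3, 0, 2, 0, 3, 0, 2, 0, 2, 0, 2, 0, 2, 0, 2, 0, 2, 0]),
  (1, [3, 0, 2, 0, 3, 0, 3, 0, 3, 0]),
  (1, [3, 0, 3, 0, 3, 0, 3, 0, 2, 0, 2, 0, 3, 0, 2, 0, 2, 0, 2, 0]),
  (1, [2, 0, 3, 0, 3, 0, 3, 0, 3, 0, 3, 0, 2, 0]),
  (1, [0, 2, 0, 2, 0, 2, 0, 3, 0, 2, 0, 3, 0, 2, 0, 2, 0, 2, 0]),
  (1, [3, 0, 2, 0, 3, 0, 2, 0, 2, 0, 3, 0, 2, 0, 3, 0]),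
  (1, [0, 3, 0, 3, 0, 2, 0, 2, 0, 2, 0, 2, 0, 3, 0, 2, 0, 3, 0, 3, 0, 2, 0]),
  (1, [0, 3, 0, 2, 0, 3, 0, 3, 0, 3, 0, 3, 0, 2, 0, 3, 0, 2, 0]),
  (1, [2, 0, 3, 0, 2, 0, 3, 0, 3, 0, 3, 0]),
  (1, [2, 0, 2, 0, 2, 0, 3, 0, 3, 0, 3, 0, 2, 0]),
  (1, [3, 0, 3, 0, 2, 0, 2, 0, 3, 0, 3, 0, 3, 0, 3, 0, 3, 0]),
  (1, [0, 2, 0, 3, 0, 2, 0, 2, 0, 3, 0, 3, 0, 3, 0, 2, 0, 2, 0]),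
  (1, [3, 0, 2, 0, 2, 0, 3, 0, 2, 0, 3, 0, 3, 0, 2, 0, 2, 0]),
  (1, [3, 0, 2, 0, 3, 0, 3, 0, 2, 0, 3, 0, 2, 0, 3, 0, 3, 0, 2, 0, 3, 0]),
  (1, [0, 2, 0, 2, 0, 2, 0, 2, 0, 2, 0, 3, 0, 3, 0, 3, 0, 3, 0, 2, 0]),
  (1, [2, 0, 2, 0, 2, 0, 2, 0, 3, 0, 3, 0, 2, 0, 2, 0, 2, 0, 2, 0, 3, 0, 2, 0]),
  (1, []),
  (1, [2, 0, 2, 0, 3, 0, 2, 0, 3, 0, 3, 0, 2, 0, 2, 0]),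
  (1, [2, 0, 3, 0, 2, 0, 3, 0, 3, 0, 2, 0, 2, 0, 2, 0, 2, 0]),
  (1, [2, 0, 3, 0, 3, 0, 2, 0, 3, 0, 2, 0, 3, 0, 3, 0, 2, 0, 3, 0]),
  (1, [2, 0, 3, 0, 3, 0, 2, 0, 3, 0, 3, 0, 3, 0, 3, 0, 3, 0, 3, 0, 2, 0, 3, 0]),
  (1, [2, 0, 3, 0, 2, 0, 3, 0, 2, 0, 2, 0, 2, 0, 2, 0, 2, 0]),
  (1, [3, 0, 3, 0, 3, 0, 3, 0, 3, 0, 3, 0]),
  (1, [0, 2, 0, 3, 0, 3, 0, 2, 0, 3, 0, 2, 0, 2, 0, 3, 0, 2, 0]),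
  (1, [2, 0, 3, 0, 3, 0, 2, 0, 3, 0, 2, 0, 3, 0, 2, 0, 3, 0, 3, 0]),
  (1, [3, 0, 3, 0, 3, 0, 2, 0, 3, 0, 3, 0]),
  (1, [0, 2, 0, 2, 0, 3, 0, 2, 0, 2, 0, 2, 0, 2, 0, 3, 0, 2, 0]),
  (1, [3, 0, 3, 0, 3, 0, 3, 0, 2, 0, 2, 0, 3, 0, 2, 0, 3, 0, 3, 0]),
  (1, [3, 0, 3, 0, 3, 0, 2, 0, 3, 0, 2, 0, 3, 0]),
  (1, [3, 0, 2, 0, 2, 0, 3, 0]),
  (1, [0, 2, 0, 2, 0, 3, 0, 3, 0, 3, 0, 2, 0, 2, 0, 3, 0]),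
  (1, [0, 2, 0, 2, 0, 2, 0, 3, 0, 3, 0, 3, 0, 2, 0, 3, 0, 2, 0, 2, 0, 2, 0]),
  (1, [3, 0, 2, 0, 2, 0, 2, 0, 2, 0, 2, 0, 3, 0, 3, 0, 3, 0, 2, 0, 2, 0]),
  (1, [3, 0, 3, 0, 3, 0, 2, 0, 3, 0, 3, 0, 3, 0, 2, 0, 3, 0]),
  (1, [2, 0, 2, 0, 2, 0, 2, 0, 3, 0]),
  (1, [0, 2, 0, 2, 0, 2, 0, 3, 0, 3, 0, 3, 0]),
  (1, [0, 3, 0, 2, 0, 2, 0, 3, 0, 3, 0, 3, 0, 3, 0, 3, 0]),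
  (1, [0, 3, 0, 3, 0, 2, 0, 2, 0, 2, 0, 2, 0, 3, 0, 3, 0]),
  (1, [2, 0, 2, 0, 2, 0, 3, 0, 3, 0, 3, 0]),
  (1, [3, 0, 2, 0, 2, 0, 3, 0, 3, 0]),
  (1, [0, 2, 0, 3, 0, 3, 0, 3, 0, 3, 0, 3, 0, 2, 0]),
  (1, [3, 0, 3, 0, 3, 0, 3, 0, 2, 0, 2, 0, 3, 0, 2, 0, 2, 0, 3, 0]),
  (1, [2, 0, 3, 0, 2, 0, 2, 0, 3, 0, 3, 0, 3, 0, 3, 0, 3, 0, 2, 0, 3, 0]),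
  (1, [0, 2, 0, 2, 0, 2, 0, 2, 0, 3, 0, 3, 0, 2, 0, 2, 0]),
  (1, [2, 0, 2, 0, 3, 0, 2, 0, 2, 0, 3, 0, 3, 0, 3, 0, 2, 0, 2, 0]),
  (1, [2, 0, 2, 0, 3, 0, 2, 0, 2, 0, 2, 0, 3, 0, 2, 0, 3, 0, 2, 0]),
  (1, [3, 0, 2, 0, 2, 0, 3, 0, 2, 0, 2, 0, 3, 0, 3, 0, 2, 0, 3, 0, 2, 0]),
  (1, [0, 3, 0, 3, 0, 3, 0, 3, 0, 2, 0, 2, 0, 2, 0, 3, 0, 2, 0]),
  (1, [3, 0, 2, 0, 2, 0, 3, 0, 2, 0, 2, 0, 2, 0, 3, 0, 3, 0]),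
  (1, [0, 2, 0, 3, 0, 2, 0, 3, 0, 3, 0, 3, 0, 3, 0, 3, 0, 2, 0, 3, 0]),
  (1, [2, 0, 3, 0, 2, 0, 2, 0, 2, 0, 3, 0, 2, 0, 2, 0, 3, 0, 2, 0]),
  (1, [2, 0, 2, 0, 2, 0, 3, 0, 2, 0, 2, 0]),
  (1, [2, 0, 3, 0, 2, 0, 2, 0, 3, 0, 3, 0, 3, 0, 2, 0]),
  (1, [0, 3, 0, 2, 0, 2, 0, 3, 0, 3, 0, 2, 0, 3, 0, 3, 0, 3, 0, 2, 0, 2, 0]),
  (1, [3, 0, 2, 0, 3, 0, 3, 0, 3, 0, 2, 0, 3, 0]),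
  (1, [0, 3, 0, 3, 0, 3, 0, 2, 0, 3, 0, 3, 0]),
  (1, [0, 3, 0, 3, 0, 3, 0, 3, 0, 3, 0, 2, 0, 3, 0, 3, 0]),
  (1, [3, 0, 2, 0, 2, 0, 2, 0, 3, 0, 2, 0, 2, 0, 2, 0]),
  (1, [0, 2, 0, 2, 0, 3, 0, 2, 0, 3, 0, 2, 0, 3, 0, 2, 0, 3, 0]),
  (1, [0, 3, 0, 2, 0, 2, 0, 2, 0, 2, 0, 2, 0, 3, 0, 2, 0]),
  (1, [3, 0, 3, 0, 2, 0, 2, 0]),
  (1, [2, 0, 3, 0, 2, 0, 3, 0, 2, 0, 3, 0, 2, 0, 3, 0, 3, 0]),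
  (1, [2, 0, 3, 0, 3, 0, 3, 0, 2, 0, 2, 0, 2, 0, 3, 0, 2, 0]),
  (1, [0, 3, 0, 3, 0, 3, 0, 3, 0, 3, 0, 2, 0, 3, 0]),
  (1, [2, 0, 3, 0, 2, 0, 2, 0, 3, 0, 2, 0, 3, 0, 3, 0]),
  (1, [0, 2, 0, 2, 0, 2, 0, 3, 0, 2, 0, 2, 0, 3, 0, 2, 0, 3, 0, 2, 0]),
  (1, [0, 3, 0, 3, 0, 3, 0, 2, 0, 2, 0, 2, 0, 2, 0, 3, 0, 2, 0]),
  (1, [3, 0, 3, 0, 2, 0, 3, 0, 3, 0, 2, 0, 2, 0, 2, 0, 2, 0]),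
  (1, [0, 3, 0, 2, 0, 2, 0, 2, 0, 3, 0, 2, 0, 3, 0]),
  (1, [2, 0, 2, 0, 3, 0, 3, 0, 3, 0, 2, 0, 3, 0, 3, 0]),
  (1, [2, 0, 3, 0, 2, 0, 2, 0, 2, 0, 3, 0, 3, 0, 3, 0, 3, 0, 2, 0, 2, 0, 3, 0]),
  (1, [3, 0, 2, 0, 3, 0, 2, 0, 3, 0, 2, 0, 2, 0, 3, 0]),
  (1, [2, 0, 2, 0, 2, 0, 2, 0, 2, 0, 2, 0, 2, 0, 3, 0, 3, 0, 3, 0]),
  (1, [0, 2, 0, 3, 0, 2, 0, 3, 0, 2, 0, 3, 0, 2, 0, 3, 0]),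
  (1, [0, 3, 0, 2, 0, 2, 0, 2, 0, 2, 0, 2, 0, 3, 0, 3, 0, 3, 0, 2, 0, 2, 0]),
  (1, [3, 0, 2, 0, 3, 0, 3, 0, 3, 0, 3, 0]),
  (1, [2, 0, 2, 0, 3, 0, 2, 0, 3, 0, 2, 0, 2, 0, 2, 0]),
  (1, [0, 2, 0, 3, 0, 2, 0, 3, 0, 2, 0]),
  (1, [0, 2, 0, 2, 0, 3, 0, 2, 0, 3, 0, 2, 0]),
  (1, [0, 2, 0, 3, 0, 2, 0, 3, 0, 2, 0, 3, 0, 2, 0, 2, 0, 2, 0]),
  (1, [2, 0, 3, 0, 3, 0, 2, 0, 3, 0, 2, 0, 2, 0, 3, 0, 3, 0]),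
  (1, [0, 3, 0, 2, 0, 2, 0, 3, 0, 3, 0]),
  (1, [3, 0, 2, 0, 3, 0, 2, 0, 2, 0, 3, 0, 3, 0]),
  (1, [2, 0, 2, 0, 3, 0, 3, 0, 2, 0, 3, 0, 2, 0, 2, 0, 3, 0, 2, 0]),
  (1, [2, 0, 3, 0, 2, 0, 3, 0, 2, 0, 2, 0, 3, 0]),
  (1, [0, 3, 0, 2, 0, 2, 0, 3, 0, 3, 0, 3, 0, 3, 0, 3, 0, 2, 0, 3, 0]),
  (1, [2, 0, 2, 0, 2, 0, 2, 0, 2, 0, 3, 0, 2, 0, 2, 0, 2, 0]),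
  (1, [0, 3, 0, 2, 0, 2, 0, 3, 0, 2, 0]),
  (1, [0, 2, 0, 2, 0, 3, 0, 3, 0, 3, 0, 3, 0, 3, 0, 2, 0, 3, 0]),
  (1, [3, 0, 2, 0, 3, 0, 3, 0, 3, 0, 3, 0, 2, 0]),
  (1, [0, 2, 0, 2, 0, 3, 0, 3, 0]),
  (1, [0, 2, 0, 2, 0, 2, 0, 3, 0, 2, 0, 3, 0, 2, 0, 3, 0, 2, 0, 3, 0]),
  (1, [0, 3, 0, 3, 0, 3, 0, 3, 0, 3, 0, 3, 0]),
  (1, [0, 3, 0, 3, 0, 2, 0, 3, 0, 2, 0, 2, 0, 2, 0]),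
  (1, [0, 3, 0, 2, 0, 2, 0, 3, 0, 2, 0, 3, 0, 3, 0, 2, 0]),
  (1, [3, 0, 2, 0, 3, 0, 3, 0, 2, 0, 2, 0, 2, 0, 2, 0]),
  (1, [3, 0, 3, 0, 3, 0, 3, 0, 3, 0, 3, 0, 2, 0, 3, 0, 3, 0, 2, 0]),
  (1, [3, 0, 3, 0, 2, 0, 3, 0, 3, 0, 2, 0]),
  (1, [0, 2, 0, 3, 0, 2, 0, 2, 0, 3, 0]),
  (1, [2, 0, 3, 0, 2, 0, 2, 0, 3, 0, 2, 0, 2, 0, 3, 0, 3, 0, 2, 0, 3, 0, 2, 0]),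
  (1, [3, 0, 2, 0, 2, 0, 2, 0, 3, 0, 3, 0, 2, 0, 2, 0, 3, 0, 2, 0]),
  (1, [0, 3, 0, 3, 0, 3, 0, 2, 0, 2, 0, 2, 0, 3, 0, 3, 0, 2, 0]),
  (1, [3, 0, 2, 0, 2, 0, 3, 0, 2, 0, 2, 0, 3, 0]),
  (1, [2, 0, 2, 0, 2, 0, 2, 0, 3, 0, 2, 0, 2, 0, 3, 0, 2, 0]),
  (1, [2, 0, 2, 0, 2, 0, 2, 0, 2, 0, 2, 0, 3, 0, 2, 0]),
  (1, [0, 2, 0, 2, 0, 2, 0, 2, 0, 2, 0, 2, 0, 3, 0, 2, 0]),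
  (1, [0, 3, 0, 3, 0, 3, 0, 3, 0, 3, 0, 2, 0, 2, 0, 2, 0, 3, 0, 2, 0]),
  (1, [2, 0, 2, 0, 3, 0, 2, 0, 3, 0, 3, 0]),
  (1, [2, 0, 2, 0, 2, 0]),
  (1, [0, 2, 0, 3, 0, 2, 0, 2, 0, 2, 0, 2, 0, 3, 0, 3, 0]),
  (1, [3, 0, 3, 0, 2, 0, 2, 0, 2, 0, 2, 0, 3, 0, 3, 0, 3, 0]),
  (1, [3, 0, 3, 0, 2, 0, 2, 0, 3, 0, 2, 0, 2, 0, 3, 0, 3, 0]),
  (1, [0, 3, 0, 2, 0, 2, 0, 3, 0, 3, 0, 2, 0, 2, 0, 2, 0, 2, 0]),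
  (1, [0, 3, 0, 3, 0, 3, 0, 2, 0, 2, 0, 3, 0, 2, 0, 2, 0, 2, 0]),
  (1, [0, 2, 0, 2, 0, 2, 0, 2, 0, 2, 0]),
  (1, [2, 0, 3, 0, 3, 0, 2, 0, 2, 0, 2, 0, 2, 0, 2, 0]),
  (1, [0, 2, 0, 2, 0, 3, 0, 3, 0, 2, 0, 3, 0, 3, 0, 3, 0, 2, 0, 2, 0]),
  (1, [2, 0, 2, 0, 3, 0, 2, 0, 3, 0, 3, 0, 3, 0]),
  (1, [3, 0, 2, 0, 2, 0, 2, 0, 3, 0, 2, 0, 3, 0]),
  (1, [3, 0, 3, 0, 2, 0, 3, 0, 3, 0, 3, 0, 3, 0, 3, 0, 2, 0, 2, 0, 3, 0, 2, 0, 3, 0]),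
  (1, [2, 0, 2, 0, 3, 0, 3, 0, 2, 0, 3, 0]),
  (1, [2, 0, 2, 0, 3, 0, 2, 0, 3, 0, 2, 0, 3, 0, 3, 0, 3, 0, 2, 0, 2, 0]),
  (1, [2, 0, 3, 0, 2, 0, 3, 0, 2, 0, 2, 0, 3, 0, 3, 0]),
  (1, [0, 2, 0, 3, 0, 2, 0, 3, 0, 2, 0, 2, 0, 3, 0, 3, 0]),
  (1, [2, 0, 3, 0, 2, 0, 3, 0, 3, 0, 3, 0, 2, 0, 3, 0]),
  (1, [3, 0, 3, 0, 2, 0, 2, 0, 2, 0, 2, 0, 2, 0, 3, 0, 3, 0, 3, 0]),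
  (1, [2, 0, 3, 0, 3, 0, 3, 0, 3, 0, 2, 0, 3, 0]),
  (1, [3, 0, 3, 0, 2, 0, 2, 0, 2, 0, 2, 0, 3, 0, 2, 0, 2, 0, 3, 0]),
  (1, [2, 0, 2, 0, 3, 0, 2, 0, 3, 0, 3, 0, 3, 0, 2, 0, 3, 0, 3, 0, 2, 0]),
  (1, [2, 0, 2, 0, 2, 0, 2, 0, 2, 0, 2, 0, 3, 0, 2, 0, 2, 0, 2, 0]),
  (1, [2, 0, 2, 0, 3, 0, 3, 0, 3, 0, 3, 0, 2, 0, 3, 0, 3, 0]),
  (1, [2, 0, 3, 0, 3, 0, 2, 0, 2, 0]),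
  (1, [2, 0, 3, 0, 2, 0, 2, 0, 2, 0, 2, 0, 2, 0]),
  (1, [0, 2, 0, 3, 0, 3, 0, 3, 0, 2, 0, 2, 0]),
  (1, [3, 0, 2, 0, 3, 0, 3, 0, 3, 0, 3, 0, 3, 0, 3, 0, 3, 0, 2, 0, 3, 0]),
  (1, [2, 0, 3, 0, 2, 0, 3, 0, 3, 0, 3, 0, 3, 0, 2, 0, 3, 0, 2, 0]),
  (1, [0, 2, 0, 2, 0, 2, 0, 2, 0, 3, 0, 3, 0, 3, 0, 2, 0]),
  (1, [3, 0, 3, 0, 2, 0, 2, 0, 2, 0, 2, 0, 3, 0, 3, 0]),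
  (1, [3, 0, 3, 0, 2, 0, 3, 0, 2, 0, 3, 0, 2, 0, 2, 0, 2, 0])
]

/-- Relations with proofs, part 0. -/
def items2_0 : List (List ℕ × Prf) := [
  ([0, 3, 2], .base 0 [3, 0, 2, 0, 2, 0, 2, 0, 3, 0, 3, 0, 2, 0, 3, 0, 3, 0, 3, 0, 3, 0, 3, 0, 2] [[0, 1, 1, 0,
    0, 0, 1, 0, 1, 1, 1, 1, 0, 0, 0, 0, 1, 1], [0, 0, 0, 0, 1, 0, 0, 1, 1, 1, 0, 1, 1, 0, 0, 1, 0, 1], [0, 0,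
    0, 1, 1, 0, 0, 0, 1, 1, 1, 1]]),
  ([4, 3, 5], .base 0 [0, 2, 0, 2, 0, 2, 0, 2, 0, 2, 0, 2, 0, 2, 0, 3, 0, 2, 0, 2, 0, 3, 0, 3, 0, 3, 0, 3] [[1,
    0, 0, 1, 0, 0, 1, 0, 0, 0, 1, 1, 0, 1, 1, 1, 1], [1, 0, 0, 1, 0, 0, 0, 0, 1, 0, 0, 0, 0, 0, 0, 0, 1], [0,
    0, 1, 0, 0, 0, 1, 0, 0, 0, 0, 0, 1, 0, 0, 1]]),
  ([5, 1, 6], .base 0 [2, 0] [[], [1, 1, 1, 1, 1, 0, 0, 1, 1, 1, 0, 0, 1, 0], []]),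
  ([2, 7, 1], .base 0 [2, 0, 3, 0, 3, 0, 3, 0, 2, 0, 2, 0, 3, 0, 3, 0, 3, 0, 3, 0, 3, 0, 3, 0, 2, 0, 3, 0,
    3] [[1, 1, 1, 1, 1, 0, 0, 1, 0, 1, 1, 0, 1, 0, 1, 0], [0, 1, 1, 1, 0, 1, 0, 0, 0, 1, 0, 1, 1, 0, 0, 0, 0],
    [0, 1, 0, 1, 0, 1, 0, 1, 0, 0, 0, 0, 1, 0, 1, 0]]),
  ([8, 7, 4], .base 0 [3, 0, 2, 0, 3, 0, 3, 0, 2, 0, 2, 0, 3, 0, 3, 0, 2, 0] [[0, 0, 0, 0, 0, 1, 1, 0, 1, 0, 0,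
    0, 1, 0, 0, 1, 0], [0, 0, 0, 1, 1, 1, 1, 1, 1, 0, 1, 0, 1, 1, 1], [0, 0, 1, 1, 1, 0, 1, 1, 1, 0, 1, 0, 1,
    0, 1, 0, 0, 1, 1]]),
  ([8, 0, 6], .base 0 [3, 0, 3, 0, 2, 0, 2, 0, 2, 0, 2, 0, 2, 0, 3, 0, 2, 0, 3, 0] [[1, 1, 0, 0, 0, 1, 0, 0, 1,
    1, 0, 1, 1, 0, 0], [0, 1, 1, 0, 0, 0, 1, 1, 1, 1, 0, 0, 0, 1, 0, 1], [1, 0, 1, 0, 0, 1, 1, 1, 1, 0, 1, 0,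
    1, 1, 0, 0, 0, 0]]),
  ([0, 0], .base 1 [2, 0, 2, 0, 3, 0, 3, 0, 3, 0, 2, 0, 2, 0, 3, 0] [[], []]),
  ([1, 1], .base 1 [3, 0, 3, 0, 3, 0, 2, 0, 3, 0, 3, 0, 3, 0, 3, 0, 3, 0, 3, 0, 2, 0, 3, 0] [[], []]),
  ([0, 1, 0, 1], .rew [(0, 1, [2, 3], 0, 0, false), (1, 1, [4, 5], 1, 1, false), (2, 2, [6], 2, 0, false), (0,
    1, [1, 7], 3, 0, false), (1, 2, [8], 4, 1, false), (1, 2, [0], 5, 2, true), (1, 2, [], 6, 0, false), (0, 2,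
    [], 7, 0, false)]),
  ([0, 11, 10], .base 0 [3, 0, 2, 0, 3, 0, 3, 0, 2, 0, 2, 0, 2, 0, 3, 0, 3, 0, 3, 0, 3, 0, 3, 0, 2] [[0, 0, 0,
    0, 0, 0, 0, 1, 1, 1, 1, 1, 0, 1, 0, 1, 1], [0, 0, 0, 0, 1, 1, 1, 1, 0, 0, 1, 1, 0, 0, 1, 0, 0, 0], [0, 0,
    0, 0, 0, 1, 0, 0, 1, 1, 1, 1, 0, 0, 1, 1, 0, 1]]),
  ([12, 13, 11], .base 0 [0, 3, 0, 3, 0, 3, 0, 3, 0, 3, 0, 2, 0, 2, 0, 2, 0, 2, 0, 2] [[0, 0, 0, 1, 0, 0, 0, 1,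
    0, 0, 0, 1, 1, 1, 0], [1, 0, 1, 1, 0, 0, 1, 0, 0, 1, 1, 1, 0, 1, 1, 1], [0, 1, 0, 0, 0, 0, 1, 0, 1, 0, 0,
    1, 1, 1, 0, 1, 0]]),
  ([9, 13, 14], .base 0 [3, 0, 3, 0, 2, 0, 2, 0, 3, 0, 2, 0, 3, 0, 3, 0, 2, 0, 2, 0, 2, 0, 2] [[1, 0, 0, 1, 1,
    1, 0, 1, 1, 1, 0, 0, 0, 1, 1], [0, 0, 0, 1, 0, 1, 0, 1, 1, 1, 0, 0, 1, 0, 0, 1], [0, 1, 0, 0, 1, 1, 1, 0,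
    0, 1, 0, 0, 1, 1, 0]]),
  ([16, 15, 10], .base 0 [0, 3, 0, 3, 0, 2, 0, 3, 0, 2, 0, 2, 0, 2, 0, 3, 0, 3, 0, 2, 0] [[0, 0, 0, 1, 1, 0, 0,
    0, 0, 0, 1, 0, 0, 1, 0, 1, 0, 1], [1, 0, 1, 0, 0, 1, 1, 1, 1, 0, 0, 0, 0, 1, 0, 1], [0, 1, 0, 0, 1, 1, 0,
    0, 0, 1, 1, 0, 0, 0, 0]]),
  ([12, 16, 17], .base 0 [3, 0, 3, 0, 2, 0, 2, 0, 2, 0, 2, 0, 3, 0, 3, 0, 2, 0, 3, 0, 2, 0, 2, 0, 2] [[0, 1, 0,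
    0, 0, 1, 1, 0, 0, 1, 0, 0, 1, 1, 1, 0, 0, 1], [0, 1, 1, 0, 0, 0, 1, 1, 1, 0, 1, 0, 1, 1, 1, 1], [1, 1, 1,
    1, 1, 1, 0, 0, 1, 1, 1, 1, 0, 1, 1, 1, 0]]),
  ([17, 8, 18], .base 0 [0, 2, 0, 2, 0, 2, 0, 3, 0, 2, 0, 3, 0, 3, 0, 2, 0, 3, 0, 2, 0, 2, 0, 3, 0, 3] [[1, 1,
    1, 1, 1, 1, 1, 0, 1, 0, 0, 1, 0, 0, 0, 0], [0, 1, 1, 0, 0, 1, 0, 0, 0, 1, 0, 0, 1, 0, 1], [1, 1, 0, 1, 1,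
    0, 1, 0, 1, 1, 0, 0, 1, 0, 1, 0, 0]]),
  ([18, 19, 14], .base 0 [0, 3, 0, 3, 0, 2, 0, 2, 0, 3, 0, 2, 0, 3, 0, 3, 0, 2, 0, 2, 0, 2, 0, 2] [[1, 0, 0, 1,
    1, 1, 0, 1, 1, 1, 0, 0, 0, 1, 1], [1, 1, 0, 0, 1, 0, 1, 0, 1, 1, 1, 0, 1, 1, 1, 1, 1], [0, 1, 0, 1, 1, 0,
    0, 1, 1, 0, 0, 1, 0, 1, 0, 0]]),
  ([20, 21, 15], .base 0 [3, 0, 3, 0, 2, 0, 3, 0, 3, 0, 3, 0, 2, 0, 2, 0, 2, 0, 2, 0, 3, 0] [[0, 1, 0, 1, 0, 1,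
    0, 1, 1, 1, 1, 1, 0, 0, 0], [1, 0, 0, 0, 1, 1, 1, 0, 0, 0, 1, 1, 0, 1, 1, 0, 1], [0, 0, 0, 1, 0, 0, 0, 1,
    0, 1, 0, 1, 0, 0, 1, 0, 0, 0, 0]]),
  ([22, 21, 8], .base 0 [0, 2, 0, 3, 0, 3, 0, 3, 0, 3, 0, 3, 0, 2, 0, 2, 0, 2, 0, 3, 0, 2, 0, 3, 0, 2, 0,
    2] [[0, 1, 1, 1, 1, 0, 0, 0, 1, 0, 1, 0, 0, 1, 0, 0, 1, 1], [1, 0, 1, 1, 0, 0, 0, 1, 1, 0, 1, 0, 0, 0, 1,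
    0, 0], [0, 0, 0, 1, 0, 1, 0, 0, 1, 1, 1, 1, 1, 1, 0, 1, 1]]),
  ([22, 23, 24], .base 0 [3, 0, 2, 0, 2, 0, 3, 0, 3, 0, 2, 0, 2, 0, 2, 0, 3, 0, 2, 0, 3, 0, 3, 0, 3, 0, 3, 0,
    3] [[0, 1, 1, 1, 0, 0, 1, 0, 1, 0, 0, 1, 1, 0, 0, 0], [0, 0, 0, 1, 0, 0, 1, 0, 0, 0, 1, 0, 1, 0, 1, 1, 0,
    0, 1], [0, 1, 0, 0, 0, 0, 1, 0, 1, 0, 1, 0, 1, 1, 1]]),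
  ([25, 19, 24], .base 0 [0, 2, 0, 3, 0, 2, 0, 2, 0, 2, 0, 3, 0, 3, 0, 3, 0, 3, 0, 3, 0, 3, 0, 3, 0, 3] [[0, 0,
    0, 1, 1, 1, 0, 1, 0, 1, 0, 0, 1, 0, 0], [0, 1, 1, 0, 0, 1, 0, 1, 1, 1, 0, 1, 1, 0, 1, 0, 0], [0, 0, 0, 0,
    0, 0, 1, 0, 0, 0, 1, 0, 1, 1, 1, 1, 1]]),
  ([27, 26, 20], .base 0 [3, 0, 3, 0, 3, 0, 2, 0, 3, 0, 3, 0, 3, 0, 3, 0, 2, 0, 2, 0, 2, 0, 2] [[0, 0, 1, 0, 1,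
    1, 0, 1, 0, 0, 1, 0, 0, 0, 1, 0, 1, 1], [1, 0, 1, 1, 1, 1, 0, 1, 0, 0, 0, 1, 1, 1, 0, 0, 1, 1], [1, 0, 0,
    1, 1, 1, 1, 1, 0, 0, 0, 0, 1]]),
  ([23, 28, 27], .base 0 [2, 0, 3, 0, 2, 0, 3, 0] [[1, 0, 1, 0, 0, 1, 1, 0, 1, 1, 1, 0, 1, 0, 1, 0], [1, 0, 0,
    0, 1, 1, 1, 0, 0, 0, 0, 0], [1, 0, 0, 1, 1, 0, 0, 1, 1, 0, 1, 0, 1, 1, 0]]),
  ([25, 29, 30], .base 0 [2, 0, 3, 0, 2, 0, 3, 0, 3, 0, 3, 0, 3, 0, 2, 0, 3, 0, 3] [[0, 1, 1, 1, 1, 0, 0, 0, 1,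
    0, 0, 0, 1, 1, 1, 1], [0, 1, 1, 0, 1, 1, 0, 1, 0, 1, 0, 0, 0, 1, 1, 0, 1], [1, 0, 0, 1, 1, 0, 0, 0, 0, 1,
    1, 0, 0, 1]]),
  ([28, 29, 31], .base 0 [0, 2, 0, 2, 0, 2, 0, 3, 0, 2, 0, 3, 0, 2, 0, 3, 0, 3, 0, 3, 0, 3, 0, 3, 0, 2, 0] [[0,
    0, 0, 0, 1, 0, 0, 1, 0, 1, 1, 0, 1, 1, 1, 1], [1, 0, 1, 1, 1, 0, 1, 1, 1, 1, 0, 1, 1, 1, 0, 0, 1, 0], [0,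
    0, 1, 1, 0, 1, 1, 1, 0, 0, 0, 1, 0, 0, 1]]),
  ([31, 26, 32], .base 0 [0, 2, 0, 3, 0, 3, 0, 2, 0, 3, 0, 3, 0, 3, 0, 3, 0, 3, 0, 3] [[1, 1, 0, 1, 0, 0, 1, 1,
    1, 0, 1, 0, 0, 0], [1, 0, 1, 0, 0, 0, 0, 1, 1, 0, 0, 1, 0, 0, 0, 0], [0, 1, 1, 0, 0, 0, 0, 1, 0, 1, 1, 0,
    1, 1, 1, 0, 1]]),
  ([33, 30, 0], .base 0 [2, 0, 2, 0, 2, 0, 3, 0, 2, 0, 2, 0, 2, 0, 2, 0, 3, 0, 3] [[0, 1, 0, 0, 1, 0, 0, 0, 0,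
    1, 1, 1, 1, 1, 0, 1, 1], [1, 1, 1, 0, 0, 1, 0, 1, 0, 0, 1, 0, 0, 1, 1, 0], [1, 1, 0, 0, 1, 1, 1, 1, 0, 0,
    0, 0, 1, 0, 1, 0]]),
  ([33, 32, 9], .base 0 [2, 0, 2, 0, 2, 0, 3, 0, 2, 0, 3, 0, 3, 0, 2, 0, 3, 0, 2, 0, 2, 0, 3, 0, 3] [[1, 1, 1,
    1, 1, 1, 1, 0, 1, 0, 0, 1, 0, 0, 0, 0], [0, 1, 1, 0, 0, 1, 0, 0, 0, 1, 0, 0, 1, 0, 1], [1, 1, 0, 1, 1, 0,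
    1, 0, 1, 1, 0, 0, 1, 0, 1, 0, 0]]),
  ([9, 9], .base 1 [3, 0, 3, 0, 2, 0, 3, 0, 3, 0, 3, 0, 3, 0] [[], []]),
  ([0, 9, 0, 9], .rew [(0, 1, [10, 11], 9, 0, false), (1, 1, [12, 13], 10, 0, true), (2, 2, [14], 11, 1, true),
    (0, 1, [15, 16], 12, 2, false), (1, 2, [17], 13, 1, true), (1, 1, [8, 18], 14, 2, true), (2, 2, [19], 15,
    2, true), (0, 1, [20, 21], 16, 0, true), (1, 2, [22], 17, 1, false), (1, 1, [23, 24], 18, 2, true), (2, 2,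
    [25], 19, 0, true), (0, 1, [26, 27], 20, 2, false), (1, 2, [28], 21, 2, false), (2, 1, [29, 30], 22, 2,
    true), (1, 2, [31], 23, 0, false), (0, 2, [32], 24, 1, true), (1, 1, [33, 0], 25, 1, false), (0, 2, [9],
    26, 1, true), (1, 2, [], 6, 0, false), (0, 2, [], 27, 0, false)])
]

/-- All the relations. -/
def items2 : List (List ℕ × Prf) :=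
  items2_0

/-- Relations with proofs, part 0. -/
def items3_0 : List (List ℕ × Prf) := [
  ([34, 0, 35], .base 0 [3, 0, 3, 0, 2, 0, 2, 0, 2, 0, 2, 0, 2, 0, 3, 0, 2, 0, 3] [[0, 1, 1, 0, 1, 0, 1, 0, 0,
    0, 0, 1, 0, 1, 1, 1, 0, 0, 1], [1, 1, 0, 1, 0, 0, 1, 1, 1, 0, 0, 1, 1], [0, 0, 0, 1, 0, 1, 0, 0, 0, 1, 1,
    1, 1, 1, 1, 0, 1]]),
  ([35, 35], .base 1 [2, 0, 3, 0, 2, 0, 2, 0, 2, 0, 3, 0, 2, 0] [[], []]),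
  ([34, 0, 34, 0], .rew [(0, 2, [35], 0, 0, false), (1, 2, [35], 0, 0, false), (0, 2, [], 1, 0, false)]),
  ([36, 0, 36, 0], .base 3 [0, 2, 0, 2, 0, 2, 0, 3, 0, 3, 0, 3, 0, 3, 0, 2, 0, 2, 0, 2, 0, 2, 0, 2, 0, 2, 0, 2,
    0, 2, 0, 2, 0] [[1, 0, 1, 0, 0, 0, 0, 1, 1, 0, 0, 0, 1, 0], [0, 1, 1, 0, 0, 1, 1, 1, 1, 0, 1, 1, 0, 0], [1,
    0, 1, 0, 0, 0, 0, 1, 1, 0, 0, 0, 1, 0], [0, 1, 1, 0, 0, 1, 1, 1, 1, 0, 1, 1, 0, 0]]),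
  ([34, 36, 37], .base 0 [3, 0, 3, 0, 2, 0, 3, 0, 3, 0, 3, 0, 2, 0, 2, 0, 3, 0, 2, 0, 2, 0, 2, 0, 3] [[0, 1, 1,
    1, 0, 0, 1, 1, 0, 0, 1, 1, 0], [0, 0, 0, 1, 0, 1, 1, 1, 1, 0, 0, 1, 1, 0], [0, 0, 0, 1, 0, 0, 0, 1, 0, 0,
    0, 1, 0, 0, 0]]),
  ([37, 37], .base 1 [2, 0, 3, 0, 3, 0, 2, 0, 2, 0, 2, 0, 3, 0, 2, 0] [[], []]),
  ([36, 34, 36, 34], .rew [(0, 2, [37], 4, 1, true), (1, 2, [37], 4, 1, true), (0, 2, [], 5, 0, false)]),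
  ([33, 30, 0], .base 0 [2, 0, 2, 0, 2, 0, 3, 0, 2, 0, 2, 0, 2, 0, 2, 0, 3, 0, 3] [[0, 1, 0, 0, 1, 0, 0, 0, 0,
    1, 1, 1, 1, 1, 0, 1, 1], [1, 1, 1, 0, 0, 1, 0, 1, 0, 0, 1, 0, 0, 1, 1, 0], [1, 1, 0, 0, 1, 1, 1, 1, 0, 0,
    0, 0, 1, 0, 1, 0]]),
  ([33, 33], .base 1 [3, 0, 2, 0, 3, 0, 3, 0, 2, 0, 3, 0] [[], []]),
  ([30, 0, 30, 0], .rew [(0, 2, [33], 7, 1, false), (1, 2, [33], 7, 1, false), (0, 2, [], 8, 0, false)]),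
  ([30, 34, 30, 34], .base 3 [3, 0, 2, 0, 2, 0, 2, 0, 3, 0, 2, 0, 2, 0, 2, 0, 2, 0, 3, 0, 3, 0, 2, 0, 3, 0, 3,
    0, 2, 0, 2, 0, 2, 0, 3, 0, 3, 0] [[1, 0, 1, 0, 0, 0, 0, 0, 0, 1, 0, 0, 0, 1], [1, 0, 1, 0, 1, 0, 1, 1, 0,
    0, 1, 0, 0], [1, 0, 1, 0, 0, 0, 0, 0, 0, 1, 0, 0, 0, 1], [1, 0, 1, 0, 1, 0, 1, 1, 0, 0, 1, 0, 0]]),
  ([30, 36, 30, 36], .base 3 [3, 0, 3, 0, 2, 0, 3, 0, 3, 0, 2, 0, 3, 0, 3, 0, 3, 0, 2, 0, 2, 0, 2, 0, 2, 0, 2,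
    0, 2, 0, 3, 0, 3, 0, 3, 0, 2, 0, 2] [[1, 0, 0, 1, 0, 1, 0, 1, 1, 1, 1, 0, 0, 1, 0], [1, 0, 0, 1, 1, 0, 1,
    0, 1, 1, 1, 1, 0, 1, 1, 1, 0], [1, 0, 0, 1, 0, 1, 0, 1, 1, 1, 1, 0, 0, 1, 0], [1, 0, 0, 1, 1, 0, 1, 0, 1,
    1, 1, 1, 0, 1, 1, 1, 0]]),
  ([38, 0, 38, 0], .base 3 [0, 3, 0, 2, 0, 2, 0, 3, 0, 3, 0, 2, 0, 3, 0, 2, 0, 3, 0, 2, 0, 2, 0, 2, 0, 2, 0, 2,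
    0, 3, 0, 3, 0, 3, 0, 2] [[1, 0, 0, 1, 1, 1, 1, 0, 1, 1, 1], [0, 1, 0, 1, 1, 1, 1, 1, 1, 0, 1, 0, 1, 0, 1],
    [1, 0, 0, 1, 1, 1, 1, 0, 1, 1, 1], [0, 1, 0, 1, 1, 1, 1, 1, 1, 0, 1, 0, 1, 0, 1]]),
  ([38, 34, 38, 34], .base 2 [0, 3, 0, 2, 0, 2, 0, 2, 0, 3, 0, 3, 0, 2, 0, 2, 0, 2, 0, 2, 0, 2, 0, 3, 0, 2, 0,
    3, 0, 3, 0, 2] [[1, 1, 1, 1, 1, 0, 0, 0, 0, 0, 0, 1], [1, 0, 0, 1, 0, 1, 0, 0, 1, 0, 0, 0, 1, 0, 1], [1, 1,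
    1, 1, 1, 0, 0, 0, 0, 0, 0, 1], [1, 0, 0, 1, 0, 1, 0, 0, 1, 0, 0, 0, 1, 0, 1]]),
  ([38, 36, 38, 36], .base 2 [0, 2, 0, 3, 0, 2, 0, 2, 0, 3, 0, 3, 0, 3, 0, 3, 0, 3, 0, 3, 0, 2, 0, 3, 0, 3, 0,
    2] [[1, 0, 0, 0, 0, 0, 1, 0, 1, 0, 0, 0, 1, 1, 1, 1], [1, 0, 1, 0, 0, 1, 1, 0, 1, 0, 1, 0, 0, 1, 1, 0], [1,
    0, 0, 0, 0, 0, 1, 0, 1, 0, 0, 0, 1, 1, 1, 1], [1, 0, 1, 0, 0, 1, 1, 0, 1, 0, 1, 0, 0, 1, 1, 0]]),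
  ([38, 30, 38, 30], .base 3 [2, 0, 3, 0, 3, 0, 2, 0, 3, 0, 3, 0, 2, 0, 3, 0, 2, 0, 3, 0, 3, 0, 3, 0, 2, 0, 2,
    0, 3, 0, 2, 0, 3, 0, 2, 0, 3, 0, 3, 0, 3, 0, 2] [[0, 1, 0, 1, 0, 0, 0, 0, 0, 0, 1, 0, 0, 1, 1, 0], [1, 1,
    0, 0, 0, 0, 1, 1, 1, 1, 1, 0, 1], [0, 1, 0, 1, 0, 0, 0, 0, 0, 0, 1, 0, 0, 1, 1, 0], [1, 1, 0, 0, 0, 0, 1,
    1, 1, 1, 1, 0, 1]]),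
  ([39, 0, 39, 0], .base 3 [0, 3, 0, 3, 0, 2, 0, 3, 0, 3, 0, 2, 0, 3, 0, 3, 0, 3, 0, 2, 0, 3, 0, 2, 0, 2, 0,
    3] [[1, 1, 1, 0, 1, 1, 0, 1, 1, 0, 1, 0, 1, 1, 1], [0, 0, 0, 1, 1, 1, 1, 1, 1, 0, 0, 0, 0, 0, 1, 0, 1], [1,
    1, 1, 0, 1, 1, 0, 1, 1, 0, 1, 0, 1, 1, 1], [0, 0, 0, 1, 1, 1, 1, 1, 1, 0, 0, 0, 0, 0, 1, 0, 1]]),
  ([39, 34, 39, 34], .base 3 [3, 0, 3, 0, 2, 0, 2, 0, 3, 0, 3, 0, 3, 0, 2, 0, 2, 0, 3, 0, 3, 0, 2, 0, 3, 0, 2,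
    0, 3, 0, 2, 0, 2, 0, 2, 0, 2, 0, 3, 0, 2, 0] [[0, 1, 0, 1, 1, 0, 1, 0, 1, 1, 0, 0, 1, 0, 0, 1, 1], [1, 0,
    0, 0, 1, 1, 1, 1, 1, 0, 0, 0, 0, 0], [0, 1, 0, 1, 1, 0, 1, 0, 1, 1, 0, 0, 1, 0, 0, 1, 1], [1, 0, 0, 0, 1,
    1, 1, 1, 1, 0, 0, 0, 0, 0]]),
  ([39, 36, 39, 36], .base 3 [0, 2, 0, 3, 0, 2, 0, 2, 0, 2, 0, 3, 0, 3, 0, 2, 0, 2, 0, 2, 0, 2, 0, 3, 0, 3, 0,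
    2, 0, 3, 0] [[1, 1, 1, 0, 0, 1, 0, 1, 1, 1, 0, 0, 1, 0], [0, 1, 0, 0, 0, 1, 0, 0, 0, 0, 1, 0, 0, 1, 1, 1],
    [1, 1, 1, 0, 0, 1, 0, 1, 1, 1, 0, 0, 1, 0], [0, 1, 0, 0, 0, 1, 0, 0, 0, 0, 1, 0, 0, 1, 1, 1]]),
  ([30, 40, 39], .base 0 [0, 2, 0, 3, 0, 2, 0, 2, 0, 2, 0, 3, 0, 3, 0, 3, 0, 3, 0, 2, 0, 3, 0, 3, 0, 3] [[0, 0,
    1, 0, 0, 0, 1, 0, 0, 1, 0, 0, 0, 0, 0, 0, 0, 1], [0, 1, 1, 0, 1, 0, 0, 0, 1, 1, 0, 0, 0, 0, 0, 0], [1, 1,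
    1, 1, 1, 0, 0, 1, 1, 1, 0, 0, 1, 0]]),
  ([40, 40], .base 1 [0, 3, 0, 3, 0, 3, 0, 3, 0, 2, 0, 2, 0, 3, 0, 2, 0, 3, 0, 3, 0] [[], []]),
  ([39, 30, 39, 30], .rew [(0, 2, [40], 19, 2, false), (1, 2, [40], 19, 2, false), (0, 2, [], 20, 0, false)]),
  ([39, 38, 39, 38], .base 3 [2, 0, 2, 0, 2, 0, 3, 0, 2, 0, 2, 0, 3, 0, 3, 0, 3, 0, 3, 0, 2, 0, 3, 0, 2, 0, 2,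
    0, 2, 0, 3, 0, 3, 0, 2] [[1, 1, 1, 0, 1, 1, 0, 0, 0, 0, 1, 1, 1, 0], [0, 1, 0, 1, 0, 0, 0, 1, 0, 1, 0, 1,
    1, 1, 1, 1, 1, 1, 1], [1, 1, 1, 0, 1, 1, 0, 0, 0, 0, 1, 1, 1, 0], [0, 1, 0, 1, 0, 0, 0, 1, 0, 1, 0, 1, 1,
    1, 1, 1, 1, 1, 1]]),
  ([41, 0, 41, 0], .base 3 [2, 0, 2, 0, 3, 0, 3, 0, 2, 0, 3, 0, 2, 0, 2, 0, 3, 0, 3, 0, 2, 0, 2, 0, 2, 0, 2, 0,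
    3] [[1, 0, 1, 0, 0, 0, 0, 1, 1, 1, 0, 1, 0, 0, 0, 1, 1, 0], [0, 0, 0, 0, 1, 1, 1, 0, 1, 1, 0, 0, 1, 0, 0,
    1], [1, 0, 1, 0, 0, 0, 0, 1, 1, 1, 0, 1, 0, 0, 0, 1, 1, 0], [0, 0, 0, 0, 1, 1, 1, 0, 1, 1, 0, 0, 1, 0, 0,
    1]]),
  ([42, 41, 34], .base 0 [2, 0, 2, 0, 2, 0, 3, 0, 2, 0, 2, 0, 2, 0, 3, 0, 2, 0, 3, 0, 2, 0, 3, 0, 3, 0, 2,
    0] [[1, 0, 0, 1, 0, 0, 1, 0, 0, 1, 1, 0, 0], [1, 0, 0, 1, 1, 1, 1, 1, 0, 0, 1, 1, 1, 0, 1, 1], [0, 1, 0, 0,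
    0, 0, 1, 0, 1, 0, 1, 0, 1, 0, 0, 0, 1]]),
  ([42, 42], .base 1 [3, 0, 3, 0, 2, 0, 2, 0, 2, 0, 2, 0, 3, 0, 2, 0, 2, 0] [[], []]),
  ([41, 34, 41, 34], .rew [(0, 2, [42], 24, 1, false), (1, 2, [42], 24, 1, false), (0, 2, [], 25, 0, false)]),
  ([43, 36, 41], .base 0 [0, 2, 0, 3, 0, 2, 0, 2, 0, 3, 0, 3, 0, 3, 0, 3, 0, 2, 0, 3, 0, 3] [[0, 1, 1, 1, 1, 0,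
    0, 0, 1, 0, 0, 0, 1, 1, 1, 1], [0, 0, 0, 0, 0, 0, 1, 1, 1, 0, 0, 0], [0, 0, 0, 1, 1, 1, 0, 0, 0, 1, 1, 0,
    0, 1, 0, 0, 1]]),
  ([43, 43], .base 1 [0, 2, 0, 2, 0, 3, 0, 3, 0, 3, 0, 2, 0, 2, 0] [[], []]),
  ([41, 36, 41, 36], .rew [(0, 2, [43], 27, 0, true), (1, 2, [43], 27, 0, true), (0, 2, [], 28, 0, false)]),
  ([41, 30, 41, 30], .base 3 [2, 0, 3, 0, 3, 0, 2, 0, 3, 0, 2, 0, 3, 0, 3, 0, 2, 0, 3, 0, 2, 0, 2, 0, 2, 0, 3,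
    0, 2, 0, 2, 0, 2, 0, 3, 0, 3, 0, 2, 0, 2, 0, 2] [[1, 1, 0, 1, 0, 0, 0, 0, 0, 1, 0, 1, 0, 1], [0, 1, 1, 1,
    0, 1, 0, 0, 1, 0, 1, 1, 0, 0, 1, 0, 0], [1, 1, 0, 1, 0, 0, 0, 0, 0, 1, 0, 1, 0, 1], [0, 1, 1, 1, 0, 1, 0,
    0, 1, 0, 1, 1, 0, 0, 1, 0, 0]]),
  ([44, 38, 41], .base 0 [2, 0, 3, 0, 2, 0, 2, 0, 2, 0, 2, 0, 3, 0, 2, 0, 2, 0, 2, 0, 2] [[1, 1, 0, 0, 1, 0, 0,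
    1, 1, 0, 0, 0, 1, 0, 1, 0], [0, 1, 0, 1, 1, 1, 1, 0, 0, 1, 1, 0, 1, 1, 1, 1], [0, 1, 0, 0, 0, 0, 1, 0, 1,
    0, 0, 1, 1, 1, 0, 1, 0]]),
  ([44, 44], .base 1 [3, 0, 2, 0, 2, 0, 2, 0, 2, 0, 2, 0] [[], []]),
  ([41, 38, 41, 38], .rew [(0, 2, [44], 31, 0, true), (1, 2, [44], 31, 0, true), (0, 2, [], 32, 0, false)]),
  ([41, 39, 41, 39], .base 3 [0, 2, 0, 3, 0, 2, 0, 2, 0, 3, 0, 3, 0, 3, 0, 2, 0, 2, 0, 2, 0, 2, 0, 2, 0, 3,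
    0] [[1, 1, 0, 1, 0, 0, 0, 1, 1, 1, 1, 0, 0, 1, 1, 0], [0, 1, 1, 1, 0, 1, 1, 1, 1, 1, 1, 1, 1, 0, 1, 1], [1,
    1, 0, 1, 0, 0, 0, 1, 1, 1, 1, 0, 0, 1, 1, 0], [0, 1, 1, 1, 0, 1, 1, 1, 1, 1, 1, 1, 1, 0, 1, 1]])
]

/-- Relations with proofs, part 1. -/
def items3_1 : List (List ℕ × Prf) := [
  ([45, 0, 45, 0], .base 3 [3, 0, 2, 0, 2, 0, 2, 0, 3, 0, 3, 0, 2, 0, 3, 0, 3, 0, 3, 0, 3, 0, 3, 0, 2, 0, 3, 0,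
    3, 0, 3, 0, 2, 0, 2, 0, 2, 0, 3, 0] [[1, 0, 0, 1, 0, 1, 1, 1, 0, 0, 0], [0, 1, 0, 0, 1, 1, 1, 1, 1, 1, 0,
    1, 0, 1, 1, 1, 1], [1, 0, 0, 1, 0, 1, 1, 1, 0, 0, 0], [0, 1, 0, 0, 1, 1, 1, 1, 1, 1, 0, 1, 0, 1, 1, 1, 1]]),
  ([45, 34, 45, 34], .base 3 [3, 0, 3, 0, 2, 0, 3, 0, 2, 0, 2, 0, 3, 0, 2, 0, 2, 0, 2, 0, 3, 0, 2, 0, 3, 0, 3,
    0, 3, 0, 3, 0] [[0, 0, 1, 1, 1, 1, 0, 1, 1, 0, 1, 1, 0], [0, 1, 1, 0, 0, 0, 1, 1, 1, 0, 0, 1, 1, 0, 0, 1,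
    1, 0, 0], [0, 0, 1, 1, 1, 1, 0, 1, 1, 0, 1, 1, 0], [0, 1, 1, 0, 0, 0, 1, 1, 1, 0, 0, 1, 1, 0, 0, 1, 1, 0,
    0]]),
  ([45, 36, 45, 36], .base 3 [3, 0, 2, 0, 2, 0, 2, 0, 2, 0, 2, 0, 3, 0, 2, 0, 3, 0, 2, 0, 2, 0, 2, 0, 3, 0, 3,
    0, 2, 0, 3, 0, 2, 0, 2, 0, 2] [[1, 1, 1, 0, 0, 1, 1, 0, 0, 1, 1, 0, 1, 0, 1, 0, 1], [1, 0, 1, 0, 0, 1, 1,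
    1, 0, 0, 0, 1, 1, 0, 1], [1, 1, 1, 0, 0, 1, 1, 0, 0, 1, 1, 0, 1, 0, 1, 0, 1], [1, 0, 1, 0, 0, 1, 1, 1, 0,
    0, 0, 1, 1, 0, 1]]),
  ([45, 30, 45, 30], .base 3 [2, 0, 2, 0, 2, 0, 3, 0, 2, 0, 3, 0, 2, 0, 3, 0, 3, 0, 2, 0, 2, 0, 3, 0, 3, 0, 2,
    0, 3, 0, 2, 0, 2, 0, 3, 0, 3, 0, 2, 0, 2] [[1, 1, 1, 0, 1, 1, 1, 0, 1, 1, 0, 1, 1, 0, 1], [0, 0, 1, 0, 1,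
    0, 0, 0, 0, 1, 1, 1, 0, 1, 1, 1, 0], [1, 1, 1, 0, 1, 1, 1, 0, 1, 1, 0, 1, 1, 0, 1], [0, 0, 1, 0, 1, 0, 0,
    0, 0, 1, 1, 1, 0, 1, 1, 1, 0]]),
  ([45, 38, 45, 38], .base 3 [0, 3, 0, 2, 0, 2, 0, 2, 0, 3, 0, 3, 0, 2, 0, 2, 0, 3, 0, 3, 0, 3, 0, 2, 0, 2, 0,
    2, 0, 3, 0, 3] [[0, 1, 0, 0, 1, 0, 0, 0, 0, 1, 1, 1, 1, 1, 0, 1, 1], [1, 0, 1, 1, 0, 1, 0, 0, 1, 0, 1, 1,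
    0, 0, 1], [0, 1, 0, 0, 1, 0, 0, 0, 0, 1, 1, 1, 1, 1, 0, 1, 1], [1, 0, 1, 1, 0, 1, 0, 0, 1, 0, 1, 1, 0, 0,
    1]]),
  ([45, 39, 45, 39], .base 3 [0, 3, 0, 3, 0, 2, 0, 2, 0, 3, 0, 2, 0, 3, 0, 2, 0, 3, 0, 2, 0, 3, 0, 2, 0, 2, 0,
    3, 0, 3, 0, 3, 0, 3, 0, 3, 0, 2] [[0, 0, 1, 1, 1, 0, 1, 0, 1, 0, 0, 1, 0], [0, 0, 0, 0, 1, 1, 1, 1, 0, 1,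
    1, 0, 1, 1, 0, 1, 0, 1], [0, 0, 1, 1, 1, 0, 1, 0, 1, 0, 0, 1, 0], [0, 0, 0, 0, 1, 1, 1, 1, 0, 1, 1, 0, 1,
    1, 0, 1, 0, 1]]),
  ([45, 41, 45, 41], .base 3 [2, 0, 3, 0, 3, 0, 3, 0, 3, 0, 2, 0, 3, 0, 2, 0, 3, 0, 2, 0, 3, 0, 2, 0, 3, 0, 2,
    0, 2, 0, 2, 0, 2, 0, 3, 0, 2, 0] [[0, 0, 1, 1, 0, 1, 0, 0, 0, 0, 1, 0, 1, 0, 1, 0, 1], [1, 1, 0, 1, 1, 1,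
    1, 1, 1, 1, 0, 1, 0, 1, 1, 1], [0, 0, 1, 1, 0, 1, 0, 0, 0, 0, 1, 0, 1, 0, 1, 0, 1], [1, 1, 0, 1, 1, 1, 1,
    1, 1, 1, 0, 1, 0, 1, 1, 1]]),
  ([46, 0, 46, 0], .base 3 [2, 0, 2, 0, 2, 0, 3, 0, 3, 0, 2, 0, 2, 0, 3, 0, 2, 0, 2, 0, 2, 0, 3, 0, 2, 0, 2, 0,
    2, 0, 2, 0] [[1, 0, 0, 0, 1, 1, 0, 0, 1, 1, 1, 0, 1, 0, 1, 0, 0, 1], [0, 0, 0, 0, 1, 1, 1, 0, 1, 1, 0, 0,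
    0, 0, 0], [1, 0, 0, 0, 1, 1, 0, 0, 1, 1, 1, 0, 1, 0, 1, 0, 0, 1], [0, 0, 0, 0, 1, 1, 1, 0, 1, 1, 0, 0, 0,
    0, 0]]),
  ([46, 34, 46, 34], .base 3 [2, 0, 2, 0, 3, 0, 3, 0, 3, 0, 2, 0, 3, 0, 3, 0, 2, 0, 3, 0, 2, 0, 3, 0, 2, 0, 2,
    0, 3, 0, 3, 0, 3, 0, 2, 0, 2, 0, 3, 0, 3] [[0, 0, 0, 0, 1, 1, 0, 0, 0, 0, 1, 1, 1, 1, 0], [0, 1, 1, 0, 1,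
    1, 1, 0, 0, 0, 1, 1, 0, 1, 0, 0], [0, 0, 0, 0, 1, 1, 0, 0, 0, 0, 1, 1, 1, 1, 0], [0, 1, 1, 0, 1, 1, 1, 0,
    0, 0, 1, 1, 0, 1, 0, 0]]),
  ([46, 36, 46, 36], .base 2 [3, 0, 3, 0, 3, 0, 2, 0, 3, 0, 2, 0, 2, 0, 2, 0, 3, 0, 3, 0, 3, 0, 2, 0, 2, 0,
    3] [[1, 0, 1, 0, 0, 0, 1, 0, 1, 0, 0, 1, 1, 1, 1, 1, 1], [1, 1, 1, 0, 0, 1, 1, 1, 0, 0, 0, 1, 1, 0, 0, 0],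
    [1, 0, 1, 0, 0, 0, 1, 0, 1, 0, 0, 1, 1, 1, 1, 1, 1], [1, 1, 1, 0, 0, 1, 1, 1, 0, 0, 0, 1, 1, 0, 0, 0]]),
  ([46, 30, 46, 30], .base 3 [3, 0, 2, 0, 2, 0, 3, 0, 2, 0, 2, 0, 3, 0, 3, 0, 3, 0, 2, 0, 3, 0, 3, 0, 3, 0, 2,
    0, 3, 0, 2, 0, 3, 0, 2, 0, 2, 0, 2, 0] [[1, 1, 0, 0, 1, 0, 0, 1, 1, 1, 1, 1, 0, 1, 0, 0, 0], [0, 0, 0, 1,
    1, 0, 0, 0, 1, 1, 1, 1, 0, 0, 1, 0, 1], [1, 1, 0, 0, 1, 0, 0, 1, 1, 1, 1, 1, 0, 1, 0, 0, 0], [0, 0, 0, 1,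
    1, 0, 0, 0, 1, 1, 1, 1, 0, 0, 1, 0, 1]]),
  ([46, 38, 46, 38], .base 3 [0, 3, 0, 2, 0, 3, 0, 2, 0, 3, 0, 2, 0, 3, 0, 2, 0, 2, 0, 2, 0, 2, 0, 2, 0, 2, 0,
    3, 0, 3, 0, 3, 0, 3, 0, 2, 0, 3, 0, 3, 0, 2, 0] [[0, 0, 0, 1, 0, 0, 1, 1, 1, 0, 0, 1, 0], [1, 0, 1, 1, 1,
    0, 1, 0, 1, 0, 1, 1, 1, 0, 0, 1], [0, 0, 0, 1, 0, 0, 1, 1, 1, 0, 0, 1, 0], [1, 0, 1, 1, 1, 0, 1, 0, 1, 0,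
    1, 1, 1, 0, 0, 1]]),
  ([46, 39, 46, 39], .base 3 [0, 2, 0, 2, 0, 2, 0, 2, 0, 3, 0, 2, 0, 2, 0, 2, 0, 2, 0, 3, 0, 2, 0, 3, 0, 2, 0,
    2, 0, 2, 0, 3, 0, 3, 0, 2, 0, 3, 0, 3, 0, 2] [[0, 0, 0, 0, 1, 1, 0, 1, 0, 0, 1, 0, 0, 1, 0], [1, 0, 1, 0,
    1, 0, 1, 1, 1, 0, 1, 0, 0, 1, 0, 1, 1], [0, 0, 0, 0, 1, 1, 0, 1, 0, 0, 1, 0, 0, 1, 0], [1, 0, 1, 0, 1, 0,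
    1, 1, 1, 0, 1, 0, 0, 1, 0, 1, 1]]),
  ([46, 41, 46, 41], .base 3 [2, 0, 2, 0, 2, 0, 2, 0, 2, 0, 3, 0, 2, 0, 3, 0, 2, 0, 3, 0, 2, 0, 3, 0, 3, 0, 3,
    0, 2, 0, 3, 0, 2, 0, 3, 0] [[0, 0, 0, 1, 1, 0, 1, 0, 0, 1, 0, 0, 0, 1, 1], [0, 1, 1, 0, 0, 0, 1, 1, 1, 1,
    1, 1, 0, 1, 1, 1, 1, 0], [0, 0, 0, 1, 1, 0, 1, 0, 0, 1, 0, 0, 0, 1, 1], [0, 1, 1, 0, 0, 0, 1, 1, 1, 1, 1,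
    1, 0, 1, 1, 1, 1, 0]]),
  ([46, 45, 46, 45], .base 3 [0, 3, 0, 3, 0, 2, 0, 2, 0, 2, 0, 2, 0, 3, 0, 3, 0, 3, 0, 3, 0, 3, 0, 3, 0, 3, 0,
    2, 0, 3, 0, 3, 0, 2, 0, 3, 0, 2] [[1, 0, 1, 1, 1, 0, 1, 1, 0, 1, 0, 1, 0, 1, 0, 1], [0, 0, 1, 1, 1, 1, 0,
    1, 0, 1, 0, 0, 0, 0, 0], [1, 0, 1, 1, 1, 0, 1, 1, 0, 1, 0, 1, 0, 1, 0, 1], [0, 0, 1, 1, 1, 1, 0, 1, 0, 1,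
    0, 0, 0, 0, 0]]),
  ([47, 0, 47, 0], .base 3 [3, 0, 2, 0, 3, 0, 2, 0, 3, 0, 2, 0, 2, 0, 2, 0, 3, 0, 3, 0, 3, 0, 3, 0, 3, 0, 2, 0,
    3, 0, 2, 0, 3, 0, 3] [[0, 1, 0, 1, 1, 0, 0, 1, 1, 1, 1, 1, 1, 1, 0], [1, 0, 1, 1, 0, 1, 1, 1, 1, 1, 1, 0,
    0, 0, 1, 0], [0, 1, 0, 1, 1, 0, 0, 1, 1, 1, 1, 1, 1, 1, 0], [1, 0, 1, 1, 0, 1, 1, 1, 1, 1, 1, 0, 0, 0, 1,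
    0]]),
  ([47, 34, 47, 34], .base 3 [0, 2, 0, 2, 0, 3, 0, 2, 0, 2, 0, 3, 0, 3, 0, 3, 0, 2, 0, 2, 0, 2, 0, 3, 0, 3, 0,
    2, 0, 2, 0] [[0, 1, 1, 1, 1, 0, 1, 0, 1, 0, 0, 0, 1, 1, 0, 0, 1, 0], [1, 0, 0, 0, 1, 0, 1, 1, 1, 0, 0, 0,
    0, 1, 1, 1, 0, 0], [0, 1, 1, 1, 1, 0, 1, 0, 1, 0, 0, 0, 1, 1, 0, 0, 1, 0], [1, 0, 0, 0, 1, 0, 1, 1, 1, 0,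
    0, 0, 0, 1, 1, 1, 0, 0]]),
  ([47, 36, 47, 36], .base 3 [0, 3, 0, 3, 0, 2, 0, 3, 0, 2, 0, 3, 0, 3, 0, 2, 0, 2, 0, 2, 0, 3, 0, 3, 0, 3, 0,
    3, 0, 2, 0, 3, 0, 3, 0, 2, 0, 3, 0] [[1, 1, 1, 0, 0, 1, 1, 1, 1, 1, 1, 1, 1, 1, 1], [0, 1, 0, 0, 1, 0, 1,
    0, 1, 1, 0, 1, 1, 1, 0, 1], [1, 1, 1, 0, 0, 1, 1, 1, 1, 1, 1, 1, 1, 1, 1], [0, 1, 0, 0, 1, 0, 1, 0, 1, 1,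
    0, 1, 1, 1, 0, 1]]),
  ([47, 30, 47, 30], .base 3 [2, 0, 3, 0, 2, 0, 3, 0, 2, 0, 2, 0, 2, 0, 3, 0, 3, 0, 3, 0, 3, 0, 3, 0, 3, 0, 3,
    0, 3, 0, 3, 0, 2, 0, 2, 0, 2] [[0, 1, 0, 0, 0, 1, 1, 0, 1, 1, 1, 0, 0, 1, 0, 0], [0, 1, 0, 0, 0, 1, 1, 1,
    0, 1, 0, 0, 0, 1, 0, 0, 1, 0], [0, 1, 0, 0, 0, 1, 1, 0, 1, 1, 1, 0, 0, 1, 0, 0], [0, 1, 0, 0, 0, 1, 1, 1,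
    0, 1, 0, 0, 0, 1, 0, 0, 1, 0]]),
  ([47, 38, 47, 38], .base 3 [0, 2, 0, 3, 0, 2, 0, 2, 0, 2, 0, 2, 0, 2, 0, 3, 0, 2, 0, 3, 0, 2, 0, 3, 0, 2, 0,
    2, 0, 3, 0, 3, 0, 2, 0, 3, 0, 2, 0, 2, 0, 2, 0] [[0, 0, 1, 0, 1, 0, 1, 1, 0, 1, 1, 1, 1, 0, 0, 0, 0], [0,
    0, 1, 1, 0, 1, 1, 1, 0, 1, 0, 0, 1, 0, 0, 1, 1], [0, 0, 1, 0, 1, 0, 1, 1, 0, 1, 1, 1, 1, 0, 0, 0, 0], [0,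
    0, 1, 1, 0, 1, 1, 1, 0, 1, 0, 0, 1, 0, 0, 1, 1]]),
  ([47, 39, 47, 39], .base 2 [3, 0, 2, 0, 3, 0, 2, 0, 3, 0, 3, 0, 2, 0, 2, 0, 2, 0, 3, 0, 2, 0, 2, 0, 2, 0, 2,
    0, 3, 0, 2, 0, 2] [[0, 0, 1, 0, 0, 1, 1, 1, 1, 0, 1, 1, 0, 0, 0, 0], [1, 1, 1, 0, 1, 0, 0, 1, 0, 1, 1, 1,
    0, 1, 1, 0, 1], [0, 0, 1, 0, 0, 1, 1, 1, 1, 0, 1, 1, 0, 0, 0, 0], [1, 1, 1, 0, 1, 0, 0, 1, 0, 1, 1, 1, 0,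
    1, 1, 0, 1]]),
  ([47, 41, 47, 41], .base 3 [0, 3, 0, 2, 0, 3, 0, 2, 0, 3, 0, 2, 0, 3, 0, 3, 0, 3, 0, 3, 0, 3, 0, 2, 0, 2, 0,
    3, 0, 3, 0, 2, 0, 3, 0, 2, 0, 2, 0, 2] [[0, 0, 1, 1, 1, 0, 0, 1, 1, 1, 1, 0, 1, 0, 1, 0, 1, 0], [1, 1, 0,
    1, 1, 0, 1, 0, 1, 1, 1, 0, 1, 1, 0, 1], [0, 0, 1, 1, 1, 0, 0, 1, 1, 1, 1, 0, 1, 0, 1, 0, 1, 0], [1, 1, 0,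
    1, 1, 0, 1, 0, 1, 1, 1, 0, 1, 1, 0, 1]]),
  ([47, 45, 47, 45], .base 3 [0, 2, 0, 2, 0, 2, 0, 2, 0, 3, 0, 2, 0, 3, 0, 2, 0, 3, 0, 3, 0, 3, 0, 2, 0, 3, 0,
    2, 0, 2, 0, 3, 0, 3, 0, 2, 0, 2, 0, 2, 0] [[1, 0, 1, 1, 0, 1, 1, 0, 0, 0, 0, 0, 1, 1, 0], [1, 1, 0, 0, 0,
    0, 1, 0, 1, 0, 0, 0, 1, 1], [1, 0, 1, 1, 0, 1, 1, 0, 0, 0, 0, 0, 1, 1, 0], [1, 1, 0, 0, 0, 0, 1, 0, 1, 0,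
    0, 0, 1, 1]]),
  ([47, 46, 47, 46], .base 2 [2, 0, 3, 0, 3, 0, 3, 0, 3, 0, 2, 0, 2, 0, 2, 0, 2, 0, 2, 0, 2, 0, 2, 0, 2, 0, 2,
    0, 2, 0, 3, 0] [[0, 1, 0, 0, 1, 0, 0, 1, 1, 0, 1, 0, 0, 1, 0, 1, 0, 0], [1, 1, 0, 1, 0, 0, 1, 0, 1, 1, 1,
    0, 0, 1], [0, 1, 0, 0, 1, 0, 0, 1, 1, 0, 1, 0, 0, 1, 0, 1, 0, 0], [1, 1, 0, 1, 0, 0, 1, 0, 1, 1, 1, 0, 0,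
    1]]),
  ([48, 0, 48, 0], .base 3 [2, 0, 2, 0, 2, 0, 3, 0, 3, 0, 3, 0, 2, 0, 2, 0, 3, 0, 3, 0, 2, 0, 2, 0, 2, 0, 2, 0,
    2, 0, 2, 0, 3, 0, 2, 0] [[1, 0, 1, 0, 1, 0, 1, 1, 0, 0, 1, 1, 0, 0, 1, 0], [1, 0, 0, 0, 1, 1, 0, 1, 1, 1,
    0, 0, 1, 1, 0, 0, 0, 1, 0], [1, 0, 1, 0, 1, 0, 1, 1, 0, 0, 1, 1, 0, 0, 1, 0], [1, 0, 0, 0, 1, 1, 0, 1, 1,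
    1, 0, 0, 1, 1, 0, 0, 0, 1, 0]]),
  ([48, 34, 48, 34], .base 3 [0, 2, 0, 2, 0, 3, 0, 2, 0, 3, 0, 3, 0, 3, 0, 2, 0, 2, 0, 2, 0, 2, 0, 2, 0, 3, 0,
    2, 0, 3, 0, 3, 0, 2] [[0, 1, 0, 0, 1, 0, 1, 0, 0, 0, 1, 0, 1, 1, 0, 1], [0, 0, 1, 1, 1, 0, 1, 0, 0, 1, 0,
    0, 1, 0, 1, 1], [0, 1, 0, 0, 1, 0, 1, 0, 0, 0, 1, 0, 1, 1, 0, 1], [0, 0, 1, 1, 1, 0, 1, 0, 0, 1, 0, 0, 1,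
    0, 1, 1]]),
  ([48, 36, 48, 36], .base 3 [0, 2, 0, 3, 0, 3, 0, 3, 0, 3, 0, 2, 0, 2, 0, 2, 0, 2, 0, 3, 0, 3, 0, 3, 0, 3, 0,
    3, 0, 2, 0, 2, 0, 2, 0, 2] [[0, 0, 0, 1, 1, 0, 1, 0, 1, 1, 0, 1, 1, 0, 0, 1], [0, 1, 1, 0, 0, 0, 1, 0, 1,
    0, 0, 0, 0, 1, 0, 1, 0, 1], [0, 0, 0, 1, 1, 0, 1, 0, 1, 1, 0, 1, 1, 0, 0, 1], [0, 1, 1, 0, 0, 0, 1, 0, 1,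
    0, 0, 0, 0, 1, 0, 1, 0, 1]]),
  ([48, 30, 48, 30], .base 3 [3, 0, 2, 0, 2, 0, 2, 0, 3, 0, 2, 0, 2, 0, 3, 0, 3, 0, 3, 0, 2, 0, 2, 0, 2, 0, 2,
    0, 2, 0, 2, 0, 2, 0, 3, 0, 3] [[0, 1, 0, 1, 1, 1, 0, 0, 0, 0, 0, 1, 1, 1], [0, 0, 0, 1, 1, 0, 0, 1, 0, 1,
    1, 0, 0, 1, 0, 0, 0, 1], [0, 1, 0, 1, 1, 1, 0, 0, 0, 0, 0, 1, 1, 1], [0, 0, 0, 1, 1, 0, 0, 1, 0, 1, 1, 0,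
    0, 1, 0, 0, 0, 1]]),
  ([48, 38, 48, 38], .base 3 [0, 2, 0, 3, 0, 2, 0, 2, 0, 3, 0, 3, 0, 3, 0, 3, 0, 3, 0, 2, 0, 2, 0, 2, 0, 2, 0,
    2, 0, 2, 0, 3, 0, 2, 0] [[1, 1, 1, 0, 0, 0, 1, 0, 0, 0, 0, 0, 0, 0, 1, 1], [0, 0, 1, 1, 0, 1, 1, 0, 0, 0,
    1, 0, 1, 0, 0], [1, 1, 1, 0, 0, 0, 1, 0, 0, 0, 0, 0, 0, 0, 1, 1], [0, 0, 1, 1, 0, 1, 1, 0, 0, 0, 1, 0, 1,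
    0, 0]]),
  ([48, 39, 48, 39], .base 3 [3, 0, 3, 0, 3, 0, 2, 0, 3, 0, 3, 0, 2, 0, 3, 0, 2, 0, 3, 0, 3, 0, 3, 0, 3, 0, 2,
    0, 2, 0, 3, 0, 3, 0, 2, 0, 2] [[0, 1, 0, 0, 0, 1, 0, 1, 0, 1, 1, 1, 0, 0, 1], [0, 1, 1, 1, 0, 0, 1, 0, 1,
    1, 0, 0, 1, 0, 0, 0, 1, 0], [0, 1, 0, 0, 0, 1, 0, 1, 0, 1, 1, 1, 0, 0, 1], [0, 1, 1, 1, 0, 0, 1, 0, 1, 1,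
    0, 0, 1, 0, 0, 0, 1, 0]]),
  ([48, 41, 48, 41], .base 3 [3, 0, 3, 0, 3, 0, 3, 0, 2, 0, 3, 0, 3, 0, 3, 0, 3, 0, 2, 0, 2, 0, 2, 0, 2, 0, 2,
    0, 3, 0, 3, 0, 3, 0, 2, 0, 2] [[0, 0, 1, 0, 1, 1, 0, 0, 0, 0, 0, 1, 0, 0, 1, 0, 1], [0, 1, 0, 1, 1, 0, 1,
    0, 1, 0, 1, 0, 0, 1, 0, 0, 0], [0, 0, 1, 0, 1, 1, 0, 0, 0, 0, 0, 1, 0, 0, 1, 0, 1], [0, 1, 0, 1, 1, 0, 1,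
    0, 1, 0, 1, 0, 0, 1, 0, 0, 0]]),
  ([48, 45, 48, 45], .base 3 [0, 3, 0, 3, 0, 2, 0, 3, 0, 3, 0, 2, 0, 3, 0, 2, 0, 3, 0, 2, 0, 2, 0, 3, 0, 3, 0,
    3, 0, 2, 0, 2, 0, 3] [[0, 1, 1, 1, 0, 1, 0, 0, 0, 1, 1, 0, 1, 0, 1, 0, 1, 1], [0, 1, 1, 1, 1, 0, 1, 0, 0,
    0, 1, 0, 0, 1, 0, 0, 1, 1, 1], [0, 1, 1, 1, 0, 1, 0, 0, 0, 1, 1, 0, 1, 0, 1, 0, 1, 1], [0, 1, 1, 1, 1, 0,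
    1, 0, 0, 0, 1, 0, 0, 1, 0, 0, 1, 1, 1]]),
  ([48, 46, 48, 46], .base 3 [3, 0, 2, 0, 2, 0, 2, 0, 3, 0, 2, 0, 3, 0, 2, 0, 2, 0, 2, 0, 2, 0, 2, 0, 3, 0, 2,
    0, 3, 0, 2, 0, 2] [[1, 0, 1, 0, 1, 1, 0, 0, 1, 0, 0, 1, 0, 1, 0], [0, 0, 0, 0, 1, 0, 1, 0, 0, 0, 0, 0, 1,
    1, 0], [1, 0, 1, 0, 1, 1, 0, 0, 1, 0, 0, 1, 0, 1, 0], [0, 0, 0, 0, 1, 0, 1, 0, 0, 0, 0, 0, 1, 1, 0]]),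
  ([48, 47, 48, 47], .base 3 [3, 0, 2, 0, 2, 0, 3, 0, 3, 0, 3, 0, 2, 0, 2, 0, 2, 0, 2, 0, 2, 0, 3, 0, 2] [[0,
    1, 1, 0, 1, 1, 0, 1, 1, 1, 1, 0, 1, 1], [1, 0, 0, 1, 0, 0, 1, 0, 0, 0, 0, 1, 0, 1], [0, 1, 1, 0, 1, 1, 0,
    1, 1, 1, 1, 0, 1, 1], [1, 0, 0, 1, 0, 0, 1, 0, 0, 0, 0, 1, 0, 1]]),
  ([49, 40, 36], .base 0 [0, 3, 0, 2, 0, 2, 0, 2, 0, 3, 0, 3, 0, 3, 0, 2, 0, 3, 0, 2, 0, 3, 0] [[0, 1, 1, 0, 0,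
    0, 0, 1, 1, 0, 1, 1, 1, 0, 1, 0, 0], [0, 1, 1, 0, 0, 0, 1, 1, 1, 0, 0, 0, 1, 0, 1, 1, 1], [0, 1, 1, 0, 0,
    0, 0, 0, 1, 0, 0, 1, 1, 0, 0, 0]])
]

/-- Relations with proofs, part 2. -/
def items3_2 : List (List ℕ × Prf) := [
  ([50, 47, 49], .base 0 [2, 0, 2, 0, 2, 0, 2, 0, 2, 0, 3, 0, 3, 0, 3, 0, 3, 0, 2, 0, 2, 0, 2, 0, 2] [[1, 0, 1,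
    0, 1, 1, 1, 1, 1, 1, 1, 0, 1, 1], [1, 0, 1, 1, 1, 1, 0, 1, 0, 0, 0, 1, 1, 1, 0, 0, 1, 1], [1, 0, 0, 1, 1,
    1, 1, 1, 0, 0, 0, 0, 1]]),
  ([37, 38, 51], .base 0 [3, 0, 3, 0, 3, 0, 2, 0, 2, 0, 3, 0, 2, 0, 2, 0, 2, 0, 2, 0, 3, 0, 2, 0, 3, 0, 3, 0,
    2] [[1, 0, 1, 0, 0, 1, 1, 1, 1, 1, 1, 1, 0, 1, 0, 0], [1, 1, 0, 1, 1, 1, 0, 0, 1, 0, 1, 0, 1, 1], [0, 0, 0,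
    1, 1, 0, 1, 1, 1, 0, 1, 0, 1, 0, 0]]),
  ([30, 52, 51], .base 0 [3, 0, 2, 0, 3, 0, 3, 0, 3, 0, 2, 0, 3, 0, 2, 0, 2, 0, 3, 0, 3, 0, 2, 0] [[1, 1, 0, 0,
    1, 0, 1, 0, 0, 1, 1, 1, 1, 0, 1, 1, 1], [0, 0, 1, 0, 1, 0, 1, 0, 0, 1, 0, 0, 1, 1, 0, 0, 0, 0], [0, 0, 0,
    0, 0, 0, 0, 1, 0, 1, 0, 0, 1, 0, 0, 1, 1]]),
  ([52, 50, 53], .base 0 [0, 2, 0, 2, 0, 3, 0, 3, 0, 3, 0, 2, 0, 3, 0, 3, 0, 3, 0, 3, 0, 2, 0, 2, 0, 2, 0,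
    2] [[0, 0, 0, 0, 1, 0, 0, 0, 1, 0, 0, 0, 1, 0, 0, 0], [0, 0, 1, 0, 0, 1, 1, 0, 0, 0, 1, 0, 0, 1, 0, 1, 0],
    [1, 0, 0, 1, 1, 1, 1, 1, 0, 0, 0, 0, 1]]),
  ([46, 54, 53], .base 0 [0, 2, 0, 2, 0, 3, 0, 3, 0, 2, 0, 2, 0, 3] [[0, 0, 0, 1, 1, 1, 1, 0, 1, 1, 1, 0, 1, 0,
    0, 0], [0, 0, 1, 1, 0, 1, 1, 1, 1, 0, 1, 0, 0, 1, 1, 0, 1], []]),
  ([55, 54, 39], .base 0 [0, 2, 0, 2, 0, 3, 0, 2, 0, 3, 0, 3, 0, 3, 0, 2, 0, 2, 0, 2, 0, 2, 0, 2, 0, 3] [[0, 1,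
    1, 1, 0, 1, 0, 0, 0, 1, 0, 0, 0, 0, 1, 1], [1, 1, 0, 0, 0, 1, 1, 1, 0, 0, 1, 1, 1, 0, 1, 0], [0, 0, 0, 0,
    1, 1, 1, 0, 0, 0, 0, 0, 1, 0, 0, 0, 1, 0]]),
  ([55, 37, 56], .base 0 [3, 0, 3, 0, 2, 0, 2, 0, 2, 0, 3, 0, 2, 0, 3, 0, 2, 0, 2, 0, 2, 0, 2, 0, 2, 0, 2, 0,
    2, 0, 3] [[0, 0, 1, 1, 1, 1, 1, 1, 1, 0, 1, 0, 1, 1, 0, 1, 1], [0, 0, 0, 0, 0, 1, 1, 0, 1, 1, 0, 0, 0, 1,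
    1, 1], [0, 0, 0, 0, 1, 1, 0, 1, 0, 0, 1, 0, 1]]),
  ([44, 57, 50], .base 0 [2, 0, 3, 0, 2, 0, 3, 0, 3, 0, 3, 0, 2, 0, 3, 0, 3, 0, 2, 0, 2, 0, 2, 0, 2, 0, 3,
    0] [[1, 1, 1, 0, 0, 0, 0, 1, 0, 1, 1, 0, 1, 0, 0, 1], [0, 1, 1, 0, 1, 0, 1, 0, 0, 1, 1, 0, 0, 1, 0, 0], [1,
    0, 1, 0, 0, 0, 1, 0, 1, 0, 0, 0, 1, 1, 1]]),
  ([58, 46, 49], .base 0 [0, 3, 0, 2, 0, 2, 0, 3, 0, 3, 0, 2, 0, 2, 0, 2, 0, 2, 0, 2, 0, 2, 0, 3, 0, 3] [[0, 1,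
    0, 1, 0, 1, 0, 0, 0, 1, 0, 0], [1, 0, 1, 1, 0, 1, 0, 0, 0, 0, 1, 1, 0, 1, 1, 1, 1], [0, 0, 1, 0, 1, 0, 1,
    0, 1, 0, 0, 1, 0, 0, 0, 1]]),
  ([59, 58, 52], .base 0 [0, 2, 0, 2, 0, 2, 0, 3, 0, 2, 0, 3, 0] [[1, 0, 1, 0, 0, 1, 1, 0, 1, 1, 1, 0, 1, 0, 1,
    0], [1, 0, 0, 0, 1, 1, 1, 0, 0, 0, 0, 0], [1, 0, 1, 1, 1, 1, 0, 0, 0, 1, 0, 0, 1, 0, 1, 0, 0, 0]]),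
  ([59, 60, 42], .base 0 [2, 0, 3, 0, 2, 0, 3, 0, 3, 0, 3, 0, 3, 0, 2, 0, 2, 0, 3, 0, 3, 0, 3, 0, 3, 0, 2] [[0,
    0, 1, 1, 1, 1, 1, 1, 1, 0, 1, 1, 0, 1, 1], [0, 0, 1, 1, 1, 1, 0, 0, 0, 0, 0, 0, 1, 1, 0], [0, 0, 1, 1, 1,
    1, 1, 0, 1, 1, 0, 1, 0]]),
  ([57, 60, 61], .base 0 [0, 2, 0, 3, 0, 2, 0, 2, 0, 2, 0, 3, 0, 3, 0, 2, 0, 2, 0, 3, 0, 2, 0, 3] [[0, 0, 0, 0,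
    0, 1, 0, 0, 0, 1, 1, 1, 0, 0], [0, 0, 1, 1, 0, 1, 1, 0, 1, 1, 1, 1, 0, 0, 1, 0], [1, 0, 0, 1, 1, 1, 1, 1,
    1, 1, 1, 0, 1, 0]]),
  ([46, 62, 61], .base 0 [0, 3, 0, 2, 0, 3, 0, 2, 0, 2, 0, 3, 0, 3, 0, 3, 0, 3, 0, 2, 0, 3, 0, 3, 0, 2, 0] [[1,
    1, 1, 1, 0, 0, 0, 0, 0, 0, 0, 1, 1, 1, 1, 0], [0, 1, 1, 0, 0, 1, 0, 0, 0, 1, 0, 0], [0, 0, 0, 1, 1, 1, 0,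
    0, 1, 1, 0, 0, 1, 1, 0, 0, 0]]),
  ([63, 56, 62], .base 0 [3, 0, 3, 0, 2, 0, 3, 0, 2, 0, 2, 0, 2, 0, 3, 0, 2, 0, 2, 0, 2, 0, 2, 0, 2] [[1, 0, 1,
    0, 1, 1, 0, 1, 0, 1, 0, 1, 1, 0, 1, 1], [1, 0, 1, 0, 1, 0, 1, 1, 0, 1, 0, 1, 1, 0], [0, 0, 1, 0, 0, 1, 0,
    1, 0, 1, 1, 1, 0, 0, 1, 1, 1]]),
  ([64, 34, 63], .base 0 [0, 3, 0, 2, 0, 2, 0, 2, 0, 3, 0, 3, 0, 2, 0, 2] [[0, 1, 0, 1, 0, 1, 0, 0, 1, 0, 0, 1,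
    1, 1, 1, 0, 1, 1], [1, 1, 0, 1, 1, 1, 1, 0, 0, 1, 0, 1, 1, 1, 0, 1], [0, 0, 1, 0, 1, 0, 1, 1, 0, 0, 0, 0,
    1, 1, 1, 0, 0, 1]]),
  ([64, 50, 65], .base 0 [0, 3, 0, 2, 0, 2, 0, 2, 0, 3, 0, 3, 0, 2, 0, 2, 0, 2, 0, 3, 0] [[1, 1, 0, 1, 1, 0, 0,
    1, 0, 1, 0, 1, 1, 0, 0], [0, 0, 1, 1, 1, 0, 1, 0, 0, 0, 0, 0, 0, 1, 0, 1, 0], [0, 0, 1, 0, 1, 0, 1, 1, 1,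
    0, 1, 1, 1, 0]]),
  ([66, 48, 65], .base 0 [2, 0, 3, 0, 2, 0, 2, 0, 3, 0, 3, 0, 3, 0, 3, 0, 3, 0] [[1, 1, 1, 0, 0, 0, 0, 1, 0, 0,
    1, 0, 1], [0, 1, 1, 0, 0, 0, 1, 1, 0, 1, 0, 0, 0, 0, 0, 1], [0, 0, 0, 1, 0, 1, 0, 1, 0, 1, 0, 0, 1, 1, 0]]),
  ([45, 67, 56], .base 0 [2, 0, 2, 0, 2, 0, 2, 0, 2, 0, 2, 0, 3, 0, 3, 0, 3, 0, 2, 0, 3, 0, 3, 0, 2, 0, 3,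
    0] [[1, 0, 0, 1, 1, 1, 1, 1, 0, 0, 0, 1, 1, 0, 0, 0, 0, 0], [1, 0, 1, 0, 1, 1, 1, 0, 1, 0, 0, 0, 0, 1, 1],
    [1, 0, 0, 0, 0, 0, 1, 1, 1, 1, 1, 0, 0, 0, 1]]),
  ([33, 68, 56], .base 0 [2, 0, 2, 0, 2, 0, 2, 0, 2, 0, 2, 0, 3, 0, 3, 0, 2, 0, 2, 0, 3, 0] [[1, 1, 0, 1, 1, 0,
    0, 1, 0, 0, 1, 0, 0, 1], [1, 1, 1, 0, 1, 1, 0, 1, 1, 0, 1, 0, 0, 1, 0], [0, 0, 1, 0, 1, 0, 1, 0, 0, 0, 1,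
    1, 1, 0, 1, 0]]),
  ([42, 69, 55], .base 0 [0, 2, 0, 2, 0, 2, 0, 2, 0, 2, 0, 2, 0, 2, 0, 3, 0, 2, 0, 3, 0, 2, 0, 2, 0, 3, 0,
    3] [[0, 1, 1, 0, 1, 0, 0, 0, 1, 1, 0, 0, 1, 1, 0, 1, 0], [0, 1, 1, 1, 1, 0, 1, 0, 0, 0, 0, 0, 1, 0, 1, 1],
    [0, 1, 0, 1, 0, 1, 1, 1, 0, 1, 0, 1, 1, 0, 0, 1, 0]]),
  ([62, 70, 69], .base 0 [2, 0, 3, 0, 2, 0, 2, 0, 2, 0, 2, 0, 3, 0, 3, 0, 2, 0, 2, 0, 3, 0, 2, 0, 3, 0] [[0, 1,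
    1, 1, 0, 0, 0, 1, 0, 0, 0, 1, 1, 1, 0, 0], [0, 1, 1, 1, 0, 1, 1, 0, 1, 0, 1, 1], [0, 1, 1, 1, 1, 0, 0, 1,
    1, 1, 0, 0, 0, 0]]),
  ([70, 71, 68], .base 0 [3, 0, 3, 0, 2, 0, 3, 0, 2, 0, 3, 0, 3, 0, 3, 0, 3, 0, 3, 0, 3, 0, 3, 0, 3, 0, 2, 0,
    2] [[0, 0, 1, 0, 1, 0, 1, 1, 1, 0, 0, 1, 0, 0, 1, 1, 0, 0], [1, 0, 0, 0, 0, 1, 0, 0, 1, 1, 0, 1, 1, 0], [1,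
    1, 1, 0, 1, 0, 1, 0, 1, 1, 0, 1, 0, 0, 0, 1]]),
  ([71, 48, 72], .base 0 [0, 2, 0, 2, 0, 2, 0, 2, 0, 3, 0, 3, 0, 2, 0, 2, 0] [[0, 1, 1, 0, 0, 0, 0, 1, 1, 0, 0,
    1, 1, 0, 0, 0, 1], [0, 0, 1, 0, 0, 1, 1, 1, 0, 1, 1, 1, 1, 1, 1, 0, 1], [0, 1, 0, 0, 1, 1, 0, 0, 1, 1, 1,
    1, 1, 0, 1, 0, 0]]),
  ([72, 46, 73], .base 0 [0, 2, 0, 3, 0, 2, 0, 3, 0, 2, 0, 2, 0, 2, 0, 2, 0, 2, 0, 2, 0, 2, 0, 3, 0, 2, 0,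
    2] [[0, 0, 0, 0, 1, 0, 1, 1, 0, 1, 1, 1, 1, 0, 0], [1, 0, 1, 0, 1, 0, 0, 0, 0, 1, 0, 1, 1, 1, 0, 0], [0, 0,
    0, 0, 1, 1, 0, 1, 0, 0, 1, 0, 0, 1, 1, 0]]),
  ([67, 73, 74], .base 0 [0, 3, 0, 3, 0, 2, 0, 3, 0, 2, 0, 2, 0, 3, 0, 2, 0, 2, 0, 2, 0, 3, 0, 3] [[], [0, 0,
    1, 1, 1, 0, 0, 0, 0, 1, 0, 1, 0, 1, 0, 0], [0, 0, 1, 0, 1, 0, 1, 0, 1, 0, 0, 1, 0, 0, 0, 1]]),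
  ([66, 74, 75], .base 0 [0, 3, 0, 3, 0, 2, 0, 2, 0, 3, 0, 3, 0, 3, 0, 2, 0, 3, 0, 3, 0, 3, 0, 3, 0, 3] [[0, 0,
    0, 1, 0, 0, 0, 1, 0, 1, 0, 1, 0, 0, 1, 0, 0, 0, 0], [0, 0, 0, 0, 0, 0, 1, 1, 1, 0, 1, 1, 1, 0, 1, 0, 0, 1],
    [1, 1, 1, 1, 1, 0, 0, 1, 1, 0, 0, 1, 0, 0]]),
  ([55, 43, 76], .base 0 [3, 0, 2, 0, 2, 0, 2, 0, 3, 0, 3, 0, 2, 0, 2, 0, 3, 0, 2, 0, 3, 0, 2, 0, 3] [[1, 1, 0,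
    0, 1, 1, 1, 1, 0, 1, 1, 0, 1, 1, 1, 1, 0, 0], [1, 1, 0, 0, 0, 1, 0, 0, 1, 1, 1, 0, 0, 0], [0, 1, 0, 0, 1,
    0, 0, 0, 0, 1, 1, 1, 1, 1, 0, 1, 1]]),
  ([38, 77, 76], .base 0 [3, 0, 2, 0, 3, 0, 3, 0, 3, 0, 3, 0, 2, 0, 3, 0, 2, 0, 3, 0, 2, 0, 3, 0, 3] [[1, 1, 1,
    1, 1, 0, 0, 1, 1, 0, 0, 1, 0, 0], [0, 0, 1, 0, 1, 0, 0, 1, 0, 0, 1, 1, 0, 0, 1, 0], [0, 0, 1, 1, 0, 0, 0,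
    0, 1, 1, 0, 1, 1, 0]]),
  ([61, 77, 78], .base 0 [3, 0, 3, 0, 2, 0, 3, 0, 3, 0, 3, 0, 3, 0, 2, 0, 3, 0, 3, 0, 2] [[1, 1, 0, 1, 1, 1, 0,
    0, 1, 1, 0, 1, 0, 1, 1, 0, 0, 0], [0, 1, 0, 0, 1, 1, 1, 1, 1, 0, 1, 1, 1, 0], [1, 0, 1, 1, 1, 1, 0, 1, 1,
    1, 1, 1, 1, 1, 1, 1, 0]]),
  ([79, 78, 75], .base 0 [0, 3, 0, 3, 0, 3, 0, 2, 0, 2, 0, 2, 0, 2, 0, 3, 0, 3, 0, 3, 0, 3, 0, 2, 0, 2, 0,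
    3] [[0, 1, 0, 0, 0, 0, 0, 1, 1, 0, 0, 1, 0, 0, 0], [0, 0, 1, 0, 0, 1, 1, 1, 1, 0, 1, 1, 0, 1, 1], [1, 0, 0,
    0, 1, 1, 1, 1, 1, 0, 1, 0, 0, 1, 1, 0, 0]]),
  ([79, 80, 37], .base 0 [3, 0, 2, 0, 3, 0, 3, 0, 2, 0, 3, 0, 3, 0, 3, 0, 2, 0, 2, 0, 2, 0, 3, 0, 2, 0, 3, 0,
    3] [[1, 1, 0, 0, 1, 0, 1, 1, 0, 1, 1, 0, 1, 1, 0, 1, 0], [0, 1, 1, 0, 0, 0, 1, 0, 0, 1, 1, 0, 0, 0, 0, 1],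
    [0, 1, 1, 0, 1, 1, 1, 1, 1, 0, 1, 0, 0, 0, 1, 0, 1]]),
  ([70, 81, 35], .base 0 [3, 0, 2, 0, 3, 0, 2, 0, 3, 0, 3, 0, 3, 0, 2, 0, 2, 0, 3, 0, 2, 0, 2, 0, 2, 0, 3] [[0,
    0, 1, 1, 0, 0, 0, 1, 0, 0, 0, 0, 0, 0], [1, 1, 1, 0, 0, 0, 1, 0, 1, 1, 1, 0, 0, 0, 1], [0, 0, 0, 1, 0, 0,
    0, 1, 0, 0, 0, 1, 0, 0, 0]]),
  ([82, 38, 63], .base 0 [0, 2, 0, 3, 0, 2, 0, 3, 0, 3, 0, 3, 0, 2, 0, 3, 0, 2, 0, 3, 0, 2, 0, 3, 0, 3, 0,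
    2] [[0, 0, 0, 1, 0, 1, 0, 1, 1, 1, 0, 1, 0, 1, 1, 0, 0], [0, 0, 0, 1, 0, 1, 1, 1, 0, 1, 1, 1, 1, 1, 0, 1],
    [1, 1, 0, 0, 1, 0, 0, 1, 0, 1, 1, 0, 1, 1, 0, 0, 1]]),
  ([83, 59, 82], .base 0 [0, 3, 0, 3, 0, 2, 0, 2, 0, 2, 0, 2, 0, 3, 0, 2, 0, 2, 0, 3, 0, 3, 0, 3, 0, 3, 0,
    3] [[0, 0, 0, 0, 0, 0, 0, 1, 0, 0, 1, 1, 0, 0, 0, 0], [0, 1, 1, 0, 0, 0, 0, 1, 1, 0, 1, 1, 0, 0, 0, 1], [1,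
    1, 0, 0, 1, 1, 1, 0, 0, 1, 0, 1, 1, 1, 0, 0, 1, 1]]),
  ([83, 74, 84], .base 0 [0, 3, 0, 3, 0, 2, 0, 3, 0, 2, 0, 3, 0, 2, 0, 2, 0, 3, 0, 2, 0, 3] [[0, 1, 1, 0, 1, 1,
    1, 1, 0, 1, 1, 1, 1, 0, 0, 0, 0], [1, 1, 1, 0, 1, 1, 1, 0, 1, 1, 1, 0], [1, 1, 1, 0, 1, 0, 0, 1, 1, 1, 1,
    0, 0, 1]])
]

/-- Relations with proofs, part 3. -/
def items3_3 : List (List ℕ × Prf) := [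
  ([84, 81, 85], .base 0 [0, 3, 0, 3, 0, 3, 0, 2, 0, 3, 0, 2, 0, 2, 0, 3, 0, 3, 0, 2, 0, 2, 0] [[0, 1, 0, 0, 1,
    0, 0, 0, 0, 1, 1, 0, 0, 1, 0, 0], [0, 0, 1, 0, 1, 1, 1, 1, 0, 0, 1, 1, 1, 0, 0, 1, 0, 0], [0, 1, 0, 0, 1,
    1, 0, 0, 1, 1, 1, 1, 1, 0, 1, 0, 0]]),
  ([85, 86, 49], .base 0 [3, 0, 3, 0, 2, 0, 3, 0, 2, 0, 2, 0, 2, 0, 2, 0, 3, 0, 3, 0, 3, 0, 3, 0, 3, 0, 3, 0,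
    3, 0] [[1, 1, 0, 0, 1, 1, 0, 1, 1, 0, 1, 0, 1, 0, 1, 0, 0], [0, 0, 0, 0, 0, 1, 0, 1, 0, 1, 0, 1, 1, 1, 0,
    1, 0, 0, 1], [0, 1, 0, 1, 0, 1, 0, 1, 0, 1, 1, 1, 1, 0]]),
  ([45, 87, 33], .base 0 [0, 3, 0, 3, 0, 2, 0, 3, 0, 2, 0, 2, 0, 2, 0, 3, 0, 2, 0, 2, 0, 2] [[0, 1, 1, 0, 0, 1,
    0, 0, 0, 1, 1, 0, 1, 0, 1, 0, 0], [0, 0, 0, 1, 0, 0, 0, 1, 1, 0, 0, 1], [0, 0, 0, 0, 0, 1, 1, 0, 0, 0, 0,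
    0, 0, 0, 1]]),
  ([56, 88, 87], .base 0 [0, 3, 0, 3, 0, 2, 0, 3, 0, 3, 0, 3, 0, 3, 0, 3, 0] [[0, 0, 1, 0, 1, 1, 1, 0, 1, 0, 1,
    0, 0, 1, 1, 0, 1], [0, 1, 0, 0, 1, 0, 0, 1, 1, 0, 1, 0, 0, 1, 0, 1, 0, 0], [0, 1, 1, 1, 1, 0, 0, 1, 0, 0,
    1, 1, 0, 1]]),
  ([62, 89, 88], .base 0 [3, 0, 3, 0, 2, 0, 3, 0, 2, 0, 2, 0, 2, 0, 3, 0, 2, 0, 3, 0, 2, 0, 2, 0, 2] [[1, 0, 0,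
    1, 0, 1, 1, 1, 1, 1, 0, 0, 1, 1, 0], [1, 1, 1, 1, 0, 0, 1, 0, 0, 0, 1, 0, 0, 0, 1], [0, 0, 1, 1, 1, 0, 1,
    0, 0, 1, 0]]),
  ([42, 90, 36], .base 0 [0, 2, 0, 3, 0, 2, 0, 2, 0, 3, 0, 3, 0, 3, 0, 2, 0, 2, 0, 2, 0, 2, 0] [[0, 0, 1, 0, 1,
    1, 0, 1, 0, 0, 1, 0, 1, 1, 0, 1], [1, 0, 1, 0, 1, 0, 1, 0, 1, 1, 1, 1, 0, 0, 0, 0, 0, 0], [0, 1, 0, 0, 1,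
    0, 0, 1, 1, 0, 1, 0, 1, 0, 1, 1, 0]]),
  ([91, 90, 53], .base 0 [0, 3, 0, 2, 0, 3, 0, 3, 0, 3, 0, 3, 0, 3, 0, 2, 0, 2, 0] [[0, 1, 0, 0, 1, 1, 1, 1, 1,
    0, 0, 0, 0, 0, 1, 1], [0, 0, 1, 1, 0, 0, 0, 1, 0, 1, 1, 0, 1, 1], [0, 1, 1, 1, 1, 1, 1, 0, 0, 0, 1, 1, 1,
    1, 0, 0, 0]]),
  ([55, 92, 44], .base 0 [3, 0, 2, 0, 2, 0, 2, 0, 2, 0, 3, 0, 2, 0, 2, 0, 3, 0, 3, 0, 3] [[0, 1, 0, 0, 0, 0, 1,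
    0, 1, 0, 1, 0, 1, 0, 0, 1, 1], [0, 0, 0, 0, 1, 0, 0, 1, 1, 1, 1, 0, 1, 1, 1, 1, 1], []]),
  ([93, 58, 92], .base 0 [0, 3, 0, 2, 0, 3, 0, 2, 0, 2, 0, 3, 0, 3, 0, 3, 0, 3, 0, 2, 0, 2, 0] [[1, 1, 1, 0, 0,
    0, 0, 1, 0, 1, 1, 0, 0, 1, 1], [0, 1, 0, 0, 0, 0, 1, 1, 0, 1, 1, 1, 1], [1, 0, 1, 0, 1, 0, 1, 1, 1, 1, 1,
    0, 0, 0]]),
  ([93, 91, 94], .base 0 [2, 0, 2, 0, 3, 0, 2, 0, 2, 0, 2, 0, 3, 0, 3, 0, 3, 0, 3, 0, 3, 0, 2, 0, 2, 0] [[0, 0,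
    1, 0, 1, 0, 1, 1, 1, 0, 1, 0, 1, 1, 1, 1, 1, 1], [0, 1, 0, 0, 0, 0, 0, 1, 0, 1, 0, 1, 0, 1], [1, 1, 1, 1,
    0, 1, 0, 0, 0, 1, 1, 0, 1, 1, 0, 1]]),
  ([95, 94, 45], .base 0 [2, 0, 3, 0, 3, 0, 2, 0, 2, 0, 2, 0, 3, 0, 3, 0, 2, 0, 2, 0, 2, 0, 2, 0, 2, 0] [[0, 0,
    0, 0, 0, 0, 1, 0, 1, 1, 1, 1, 1, 1, 1, 1, 0], [0, 0, 0, 1, 1, 0, 0, 1, 0, 1, 1, 0, 1, 0, 1, 0], [0, 1, 1,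
    1, 0, 0, 1, 1, 1, 0, 0, 1, 0, 0, 0, 0]]),
  ([95, 38, 96], .base 0 [2, 0, 3, 0, 2, 0, 2, 0, 3, 0, 2, 0, 2, 0, 2, 0, 2, 0, 2, 0, 3, 0, 2, 0, 2, 0, 2] [[0,
    1, 1, 0, 0, 0, 0, 1, 0, 1, 0, 0, 1, 0, 1, 0, 1, 1], [0, 0, 0, 0, 0, 0, 1, 0, 0, 1, 1, 0, 1, 1, 0, 0, 0, 0],
    [1, 1, 1, 0, 0, 0, 1, 1, 1, 0, 0, 0, 0, 1, 0]]),
  ([66, 97, 96], .base 0 [0, 3, 0, 2, 0, 2, 0, 3, 0, 3, 0, 3, 0, 3, 0, 3] [[0, 1, 1, 0, 0, 0, 0, 1, 0, 1, 1, 0,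
    1, 1, 1, 0, 1], [0, 1, 0, 0, 0, 0, 1, 1, 1, 0, 0, 0, 1, 0, 0, 0, 0, 0], []]),
  ([58, 97, 98], .base 0 [2, 0, 2, 0, 3, 0, 3, 0, 2, 0, 3, 0, 2, 0, 3, 0, 2, 0, 3, 0, 3, 0, 3] [[1, 1, 1, 1, 1,
    1, 1, 0, 0, 1, 0, 1, 0, 0, 0], [1, 0, 0, 1, 1, 1, 0, 1, 1, 0, 0, 1, 0, 0, 0, 0], [0, 1, 0, 0, 1, 0, 0, 0,
    0, 1, 1, 1, 1, 1, 0, 1, 1]]),
  ([98, 99, 89], .base 0 [3, 0, 3, 0, 3, 0, 3, 0, 3, 0, 3, 0, 2, 0, 3, 0, 2, 0, 2, 0, 2, 0, 3, 0] [[0, 0, 0, 1,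
    0, 1, 1, 0, 0, 1, 1, 0, 1, 1, 0, 0], [0, 0, 0, 0, 1, 0, 0, 1, 0, 1, 1, 1, 0, 1], [1, 1, 0, 0, 0, 0, 1, 0,
    0, 1, 0, 0]]),
  ([99, 40, 100], .base 0 [0, 2, 0, 3, 0, 3, 0, 3, 0, 3, 0, 3, 0, 3, 0, 2, 0, 2, 0, 2, 0, 2, 0, 2] [[0, 1, 0,
    0, 0, 0, 0, 0, 1, 0, 1, 1, 1, 0, 1, 1, 0, 0], [1, 0, 1, 1, 0, 0, 1, 0, 0, 1, 1, 1, 0, 1, 1, 1], [0, 1, 0,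
    1, 0, 0, 1, 1, 1, 1, 1, 0, 1, 1, 1, 1, 0, 1]]),
  ([86, 101, 100], .base 0 [2, 0, 2, 0, 2, 0, 2, 0, 3, 0, 2, 0, 2, 0, 3, 0, 3, 0, 2, 0, 3, 0, 2, 0, 2] [[1, 1,
    0, 0, 0, 1, 1, 0, 1, 0, 0, 0, 0, 0, 1, 0], [0, 1, 0, 0, 0, 0, 0, 1, 1, 1, 1, 1, 0, 1, 0, 1, 1], [0, 0, 1,
    0, 0, 1, 0, 0, 1, 1, 0, 0, 1, 1, 1, 1]]),
  ([101, 96, 102], .base 0 [0, 3, 0, 3, 0, 2, 0, 2, 0, 3, 0, 3, 0, 3, 0, 3, 0, 3, 0, 3, 0, 3, 0, 3, 0, 2,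
    0] [[0, 1, 1, 0, 1, 0, 0, 1, 0, 0, 0, 0, 1, 1, 1, 1, 0], [0, 0, 0, 0, 0, 1, 0, 0, 0, 0, 1, 0, 0, 0, 1, 1,
    1], [1, 1, 0, 0, 0, 1, 1, 1, 1, 0, 0, 1, 1, 1]]),
  ([102, 80, 103], .base 0 [2, 0, 3, 0, 2, 0, 2, 0, 2, 0, 2, 0, 2, 0, 2, 0, 2, 0, 2, 0, 3, 0, 2, 0, 2, 0,
    2] [[0, 1, 1, 0, 0, 0, 0, 1, 0, 1, 0, 0, 1, 0, 1, 0, 1, 1], [0, 0, 1, 1, 0, 1, 1, 1, 1, 0, 1, 0, 0, 1, 1,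
    1], [1, 0, 1, 1, 0, 1, 1, 1, 0, 1, 1, 1, 0, 0, 1, 0]]),
  ([104, 43, 62], .base 0 [3, 0, 2, 0, 2, 0, 2, 0, 2, 0, 3, 0, 3, 0, 3, 0, 3, 0, 2, 0, 2, 0, 3] [[0, 1, 0, 0,
    0, 0, 0, 1, 1, 0, 0, 1, 0, 0, 0], [0, 0, 1, 0, 0, 1, 1, 1, 1, 0, 1, 1, 0, 1, 1], [0, 0, 0, 0, 0, 0, 0, 1,
    0, 1, 1, 1, 1, 0, 1, 0, 0]]),
  ([103, 104, 105], .base 0 [0, 2, 0, 2, 0, 3, 0, 3, 0, 2, 0, 2, 0, 2, 0, 3, 0, 2, 0, 3, 0, 2, 0, 2, 0, 2, 0,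
    2] [[0, 0, 0, 1, 0, 1, 0, 0, 0, 1, 1, 0, 0, 1, 0, 0, 1], [0, 1, 0, 1, 1, 0, 0, 1, 0, 1, 0, 0, 0, 0, 1], [0,
    1, 1, 0, 0, 0, 1, 1, 1, 1, 1, 0, 1, 0, 0, 0]]),
  ([86, 106, 88], .base 0 [2, 0, 2, 0, 2, 0, 2, 0, 3, 0, 2, 0, 2, 0, 2, 0, 3, 0, 3] [[], [0, 0, 1, 1, 1, 0, 0,
    0, 0, 1, 0, 1, 0, 1, 0, 0], [0, 0, 1, 0, 1, 0, 1, 0, 1, 0, 0, 1, 0, 0, 0, 1]]),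
  ([39, 60, 107], .base 0 [0, 3, 0, 2, 0, 2, 0, 3, 0, 2, 0, 3, 0, 2, 0, 3, 0, 3, 0, 2, 0, 2, 0, 2, 0, 2, 0, 2,
    0] [[1, 1, 1, 1, 1, 1, 0, 0, 1, 1, 1], [0, 0, 0, 0, 0, 1, 1, 0, 1, 0, 0, 1, 1, 0, 1, 1, 0], [0, 1, 0, 1, 1,
    0, 1, 1, 0, 1, 1, 1, 0, 1, 0, 0, 0]]),
  ([106, 108, 107], .base 0 [2, 0, 3, 0, 2, 0, 3, 0, 2, 0, 2, 0, 2, 0, 2, 0, 2, 0, 3, 0, 3, 0, 3, 0, 3] [[0, 1,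
    0, 0, 1, 1, 1, 1, 0, 0, 1, 0, 0, 0, 1, 1], [1, 1, 0, 0, 0, 1, 0, 1, 0, 0, 1, 1, 0, 0, 1, 1], [0, 0, 0, 0,
    1, 0, 1, 0, 0, 0, 0, 0, 1, 1, 0]]),
  ([71, 19, 108], .base 0 [3, 0, 3, 0, 3, 0, 2, 0, 2, 0, 3, 0, 2, 0, 3, 0, 2, 0, 3, 0, 2, 0, 2, 0, 2, 0, 2, 0,
    2] [[1, 0, 0, 0, 1, 1, 1, 0, 0, 1], [0, 0, 0, 0, 1, 1, 0, 0, 1, 0, 1, 1, 1, 0, 1, 1, 1], [1, 1, 0, 0, 0, 0,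
    0, 1, 0, 1, 1, 0, 1, 1, 0]]),
  ([19, 109, 50], .base 0 [0, 3, 0, 2, 0, 3, 0, 2, 0, 2, 0, 2, 0, 2, 0, 2, 0, 2, 0, 2, 0, 3, 0, 3, 0, 2,
    0] [[1, 1, 0, 1, 0, 1, 1, 0, 1, 1, 1, 1, 0, 0, 1, 1, 1], [0, 1, 0, 0, 1, 0, 1, 0, 1, 1, 1, 1, 0, 1], [0, 0,
    0, 0, 0, 1, 0, 0, 0, 0, 0, 0, 1, 0, 1, 0, 0, 1]]),
  ([110, 105, 109], .base 0 [2, 0, 3, 0, 3, 0, 2, 0, 2, 0, 2, 0, 2, 0, 2, 0, 2, 0, 3, 0, 3, 0, 3, 0, 2, 0, 2,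
    0, 3, 0] [[1, 1, 0, 0, 1, 0, 0, 0, 0, 1, 0, 1, 0, 0, 0, 1, 1], [1, 0, 0, 0, 1, 1, 1, 1, 1, 0, 0, 0, 0, 0,
    1], [1, 0, 0, 1, 1, 0, 0, 1, 1, 0, 1, 0, 1, 1, 0]]),
  ([76, 51, 111], .base 0 [3, 0, 2, 0, 3, 0, 3, 0, 3, 0, 3, 0, 2, 0, 3, 0, 2, 0, 2, 0, 2, 0, 2, 0, 2] [[0, 0,
    1, 0, 0, 1, 1, 1, 0, 0], [0, 0, 0, 0, 0, 1, 1, 1, 1, 1, 1, 0, 1, 1], [1, 0, 1, 0, 1, 0, 1, 0, 1, 0, 0, 1]]),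
  ([111, 79, 112], .base 0 [3, 0, 3, 0, 2, 0, 2, 0, 2, 0, 3, 0, 2, 0, 3, 0, 2, 0, 2, 0, 2, 0, 2] [[1, 0, 0, 0,
    0, 1, 0, 0, 0, 0, 1, 0, 0, 0, 1], [0, 1, 0, 1, 1, 0, 0, 1, 0, 1, 0, 0, 0, 0, 1], [0, 1, 1, 0, 0, 0, 1, 1,
    1, 1, 1, 0, 1, 0, 0, 0]]),
  ([63, 111, 113], .base 0 [0, 3, 0, 2, 0, 2, 0, 3, 0, 3, 0, 3, 0, 2, 0, 3, 0, 2, 0, 3, 0, 2, 0, 2, 0, 2] [[1,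
    1, 0, 0, 1, 1, 0, 1, 0, 1, 0, 1, 0, 1, 0, 0, 1], [1, 1, 1, 1, 1, 1, 1, 1, 0, 0, 1, 0, 1, 1, 1, 1], [0, 1,
    0, 1, 0, 0, 0, 1, 0, 1, 0, 0, 1, 0, 0, 0, 1]]),
  ([114, 113, 54], .base 0 [2, 0, 3, 0, 2, 0, 2, 0, 3, 0, 3, 0, 3, 0, 3, 0, 2, 0, 2, 0, 3, 0, 3, 0, 2, 0, 2,
    0] [[0, 1, 0, 1, 1, 1, 0, 1, 1, 0, 0, 1, 1, 1, 0, 1, 1, 0], [1, 1, 0, 1, 1, 0, 0, 0, 1, 1, 0, 1, 0, 1], [0,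
    1, 1, 1, 0, 0, 0, 1, 0, 1, 1, 0, 0]]),
  ([115, 99, 114], .base 0 [3, 0, 2, 0, 3, 0, 2, 0, 3, 0, 2, 0, 2, 0, 3, 0, 3, 0, 2, 0, 3, 0, 2, 0, 3, 0, 3, 0,
    2] [[1, 0, 1, 0, 1, 0, 1, 0, 0, 0, 1, 1, 0, 0, 0, 0], [0, 1, 0, 0, 1, 1, 0, 0, 0, 1, 1, 1, 1], [0, 0, 0, 1,
    0, 1, 0, 1, 1, 0, 0, 1, 1, 1, 0, 0]]),
  ([116, 115, 112], .base 0 [2, 0, 2, 0, 3, 0, 3, 0, 3, 0, 2, 0, 3, 0, 2, 0, 3, 0, 3, 0, 3, 0, 2, 0, 3, 0,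
    3] [[1, 1, 0, 0, 0, 1, 1, 0, 1, 0, 1, 1, 1, 1, 1, 1, 0], [0, 0, 0, 1, 1, 0, 1, 1, 1, 1, 0, 0, 0, 1, 0, 1,
    0, 0], [0, 1, 0, 1, 0, 0, 0, 0, 0, 1, 1, 1, 1, 0, 1]]),
  ([61, 40, 117], .base 0 [0, 3, 0, 2, 0, 2, 0, 3, 0, 3, 0, 3, 0, 2, 0, 2, 0, 2, 0, 3, 0, 3, 0, 3, 0, 2,
    0] [[1, 0, 0, 0, 1, 1, 1, 1, 0, 1, 1, 0, 1, 1, 0, 0, 0], [0, 1, 0, 1, 1, 0, 0, 0, 0, 1, 1, 1, 0, 1, 0, 1,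
    0], [1, 1, 0, 1, 1, 0, 1, 1, 1, 1, 0, 1, 1, 1, 1, 0, 1]]),
  ([92, 118, 117], .base 0 [3, 0, 2, 0, 3, 0, 2, 0, 2, 0, 2, 0, 2, 0, 3, 0, 2, 0, 2, 0, 2, 0, 2, 0, 2, 0] [[0,
    0, 0, 0, 0, 1, 0, 0, 0, 1, 1, 1, 1, 0, 0, 1, 0], [1, 1, 0, 1, 1, 1, 0, 1, 1, 0, 1, 0, 1, 0], [0, 0, 1, 0,
    0, 1, 1, 1, 1, 1, 0, 1, 0, 1, 0, 0, 1]])
]

/-- Relations with proofs, part 4. -/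
def items3_4 : List (List ℕ × Prf) := [
  ([18, 116, 118], .base 0 [3, 0, 3, 0, 2, 0, 2, 0, 2, 0, 3, 0, 3, 0, 3, 0, 3, 0, 2, 0, 2] [[1, 1, 0, 0, 1, 0,
    0, 1, 1, 0, 0, 0, 1, 0, 1, 1], [0, 0, 0, 1, 1, 1, 1, 1, 1, 0, 0, 1], [0, 1, 0, 0, 1, 0, 0, 1, 0, 0, 0, 0,
    1, 0, 0, 1, 0]]),
  ([18, 95, 119], .base 0 [3, 0, 3, 0, 3, 0, 3, 0, 2, 0, 2, 0, 2, 0, 3, 0, 2, 0, 3] [[0, 0, 0, 1, 1, 0, 0, 1,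
    0, 0, 0, 1, 0, 1, 1, 1, 0, 1], [0, 0, 0, 0, 1, 1, 1, 1, 0, 1, 0, 0, 1, 1, 0, 0, 1], [0, 1, 1, 0, 0, 1, 0,
    0, 1, 0, 1, 1, 0, 0, 1, 0, 1]]),
  ([92, 62, 120], .base 0 [0, 2, 0, 2, 0, 2, 0, 2, 0, 2, 0, 2, 0, 2, 0, 3, 0, 3, 0, 3, 0, 3, 0, 2, 0, 2, 0,
    3] [[0, 1, 0, 1, 0, 0, 0, 1, 0, 1, 0, 1, 1, 1, 1, 1], [1, 1, 1, 1, 1, 1, 0, 1, 0, 1, 0, 0, 0, 1, 1], [0, 0,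
    0, 0, 0, 0, 0, 1, 0, 1, 1, 1, 1, 0, 1, 0, 0]]),
  ([121, 120, 76], .base 0 [0, 2, 0, 2, 0, 3, 0, 3, 0, 3, 0, 3, 0, 3, 0, 3, 0, 3, 0, 2] [[0, 1, 1, 1, 0, 1, 0,
    1, 0, 0, 1, 1, 1, 1, 0, 1, 1, 0], [0, 1, 0, 1, 1, 0, 0, 1, 1, 0, 0, 1, 0, 0, 1], [0, 0, 1, 0, 1, 1, 1, 1,
    1, 1, 1, 0, 0, 1, 0, 1, 0, 1, 1]]),
  ([122, 75, 121], .base 0 [2, 0, 2, 0, 2, 0, 2, 0, 3, 0, 3, 0, 2, 0, 2, 0, 3, 0, 2, 0, 3, 0, 2, 0, 3, 0] [[1,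
    0, 1, 0, 1, 1, 0, 1, 0, 1, 1, 1, 0, 0, 0, 1, 0], [0, 1, 1, 1, 1, 0, 0, 0, 1, 0, 0, 0, 1, 1, 1, 1], [0, 1,
    1, 0, 1, 1, 0, 1, 1, 0, 1, 0, 1, 0]]),
  ([122, 12, 86], .base 0 [0, 3, 0, 2, 0, 2, 0, 2, 0, 2, 0, 3, 0, 3, 0, 2, 0, 2, 0, 2, 0, 2, 0, 3] [[0, 1, 1,
    1, 1, 0, 1, 1, 0, 0, 1, 0, 0, 0, 0, 0, 1, 1], [0, 0, 0, 0, 1, 0, 1, 0, 0, 0, 0, 1, 1, 1], [1, 0, 1, 0, 0,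
    0, 1, 1, 0, 1, 1, 0, 0, 1, 0, 0]]),
  ([91, 123, 12], .base 0 [0, 3, 0, 3, 0, 3, 0, 3, 0, 2, 0, 3, 0, 2, 0, 2, 0, 3, 0, 3, 0, 3, 0, 3, 0, 2,
    0] [[0, 1, 0, 0, 0, 1, 0, 0, 0, 0, 1, 1, 1, 0, 0, 1, 0], [1, 0, 0, 0, 1, 0, 1, 1, 1, 1, 0, 1, 0, 0, 0, 0,
    1], [0, 0, 1, 1, 0, 0, 0, 0, 0, 0, 0, 1, 1, 0, 1, 1, 0, 0]]),
  ([68, 123, 124], .base 0 [2, 0, 2, 0, 3, 0, 2, 0, 2, 0, 2, 0, 3, 0, 3, 0, 3, 0, 2, 0, 3, 0, 2, 0, 3, 0, 3, 0,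
    2, 0, 2] [[1, 1, 1, 0, 0, 1, 0, 0, 1, 0, 0, 0, 0, 0, 1], [0, 1, 0, 1, 0, 1, 1, 1, 1, 1, 0, 0, 1, 1, 0, 1],
    [0, 1, 0, 1, 1, 1, 1, 0, 0, 1, 1, 1, 0]]),
  ([124, 125, 66], .base 0 [0, 3, 0, 2, 0, 2, 0, 3, 0, 3, 0, 2, 0, 3, 0, 3, 0, 2, 0, 3, 0, 2, 0, 3, 0, 3, 0,
    3] [[0, 0, 0, 1, 1, 1, 1, 0, 1, 0, 0, 1, 0, 1, 1, 0, 0], [1, 0, 1, 1, 0, 1, 0, 0, 0, 1, 0, 1], [0, 1, 1, 0,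
    0, 0, 0, 1, 0, 1, 1, 0, 1, 1, 1, 0, 1]]),
  ([119, 125, 126], .base 0 [3, 0, 2, 0, 2, 0, 3, 0, 2, 0, 3, 0, 3, 0, 2, 0, 2, 0, 2, 0, 2, 0, 3, 0, 3, 0, 3,
    0, 3, 0, 3, 0] [[0, 1, 1, 0, 0, 1, 0, 1, 1, 0, 0, 1, 0, 1, 1, 0, 1], [1, 1, 1, 1, 1, 0, 1, 1, 0, 0, 0, 0,
    0, 1], [0, 0, 1, 1, 1, 1, 1, 0, 1, 0, 1, 0, 0, 1, 1]]),
  ([126, 110, 127], .base 0 [0, 3, 0, 3, 0, 3, 0, 2, 0, 3, 0, 2, 0, 2, 0, 3, 0, 3, 0, 3, 0, 3, 0, 2, 0, 2, 0,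
    2, 0, 2, 0, 3] [[0, 0, 0, 1, 1, 0, 1, 0, 0, 0, 0, 0, 1, 1, 1, 0, 1], [0, 1, 0, 0, 1, 0, 1, 0, 0, 0, 1, 0,
    1, 1, 0, 0, 0], [0, 1, 1, 0, 1, 1, 1, 1, 1, 1, 0, 0, 1, 1, 0, 1, 1, 0]]),
  ([128, 90, 63], .base 0 [0, 3, 0, 2, 0, 2, 0, 2, 0, 2, 0, 3, 0, 2, 0, 2, 0, 3, 0, 3, 0, 3, 0, 3, 0, 2,
    0] [[0, 0, 1, 0, 0, 0, 1, 1, 0, 0, 1], [0, 0, 0, 1, 0, 1, 0, 1, 0, 1, 0, 0, 1, 0, 0, 1, 0, 0], [0, 0, 1, 0,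
    0, 0, 1, 0, 1, 0, 1, 1, 0, 1, 1, 1, 1]]),
  ([129, 128, 75], .base 0 [0, 2, 0, 3, 0, 3, 0, 3, 0, 2, 0, 2, 0, 3, 0, 3, 0, 3, 0, 3, 0, 2, 0, 2] [[1, 1, 1,
    0, 1, 1, 0, 1, 1, 1, 1, 0, 0, 1, 0, 1, 0], [0, 0, 0, 1, 1, 1, 1, 1, 1, 0, 0, 1], [1, 1, 1, 0, 1, 1, 0, 1,
    1, 1, 1, 0, 0]]),
  ([102, 65, 130], .base 0 [2, 0, 3, 0, 2, 0, 2, 0, 3, 0, 2, 0, 2, 0, 2, 0, 3, 0, 2, 0, 2, 0, 2] [[0, 1, 1, 0,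
    0, 1, 0, 0, 0, 1, 1, 0, 1, 0, 1, 0, 0], [0, 1, 0, 1, 0, 1, 0, 0, 1, 0, 1, 0, 0, 1, 0], [0, 0, 0, 0, 0, 1,
    1, 0, 0, 0, 0, 0, 0, 0, 1]]),
  ([131, 130, 129], .base 0 [2, 0, 3, 0, 2, 0, 2, 0, 2, 0, 2, 0, 3, 0, 2, 0, 3, 0, 2, 0, 3] [[0, 1, 1, 1, 1, 0,
    1, 0, 0, 1, 0, 0, 1, 1, 1, 1, 0], [1, 1, 1, 1, 0, 1, 1, 1, 1, 1, 1, 0, 0, 0, 1, 0, 1], [0, 1, 0, 0, 1, 0,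
    0, 0, 0, 1, 1, 1, 1, 1, 0, 1, 1]]),
  ([132, 45, 43], .base 0 [2, 0, 3, 0, 3, 0, 3, 0, 2, 0, 2, 0, 2, 0, 2, 0, 3, 0, 3, 0, 3, 0, 3, 0, 2, 0, 2, 0,
    3] [[0, 1, 0, 0, 0, 0, 0, 1, 1, 0, 0, 1, 0, 0, 0], [0, 0, 1, 0, 0, 1, 1, 1, 1, 0, 1, 1, 0, 1, 1], [1, 0, 0,
    0, 1, 1, 1, 1, 1, 0, 1, 0, 0, 1, 1, 0, 0]]),
  ([133, 116, 132], .base 0 [3, 0, 2, 0, 2, 0, 3, 0, 3, 0, 2, 0, 3, 0, 2, 0, 2, 0, 3, 0] [[1, 1, 0, 1, 1, 0, 0,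
    1, 0, 0, 0, 0, 1, 0, 0, 0, 1, 0], [1, 1, 0, 0, 1, 1, 1, 0, 1, 0, 1, 1, 1, 0, 0], [1, 1, 0, 1, 0, 1, 1, 1,
    1, 0, 0, 0, 0, 0, 0, 1, 1]]),
  ([70, 134, 52], .base 0 [0, 3, 0, 3, 0, 2, 0, 3, 0, 3, 0, 3, 0, 3, 0, 3, 0, 2, 0, 3, 0, 3] [[0, 1, 1, 1, 1,
    0, 0, 0, 1, 0, 0, 0, 1, 1, 1, 1], [1, 1, 1, 0, 0, 1, 1, 0, 0, 0, 0, 1, 1, 1, 0, 1, 1], [1, 1, 1, 0, 0, 0,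
    0, 1, 0, 1, 1, 0, 1, 1, 1, 1, 1]]),
  ([99, 134, 135], .base 0 [3, 0, 2, 0, 2, 0, 3, 0, 2, 0, 2, 0, 2, 0, 3, 0, 3, 0, 3, 0, 3, 0, 3, 0, 3, 0, 3, 0,
    3] [[1, 1, 1, 0, 1, 1, 0, 0, 0, 1, 0], [0, 1, 1, 0, 0, 1, 0, 1, 1, 1, 0, 1, 1, 0, 1, 0, 0], [0, 1, 1, 0, 0,
    0, 0, 0, 1, 1, 1, 0, 1, 0, 1, 1]]),
  ([136, 135, 67], .base 0 [3, 0, 2, 0, 2, 0, 2, 0, 3, 0, 2, 0, 2, 0, 2, 0, 3, 0, 3, 0, 3, 0, 3, 0, 3, 0, 2,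
    0] [[0, 0, 0, 0, 1, 0, 0, 1, 0, 1, 1, 0, 1, 1, 1, 1], [1, 1, 1, 1, 0, 1, 0, 0, 0, 0, 1, 0, 1, 0, 0, 0, 0,
    1], [0, 0, 0, 1, 0, 1, 0, 1, 0, 0, 1, 1, 0, 1, 1, 1, 1, 0]]),
  ([97, 137, 136], .base 0 [2, 0, 3, 0, 2, 0, 2, 0, 3, 0, 3, 0, 3, 0, 3, 0, 3, 0, 3] [[1, 0, 0, 0, 1, 1, 0, 0,
    0, 1, 1, 0, 0, 0, 1], [1, 1, 1, 1, 1, 0, 1, 0, 0, 1, 1], [0, 0, 1, 0, 1, 0, 1, 0, 0, 0, 1, 1, 1, 1, 1]]),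
  ([138, 137, 133], .base 0 [0, 2, 0, 3, 0, 2, 0, 2, 0, 3, 0, 3, 0, 3, 0, 2, 0, 2, 0, 2, 0, 2, 0, 3, 0, 3, 0,
    3] [[1, 0, 0, 1, 0, 0, 0, 1, 1, 1, 0, 0, 1, 0, 1, 1, 0], [1, 1, 0, 0, 0, 0, 1, 0, 0, 1, 1, 0, 0, 0, 0, 1,
    1], [1, 0, 0, 0, 0, 0, 1, 0, 0, 1, 0, 0, 0, 1, 1]]),
  ([139, 138, 39], .base 0 [0, 2, 0, 3, 0, 3, 0, 2, 0, 2, 0, 3, 0, 2, 0, 3, 0, 2, 0, 2] [[1, 0, 1, 0, 0, 1, 0,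
    0, 1, 1, 0, 0, 0, 0, 0, 1, 1], [0, 0, 0, 1, 0, 1, 0, 1, 1, 1, 0, 0, 1, 0, 0, 1], [0, 1, 0, 0, 1, 1, 1, 0,
    0, 1, 0, 0, 1, 1, 0]]),
  ([59, 140, 136], .base 0 [2, 0, 2, 0, 3, 0, 2, 0, 3, 0, 3, 0, 3, 0, 3, 0, 3, 0, 3, 0, 2, 0, 3, 0, 2, 0, 2, 0,
    3, 0] [[0, 1, 0, 0, 0, 0, 1, 1, 1, 1, 0, 1, 1, 0, 0, 1, 0], [0, 0, 1, 0, 1, 1, 0, 1, 1, 0, 0, 0, 0, 1], [1,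
    0, 1, 1, 0, 0, 1, 0, 0, 0, 0, 0, 1]]),
  ([140, 112, 141], .base 0 [2, 0, 3, 0, 3, 0, 3, 0, 3, 0, 2, 0, 2, 0, 3, 0, 3] [[0, 1, 1, 0, 1, 1, 0, 0, 1, 1,
    0, 1, 1, 0, 1, 1, 0], [0, 0, 0, 1, 1, 1, 1, 1, 0, 0, 0, 1, 1, 0, 0, 1], [1, 1, 0, 1, 1, 1, 0, 0, 0, 1, 0,
    1, 0, 1, 1, 0]]),
  ([142, 117, 106], .base 0 [2, 0, 2, 0, 3, 0, 3, 0, 3, 0, 3, 0, 2, 0, 2, 0, 3, 0, 2, 0, 2, 0, 2, 0, 3, 0] [[1,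
    0, 1, 1, 0, 1, 0, 0, 0, 0, 0, 1, 0, 0, 1, 1, 1], [0, 0, 1, 0, 1, 1, 0, 0, 0, 1, 0, 0, 1, 0, 1, 1, 1, 1],
    [0, 0, 1, 0, 0, 0, 0, 0, 0, 1]]),
  ([98, 143, 112], .base 0 [2, 0, 2, 0, 3, 0, 3, 0, 3, 0, 2, 0, 3, 0, 3] [[0, 1, 0, 0, 1, 0, 0, 0, 0, 1, 1, 1,
    1, 1, 0, 1, 1], [0, 0, 1, 1, 0, 0, 1, 0, 0, 1, 1, 1, 0, 1, 1, 1, 0], [1, 0, 0, 1, 1, 0, 0, 0, 0, 1, 1, 0,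
    0, 1]]),
  ([140, 143, 144], .base 0 [2, 0, 2, 0, 2, 0, 2, 0, 3, 0, 2, 0, 3, 0, 3, 0, 2, 0, 3, 0, 2, 0, 2] [[0, 1, 0, 1,
    1, 1, 1, 0, 0, 1, 1, 0, 1, 1], [0, 0, 0, 1, 0, 1, 1, 1, 1, 0, 1, 1, 1, 1, 1, 1, 0], [1, 0, 1, 0, 0, 0, 1,
    1, 0, 0, 1, 0, 0, 0, 1, 0, 1]]),
  ([145, 142, 144], .base 0 [0, 3, 0, 3, 0, 2, 0, 3, 0, 3, 0, 2, 0, 2, 0, 3, 0, 3, 0, 2] [[0, 1, 0, 1, 1, 1, 1,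
    0, 0, 1, 1, 0, 1, 1], [0, 0, 0, 1, 0, 0, 1, 1, 1, 1, 1, 1, 0, 0, 1, 0, 1, 1, 0], [0, 0, 1, 0, 1, 1, 0, 0,
    0, 0, 1, 0, 1, 0, 0, 0, 1]]),
  ([141, 131, 146], .base 0 [0] [[], [1, 1, 1, 1, 1, 0, 0, 1, 1, 1, 0, 0, 1, 0], []]),
  ([58, 117, 147], .base 0 [3, 0, 3, 0, 2, 0, 3, 0, 2, 0, 2, 0, 3, 0, 2, 0, 3, 0, 2, 0, 2] [[1, 1, 0, 1, 1, 1,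
    0, 0, 1, 1, 0, 1, 0, 1, 1, 0, 0, 0], [0, 0, 1, 1, 0, 0, 1, 0, 1, 1, 0, 1, 1, 1, 1, 0, 1], [0, 1, 0, 1, 0,
    0, 1, 1, 1, 0, 0, 1, 0, 1, 1, 1, 1, 1]]),
  ([148, 106, 97], .base 0 [0, 3, 0, 3, 0, 2, 0, 2, 0, 2, 0, 2, 0, 2, 0, 3, 0, 2, 0, 2, 0, 2, 0, 3, 0, 3] [[],
    [0, 0, 1, 0, 1, 1, 0, 0, 0, 0, 1, 1, 1, 0, 0, 0, 1], [1, 0, 1, 1, 1, 1, 0, 0, 0, 0, 1, 0, 0, 0, 1, 0]]),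
  ([149, 148, 147], .base 0 [2, 0, 2, 0, 2, 0, 3, 0, 2, 0, 3, 0, 3, 0, 3, 0, 2, 0, 3, 0, 2, 0, 2, 0, 3, 0,
    3] [[1, 0, 0, 1, 0, 1, 0, 0, 1, 1, 0, 1, 0], [0, 1, 0, 1, 1, 1, 0, 0, 1, 1, 0, 0, 1, 1, 0, 1], [0, 0, 1, 1,
    1, 1, 0, 1, 1, 0, 1, 1, 0, 0]]),
  ([150, 62, 51], .base 0 [0, 2, 0, 3, 0, 2, 0, 2, 0, 2, 0, 2, 0, 2, 0, 3, 0, 2, 0, 3, 0, 3, 0, 3, 0, 3, 0,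
    2] [[1, 0, 0, 0, 1, 0, 0, 0, 1, 1, 1, 0, 0], [1, 0, 0, 1, 0, 1, 1, 1, 1, 0, 0, 0, 1], [0, 1, 0, 0, 1, 0, 0,
    0, 0, 0, 0, 0, 1, 0, 1, 1]]),
  ([151, 30, 133], .base 0 [0, 2, 0, 3, 0, 3, 0, 3, 0, 3, 0, 3, 0, 3, 0, 3, 0, 2, 0, 3, 0, 2, 0, 2, 0, 3, 0, 3,
    0, 2] [[1, 1, 0, 1, 1, 1, 0, 0, 1, 1, 0, 1, 0, 1, 1, 0, 0, 0], [0, 1, 0, 1, 1, 1, 0, 1, 1, 0, 0, 1, 0, 0,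
    0], [0, 1, 1, 1, 1, 0, 1, 1, 0, 1, 0, 1, 0, 0, 0, 0, 0]])
]

/-- Relations with proofs, part 5. -/
def items3_5 : List (List ℕ × Prf) := [
  ([151, 152, 97], .base 0 [0, 2, 0, 3, 0, 2, 0, 2, 0, 3, 0, 3, 0, 3, 0, 3, 0, 2, 0, 2, 0, 3, 0, 3, 0, 2, 0, 2,
    0] [[0, 1, 0, 1, 1, 1, 0, 1, 1, 0, 0, 1, 1, 1, 0, 1, 1, 0], [0, 1, 1, 1, 0, 0, 1, 1, 1, 1, 0, 0, 1, 1, 0,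
    0, 1, 1], [1, 1, 1, 1, 1, 1, 0, 0, 1, 1, 1, 1, 0, 1, 1, 1, 0]]),
  ([152, 153, 150], .base 0 [3, 0, 2, 0, 2, 0, 3, 0, 3, 0, 3, 0, 2, 0, 2, 0, 2, 0, 3, 0, 3, 0, 3] [[0, 0, 1, 1,
    1, 0, 1, 1, 1, 1, 1, 1, 0], [0, 0, 0, 0, 0, 0, 1, 1, 0, 1, 1, 0, 0, 0, 0, 0, 1], [0, 1, 1, 0, 0, 0, 0, 1,
    0, 1, 1, 0, 1, 1, 1, 0, 1]]),
  ([85, 19, 154], .base 0 [2, 0, 3, 0, 3, 0, 3, 0, 3, 0, 2, 0, 2, 0, 3, 0, 3, 0, 2, 0, 2, 0] [[0, 1, 0, 1, 1,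
    1, 0, 1, 1, 0, 0, 1, 1, 1, 0, 1, 1, 0], [0, 1, 0, 0, 1, 0, 1, 1, 1, 0, 1, 1, 1, 0, 0], [0, 1, 1, 1, 0, 0,
    0, 1, 0, 1, 1, 0, 0]]),
  ([41, 155, 62], .base 0 [2, 0, 2, 0, 2, 0, 3, 0, 2, 0, 2, 0, 3, 0, 2, 0, 2, 0, 2, 0, 2, 0, 2, 0, 2, 0, 3, 0,
    3, 0, 2, 0, 2] [[1, 1, 1, 1, 0, 1, 1, 1, 1, 0, 0, 1, 1, 0, 0, 0, 1], [1, 1, 1, 0, 0, 0, 1, 1, 0, 0, 1, 0,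
    0, 1, 0, 0, 1], [1, 1, 1, 0, 1, 0, 0, 0, 1, 0, 1, 0, 1, 1, 1, 0]]),
  ([155, 137, 156], .base 0 [3, 0, 2, 0, 2, 0, 2, 0, 3, 0, 3, 0, 2, 0, 2, 0, 3, 0, 2, 0, 3] [[0, 1, 1, 0, 0, 1,
    1, 0, 1, 0, 1, 1, 0, 1, 0, 0, 0], [0, 0, 1, 1, 0, 1, 1, 0, 1, 1, 1, 1, 0, 0, 1, 0], [1, 1, 0, 0, 0, 0, 0,
    1, 0, 1, 1, 0, 1, 1, 0]]),
  ([154, 157, 156], .base 0 [0, 2, 0, 2, 0, 3, 0, 3, 0, 3, 0, 2, 0, 3, 0, 2, 0, 2, 0, 3, 0, 3, 0, 2, 0, 2] [[0,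
    1, 0, 1, 0, 1, 0, 0, 1, 0, 0, 1, 1, 1, 1, 0, 1, 1], [1, 0, 0, 1, 1, 1, 0, 1, 0, 0, 1, 1, 1, 0, 1], [0, 0,
    1, 0, 1, 0, 0, 1, 1, 1, 1, 0, 1, 1, 0, 1, 0]]),
  ([158, 50, 102], .base 0 [2, 0, 3, 0, 2, 0, 2, 0, 3, 0, 2, 0, 2, 0, 2, 0, 2, 0, 2, 0, 2, 0, 2] [[1, 1, 0, 1,
    0, 0, 1, 1, 0, 1, 0, 1, 0, 0], [0, 1, 0, 0, 1, 1, 0, 1, 0, 1, 0, 1, 0, 1, 1, 1, 1, 0], [0, 1, 0, 0, 0, 0,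
    1, 0, 1, 0, 0, 1, 1, 1, 0, 1, 0]]),
  ([159, 158, 140], .base 0 [0, 3, 0, 2, 0, 3, 0, 2, 0, 2, 0, 3, 0, 3, 0, 3, 0, 3, 0, 3, 0, 3, 0, 2, 0, 2,
    0] [[1, 0, 1, 0, 0, 0, 0, 0, 1, 0, 1, 0, 1, 0, 0, 0, 1], [0, 0, 0, 1, 1, 1, 1, 1, 0, 0, 0, 0, 1], [1, 1, 1,
    0, 1, 0, 0, 1, 1, 0, 1, 0]]),
  ([116, 89, 160], .base 0 [2, 0, 2, 0, 3, 0, 3, 0, 2, 0, 3, 0, 3, 0, 3, 0, 2, 0, 3, 0, 2, 0, 2] [[0, 0, 1, 0,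
    1, 1, 0, 1, 0, 1, 0, 0, 0, 1, 1, 0, 0], [1, 1, 0, 0, 1, 1, 0, 0, 0, 1, 1, 1, 0, 1, 1, 0, 1], [0, 0, 1, 1,
    1, 1, 0, 0, 1, 1, 0, 0, 1, 0, 0, 1, 0]]),
  ([72, 53, 161], .base 0 [2, 0, 3, 0, 3, 0, 3, 0, 2, 0, 3, 0, 3, 0, 3, 0, 2, 0, 2, 0, 3, 0, 3, 0, 3, 0, 3,
    0] [[0, 0, 1, 1, 0, 0, 1, 0, 0, 0, 0, 0, 1, 0, 1, 1, 0, 1], [0, 0, 1, 0, 0, 0, 0, 1, 1, 0, 0, 1, 1, 1, 0,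
    1, 1, 0], [1, 0, 1, 0, 1, 0, 0, 0, 0, 0, 1, 1, 0, 1, 0]]),
  ([160, 161, 162], .base 0 [0, 2, 0, 3, 0, 3, 0, 3, 0, 3, 0, 3, 0, 3, 0, 3, 0, 2, 0, 2, 0, 3, 0, 3, 0, 3] [[1,
    1, 1, 1, 0, 1, 1, 0, 1, 1, 0, 0, 0, 1, 0, 0], [1, 1, 0, 1, 0, 1, 0, 1, 1, 0, 1, 1, 1, 0, 0, 0, 1], [1, 0,
    1, 0, 0, 0, 1, 0, 1, 0, 0, 0, 0, 0, 1, 0]]),
  ([84, 162, 163], .base 0 [0, 3, 0, 3, 0, 2, 0, 2, 0, 2, 0, 2, 0, 2, 0, 2, 0, 3, 0, 3, 0, 3, 0, 3, 0, 3,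
    0] [[0, 1, 1, 1, 1, 0, 1, 1, 1, 1, 1, 1, 0], [1, 0, 1, 1, 0, 0, 0, 1, 0, 0, 0, 1, 0, 1, 1], [0, 1, 0, 1, 1,
    0, 1, 0, 1, 1, 1, 1, 1, 0]]),
  ([164, 159, 163], .base 0 [3, 0, 3, 0, 2, 0, 3, 0, 3, 0, 2, 0, 3, 0, 2, 0, 3, 0, 2, 0, 2, 0, 3, 0, 3, 0,
    3] [[0, 0, 1, 1, 1, 1, 0, 1, 0, 0, 0, 0, 1, 1, 1], [1, 0, 1, 0, 0, 0, 1, 0, 1, 1, 1, 1, 1, 1], [0, 1, 0, 0,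
    0, 1, 0, 0, 1, 1, 1, 0, 0, 0, 1, 0, 1]]),
  ([30, 138, 165], .base 0 [2, 0, 3, 0, 2, 0, 2, 0, 2, 0, 3, 0, 3, 0, 3, 0, 3, 0, 2, 0, 3, 0, 3, 0, 3] [[1, 0,
    0, 0, 1, 1, 1, 1, 0, 1, 1, 0, 0, 1, 1], [0, 1, 1, 0, 1, 0, 0, 0, 1, 1, 0, 0, 0, 0, 0, 0], [1, 1, 1, 1, 1,
    0, 0, 1, 1, 1, 0, 0, 1, 0]]),
  ([39, 113, 166], .base 0 [2, 0, 3, 0, 2, 0, 3, 0, 3, 0, 3, 0, 3, 0, 3, 0, 2, 0, 2, 0, 2, 0, 2, 0, 2, 0] [[0,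
    0, 0, 0, 0, 1, 0, 1, 1, 1, 0, 0, 1, 0, 1], [0, 1, 0, 0, 0, 1, 0, 1, 0, 1, 0, 1, 0], [0, 1, 0, 0, 1, 1, 0,
    0, 0, 1, 1, 0, 1, 0, 0, 1, 1, 1]]),
  ([167, 66, 101], .base 0 [3, 0, 2, 0, 2, 0, 2, 0, 3, 0, 3, 0, 2, 0, 2, 0, 3, 0, 3, 0, 3, 0, 3, 0, 3, 0, 3, 0,
    3, 0] [[0, 0, 0, 0, 0, 1, 1, 1, 0, 0, 0, 0, 1, 0, 0, 1, 1], [0, 1, 0, 0, 0, 1, 0, 1, 0, 1, 0, 1, 1, 1, 0,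
    1, 1], [1, 1, 1, 0, 1, 0, 1, 0, 1, 1, 1, 0, 1, 0, 1, 0]]),
  ([166, 167, 168], .base 0 [3, 0, 2, 0, 3, 0, 2, 0, 3, 0, 3, 0, 2, 0, 2, 0, 2, 0, 2, 0, 2, 0, 3, 0, 2, 0, 3,
    0, 3] [[1, 1, 1, 1, 1, 1, 1, 1, 1, 1, 1, 1, 1, 0], [1, 1, 1, 0, 1, 1, 1, 1, 1, 0, 0, 0, 1, 0, 0], [1, 0, 1,
    1, 1, 0, 0, 1, 0, 1, 0, 0, 0, 1, 1, 0, 1]]),
  ([18, 169, 168], .base 0 [3, 0, 3, 0, 2, 0, 3, 0, 2, 0, 2, 0, 3, 0, 2, 0, 2, 0, 2, 0, 3] [[1, 0, 1, 0, 1, 0,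
    1, 1, 0, 1, 0, 1, 1, 1, 0, 1, 1], [0, 0, 0, 1, 0, 1, 1, 1, 1, 0, 1, 1, 0, 0, 0, 1], []]),
  ([141, 170, 91], .base 0 [2, 0, 3, 0, 3, 0, 2, 0, 2, 0, 2, 0, 3, 0, 2, 0, 3, 0, 3, 0, 3, 0, 2] [[0, 1, 0, 0,
    1, 1, 0, 0, 0, 1, 1, 1, 0, 0, 0, 1], [0, 0, 0, 1, 1, 1, 1, 1, 1, 0, 0, 1, 1, 0, 1], [1, 1, 1, 1, 1, 0, 1,
    1, 1, 1, 1, 0, 1, 0, 0, 1]]),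
  ([169, 171, 170], .base 0 [0, 2, 0, 3, 0, 3, 0, 2, 0, 3, 0, 2, 0, 3, 0, 3, 0, 3, 0, 3, 0, 3, 0, 2] [[0, 0, 1,
    0, 1, 1, 0, 0, 0, 1, 1, 0, 1, 1, 0, 0, 0, 1], [0, 0, 0, 1, 0, 1, 0, 0, 1, 0, 1, 0, 0, 1, 0, 1, 0, 1], [1,
    1, 0, 0, 1, 0, 0, 0, 1, 0, 1, 1, 0, 0, 0, 1, 1]]),
  ([93, 12, 172], .base 0 [0, 3, 0, 2, 0, 2, 0, 3, 0, 3, 0, 3, 0, 2, 0, 2, 0, 2, 0, 3, 0, 3, 0, 3, 0, 2, 0, 2,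
    0, 3, 0] [[0, 1, 1, 1, 0, 0, 1, 0, 1, 1, 0, 1, 1, 1, 1, 1], [1, 0, 0, 0, 1, 1, 1, 1, 1, 0, 0, 0, 0, 0, 1],
    [1, 1, 0, 1, 0, 0, 0, 0, 1, 1, 0, 0, 1, 0, 0, 0, 1]]),
  ([173, 95, 172], .base 0 [3, 0, 3, 0, 2, 0, 3, 0, 3, 0, 2, 0, 2, 0, 2, 0, 3, 0, 2, 0, 3, 0, 3, 0, 3, 0, 3, 0,
    3] [[1, 1, 0, 0, 1, 1, 1, 0, 1, 0, 0, 0, 0, 0, 1, 1, 0], [0, 0, 0, 1, 0, 0, 1, 0, 0, 0, 1, 0, 1, 0, 1, 1,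
    0, 0, 1], [0, 0, 0, 1, 0, 0, 1, 1, 0, 0, 1, 1, 0, 0, 0]]),
  ([173, 174, 138], .base 0 [3, 0, 3, 0, 3, 0, 3, 0, 2, 0, 2, 0, 3, 0, 3, 0, 3, 0, 3, 0, 3] [[1, 0, 1, 1, 1, 0,
    1, 1, 1, 1, 1, 1, 1, 0, 1, 1, 0, 1], [0, 1, 0, 0, 0, 0, 1, 1, 1, 0, 0, 0, 1, 0, 0, 0, 0, 0], []]),
  ([97, 101, 175], .base 0 [2, 0, 2, 0, 3, 0, 3, 0, 3, 0, 3, 0, 3, 0, 3, 0, 3, 0, 3, 0, 2, 0, 2] [[1, 1, 1, 1,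
    0, 1, 1, 0, 0, 1, 1, 0, 1, 1, 0], [0, 1, 0, 1, 0, 1, 1, 1, 0, 0, 1, 1, 0, 1, 1, 0], [1, 1, 1, 0, 1, 0, 1,
    0, 1, 1, 0, 1, 0, 0, 0, 1]]),
  ([83, 175, 176], .base 0 [0, 3, 0, 3, 0, 3, 0, 2, 0, 3, 0, 2, 0, 2, 0, 2, 0, 2, 0, 2, 0, 2, 0, 3, 0, 3, 0,
    2] [[1, 1, 1, 0, 1, 1, 1, 0, 1, 1, 1, 0, 0, 0, 1, 0], [0, 0, 0, 1, 0, 0, 1, 1, 1, 1, 1, 0, 0, 1, 0, 0, 0,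
    1], [0, 0, 0, 0, 0, 1, 0, 0, 1, 1, 1, 0, 1, 1, 0]]),
  ([133, 176, 177], .base 0 [3, 0, 2, 0, 2, 0, 2, 0, 3, 0, 2, 0, 3, 0, 3, 0, 3, 0, 3, 0, 3, 0, 2, 0, 2, 0, 3,
    0, 3, 0, 2] [[0, 1, 0, 1, 1, 1, 0, 1, 0, 0, 1, 0, 1, 1], [1, 1, 0, 1, 0, 1, 0, 1, 1, 1, 0, 1, 0, 0, 0, 0],
    [1, 1, 1, 0, 1, 0, 1, 0, 1, 0, 0, 0, 1, 1, 1]]),
  ([174, 177, 178], .base 0 [3, 0, 2, 0, 3, 0, 2, 0, 3, 0, 2, 0, 3, 0, 3, 0, 3, 0, 3, 0, 2, 0, 2, 0] [[0, 1, 1,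
    0, 1, 0, 0, 1, 0, 1, 0, 0, 0], [0, 1, 1, 1, 1, 1, 0, 0, 0, 0, 1], [0, 1, 1, 0, 1, 0, 1, 0, 0, 0, 1, 0, 0,
    0, 1, 1, 1, 1]]),
  ([179, 68, 103], .base 0 [0, 2, 0, 2, 0, 3, 0, 3, 0, 2, 0, 2, 0, 2, 0, 3, 0, 3, 0, 2] [[0, 0, 1, 1, 0, 0, 1,
    1, 0, 0, 1, 1, 0, 0, 0, 1, 1, 1], [0, 1, 1, 1, 1, 1, 1, 1, 0, 0, 0, 0, 1, 0, 0, 0], [0, 0, 1, 1, 0, 0, 0,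
    1, 0, 1, 1, 1, 0, 0, 0]]),
  ([141, 180, 108], .base 0 [2, 0, 3, 0, 3, 0, 2, 0, 3, 0, 3, 0, 2, 0, 2, 0, 2, 0, 3, 0, 3, 0, 3, 0, 3, 0, 3,
    0, 2] [[0, 0, 0, 1, 0, 0, 1, 1, 0, 1, 1, 0, 1, 0], [0, 0, 0, 0, 1, 1, 1, 1, 0, 0, 1, 1, 0, 0, 1, 0, 0, 0],
    [0, 0, 0, 0, 0, 1, 0, 0, 1, 1, 1, 1, 0, 0, 1, 1, 0, 1]]),
  ([179, 181, 180], .base 0 [0, 3, 0, 3, 0, 3, 0, 3, 0, 2, 0, 3, 0, 3, 0, 2, 0, 3, 0, 2, 0, 3, 0, 3] [[0, 1, 1,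
    0, 0, 0, 0, 1, 0, 1, 1, 0, 1, 1, 1, 0, 1], [1, 0, 0, 1, 0, 0, 0, 1, 0, 1, 1, 0, 0, 1], [1, 1, 1, 1, 0, 0,
    1, 0, 0, 0, 1, 1, 0, 1]]),
  ([123, 119, 182], .base 0 [0, 3, 0, 2, 0, 3, 0, 2, 0, 3, 0, 2, 0, 2, 0, 2, 0, 3, 0, 2, 0, 2, 0, 2, 0, 3] [[1,
    0, 1, 0, 0, 1, 1, 0, 0, 1, 1, 1, 0, 0, 0, 1], [0, 0, 1, 0, 1, 1, 0, 1, 1, 0, 0, 1, 0, 0, 1, 0, 0, 0], [0,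
    1, 1, 0, 0, 1, 0, 1, 1, 1, 1, 1, 0, 0]]),
  ([183, 56, 132], .base 0 [3, 0, 2, 0, 2, 0, 2, 0, 2, 0, 2, 0, 2, 0, 3, 0, 2, 0, 3, 0, 2, 0, 3] [[1, 1, 1, 1,
    0, 1, 1, 1, 0, 0, 1, 1, 1], [0, 1, 1, 0, 0, 1, 0, 1, 1, 0, 0, 0, 0, 1, 1, 0, 0], [0, 1, 0, 0, 0, 0, 1, 1,
    1, 1, 1, 0, 0, 0, 1]]),
  ([184, 62, 87], .base 0 [0, 3, 0, 3, 0, 3, 0, 3, 0, 3, 0, 3, 0, 2] [[1, 0, 1, 1, 1, 0, 1, 0, 1, 0, 0, 1, 1,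
    1, 0, 1, 0], [0, 1, 0, 1, 1, 0, 0, 1, 1, 0, 0, 1, 0, 0, 1], [1, 0, 1, 1, 1, 1, 0, 1, 1, 1, 1, 1, 1, 1, 1,
    1, 0]]),
  ([184, 183, 185], .base 0 [3, 0, 3, 0, 3, 0, 3, 0, 3, 0, 2, 0, 2, 0, 2, 0, 2, 0, 3, 0, 2, 0, 3, 0, 3, 0, 2,
    0, 2] [[1, 1, 0, 1, 1, 0, 0, 1, 0, 0, 1, 1, 0, 1, 1, 0], [1, 0, 0, 0, 1, 0, 0, 0, 0, 0, 0, 1, 0, 0, 0, 0],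
    [1, 0, 0, 1, 0, 0, 0, 1, 0, 1, 0, 0, 1, 0]]),
  ([186, 185, 116], .base 0 [0, 3, 0, 2, 0, 2, 0, 3, 0, 3, 0, 2, 0, 3, 0, 3, 0, 3, 0, 3, 0, 3, 0, 2] [[0, 1, 1,
    0, 0, 1, 0, 0, 0, 1, 0, 1, 1, 0, 0], [0, 0, 0, 1, 0, 1, 0, 0, 1, 0, 1, 0, 0, 1, 0, 1, 0, 1], [1, 1, 1, 0,
    0, 1, 1, 1, 1, 0, 1, 0, 1, 1, 1, 0, 1]])
]

/-- Relations with proofs, part 6. -/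
def items3_6 : List (List ℕ × Prf) := [
  ([186, 187, 84], .base 0 [0, 3, 0, 2, 0, 2, 0, 3, 0, 2, 0, 3, 0, 3, 0, 3, 0, 2, 0, 2, 0, 3, 0] [[1, 1, 0, 1,
    1, 0, 0, 1, 1, 1, 0, 0, 1, 1, 0, 0], [1, 0, 1, 1, 0, 0, 0, 0, 0, 1, 0, 1, 1, 1, 0, 1, 0], [1, 0, 0, 1, 1,
    0, 0, 1, 1, 0, 1, 0, 1, 1, 0]]),
  ([187, 90, 188], .base 0 [2, 0, 3, 0, 3, 0, 3, 0, 3, 0, 3, 0, 2, 0, 2, 0, 2, 0, 3, 0, 3, 0, 3, 0, 2, 0, 2, 0,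
    2] [[0, 0, 0, 1, 1, 1, 0, 1, 0, 1, 1, 1, 0, 1, 0, 0], [0, 1, 0, 0, 1, 0, 1, 0, 1, 1, 1, 0, 0, 1, 1, 1], [0,
    1, 1, 0, 0, 0, 1, 0, 0, 1, 1, 0, 1, 1, 0, 1]]),
  ([189, 182, 188], .base 0 [0, 3, 0, 3, 0, 3, 0, 3, 0, 3, 0, 3, 0, 2, 0, 2, 0, 3, 0, 2, 0, 3, 0] [[1, 1, 0, 1,
    0, 0, 1, 1, 0, 1, 1, 1, 0, 1, 0, 1, 0], [1, 0, 0, 0, 1, 0, 0, 0, 0, 0, 1, 1, 0, 1, 0, 1, 0], [1, 0, 0, 1,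
    0, 0, 1, 0, 0, 1, 0, 1, 1, 1]]),
  ([189, 190, 181], .base 0 [0, 3, 0, 3, 0, 3, 0, 3, 0, 3, 0, 3, 0, 3, 0, 2, 0, 2, 0, 3, 0, 3, 0, 3, 0, 3, 0,
    2, 0, 2] [[1, 0, 0, 0, 1, 1, 0, 0, 1, 1, 0, 1, 1, 0, 1, 1, 0], [1, 1, 0, 0, 0, 1, 0, 1, 1, 1, 1, 1, 1, 0,
    1, 1, 1], [0, 1, 1, 1, 0, 0, 0, 1, 0, 0, 1, 1, 0]]),
  ([37, 191, 44], .base 0 [3, 0, 2, 0, 3, 0, 2, 0, 3, 0, 2, 0, 2, 0, 3, 0, 3, 0, 3, 0, 2, 0, 3, 0, 2, 0,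
    3] [[0, 1, 0, 0, 0, 1, 1, 0, 0, 1, 0, 0, 0, 1, 0, 1, 1], [0, 1, 1, 1, 1, 1, 1, 1, 0, 0, 0, 0, 1, 0], [1, 0,
    0, 1, 1, 0, 1, 0, 1, 0, 0, 1, 0]]),
  ([62, 191, 192], .base 0 [2, 0, 2, 0, 2, 0, 2, 0, 2, 0, 2, 0, 3, 0, 3, 0, 3, 0, 3, 0, 3, 0, 3, 0, 3, 0] [[1,
    1, 0, 0, 1, 1, 0, 1, 1, 0, 1, 0, 1, 0, 1, 0, 0], [0, 0, 0, 0, 0, 1, 0, 1, 0, 1, 0, 1, 1, 1, 0, 1, 0, 0, 1],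
    [1, 0, 1, 0, 0, 0, 1, 0, 1, 1, 0, 0, 1, 0]]),
  ([192, 102, 193], .base 0 [0, 2, 0, 2, 0, 3, 0, 2, 0, 2, 0, 3, 0, 2, 0, 3, 0, 2, 0, 2, 0, 2, 0, 2, 0, 3, 0,
    2, 0, 2] [[0, 1, 1, 0, 1, 0, 0, 0, 1, 0, 1, 1, 1, 1, 0, 0, 0, 0], [0, 0, 1, 1, 0, 0, 0, 1, 0, 1, 1, 1, 1,
    1, 0, 0], [0, 0, 0, 0, 1, 1, 1, 0, 1, 0, 1, 0, 0, 0, 0]]),
  ([193, 194, 136], .base 0 [3, 0, 3, 0, 3, 0, 3, 0, 2, 0, 2, 0, 2, 0, 2, 0, 2] [[0, 0, 0, 1, 0, 0, 0, 1, 0, 0,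
    0, 1, 1, 1, 0], [0, 1, 1, 0, 0, 1, 0, 1, 1, 0, 1, 0, 1, 0, 1, 0], [0, 1, 0, 0, 0, 0, 1, 0, 1, 0, 0, 1, 1,
    1, 0, 1, 0]]),
  ([145, 194, 195], .base 0 [0, 3, 0, 3, 0, 3, 0, 2, 0, 3, 0, 3, 0, 2, 0, 3, 0, 2, 0, 2] [[0, 0, 0, 0, 1, 1, 1,
    0, 1, 1, 1, 0, 0, 1], [0, 0, 0, 1, 1, 1, 1, 1, 1, 0, 0, 1, 1, 0, 1], [1, 0, 1, 1, 1, 1, 1, 0, 1, 1, 1, 0,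
    0, 1, 1, 1]]),
  ([195, 196, 184], .base 0 [2, 0, 3, 0, 3, 0, 3, 0, 3, 0, 2, 0, 3, 0, 2, 0, 2] [[1, 1, 0, 0, 0, 1, 1, 0, 1, 0,
    0, 0, 0, 0, 1, 0], [0, 1, 1, 0, 0, 0, 0], [1, 0, 0, 0, 1, 1, 0, 0, 0, 1, 1, 1, 0, 0, 0, 0]]),
  ([197, 124, 103], .base 0 [0, 2, 0, 2, 0, 3, 0, 3, 0, 2, 0, 2, 0, 3, 0, 3, 0, 3, 0, 3, 0, 3, 0, 3, 0, 3,
    0] [[1, 0, 0, 1, 1, 1, 1, 0, 0, 0, 1, 0, 0, 1], [0, 1, 0, 0, 0, 1, 0, 1, 0, 1, 0, 1, 1, 1, 0, 1, 1], [1, 1,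
    1, 0, 1, 0, 1, 0, 1, 1, 1, 0, 1, 0, 1, 0]]),
  ([107, 198, 93], .base 0 [3, 0, 3, 0, 3, 0, 3, 0, 3, 0, 2, 0, 2, 0, 3, 0, 2, 0, 2, 0, 2, 0, 2, 0] [[1, 0, 0,
    1, 0, 0, 1, 0, 0, 0, 0, 0, 1, 0, 0, 1], [0, 0, 0, 0, 1, 1, 1, 0, 0, 0, 1, 1, 1, 1, 1, 0, 1], [0, 0, 1, 1,
    1, 1, 0, 1, 1, 0, 1, 1, 1, 1, 0, 1, 0]]),
  ([198, 133, 199], .base 0 [0, 3, 0, 2, 0, 2, 0, 3, 0, 3, 0, 2, 0, 2, 0, 2, 0, 3, 0, 2, 0, 2, 0, 2] [[0, 1, 1,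
    0, 0, 1, 0, 0, 0, 1, 1, 0, 1, 0, 1, 0, 0], [0, 0, 1, 0, 0, 0, 0, 1, 1, 1, 0, 0, 1, 0, 0, 1, 0], [1, 0, 0,
    1, 1, 0, 1, 0, 1, 1, 0, 1, 0, 0, 1]]),
  ([199, 200, 96], .base 0 [0, 2, 0, 3, 0, 3, 0, 3, 0, 3, 0, 3, 0, 3, 0, 3, 0, 3, 0, 2, 0, 2] [[1, 1, 1, 1, 0,
    1, 1, 0, 0, 1, 1, 0, 1, 1, 0], [0, 1, 0, 1, 0, 1, 1, 1, 0, 0, 1, 1, 0, 1, 1, 0], [1, 1, 1, 0, 1, 0, 1, 0,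
    1, 1, 0, 1, 0, 0, 0, 1]]),
  ([201, 200, 197], .base 0 [0, 2, 0, 2, 0, 2, 0, 3, 0, 2, 0, 2, 0, 3, 0, 3, 0, 2, 0, 3, 0, 2, 0, 2] [[1, 1, 0,
    0, 0, 1, 1, 0, 1, 0, 0, 0, 0, 0, 1, 0], [0, 1, 0, 0, 0, 0, 0, 1, 1, 1, 1, 1, 0, 1, 0, 1, 1], [0, 0, 1, 0,
    0, 1, 0, 0, 1, 1, 0, 0, 1, 1, 1, 1]]),
  ([201, 147, 202], .base 0 [0, 2, 0, 2, 0, 2, 0, 3, 0, 3, 0, 3, 0, 2, 0, 3, 0, 2, 0, 2, 0, 3, 0, 3] [[1, 0, 0,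
    1, 0, 1, 0, 0, 1, 1, 0, 1, 0], [1, 1, 1, 1, 0, 0, 1, 0, 0, 0, 1, 0, 0, 0, 1], [1, 1, 0, 0, 0, 0, 1, 1, 0,
    0, 0, 1, 1, 0, 0, 1, 0]]),
  ([120, 203, 49], .base 0 [2, 0, 2, 0, 2, 0, 3, 0, 3, 0, 3, 0, 3, 0, 3, 0, 2, 0, 3, 0, 2, 0, 2, 0, 3, 0, 3, 0,
    2] [[1, 1, 0, 1, 1, 1, 0, 0, 1, 1, 0, 1, 0, 1, 1, 0, 0, 0], [1, 0, 1, 0, 0, 0, 1, 1, 1, 1, 1, 0, 1, 0], [0,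
    0, 0, 0, 0, 0, 0, 1, 1, 0, 1, 1, 0, 0, 0]]),
  ([99, 85, 204], .base 0 [3, 0, 3, 0, 3, 0, 2, 0, 2, 0, 2, 0, 3, 0, 3, 0, 3, 0, 2, 0, 3, 0, 3, 0, 2, 0, 3,
    0] [[0, 1, 1, 0, 0, 0, 1, 0, 1, 1, 0, 0, 0, 0, 1, 0, 1], [0, 1, 1, 0, 1, 0, 0, 0, 0, 1, 1], [0, 1, 1, 1, 0,
    1, 0, 1, 0, 0, 0, 0, 0, 1, 1]]),
  ([191, 205, 55], .base 0 [3, 0, 2, 0, 2, 0, 2, 0, 2, 0, 3, 0, 3, 0, 2, 0, 3, 0, 2, 0, 2, 0, 2] [[1, 0, 0, 1,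
    1, 1, 1, 1, 1, 0, 0, 1, 0, 1, 1], [0, 1, 1, 0, 0, 0, 1, 1, 1, 0, 1, 0, 1, 1, 1, 1], [1, 1, 1, 1, 1, 1, 0,
    0, 1, 1, 1, 1, 0, 1, 1, 1, 0]]),
  ([206, 204, 205], .base 0 [0, 3, 0, 2, 0, 2, 0, 3, 0, 2, 0, 2, 0, 2, 0, 2, 0, 3, 0, 3, 0, 3, 0, 2, 0, 2, 0,
    3, 0] [[0, 1, 0, 1, 1, 0, 0, 1, 1, 1, 1, 1, 1, 0, 1, 1], [1, 0, 0, 0, 1, 1, 1, 1, 1, 0, 0, 0, 0, 0, 1], [1,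
    0, 0, 1, 1, 0, 0, 1, 1, 0, 1, 0, 1, 1, 0]]),
  ([206, 203, 207], .base 0 [0, 3, 0, 2, 0, 3, 0, 2, 0, 2, 0, 2, 0, 2, 0, 3, 0, 2, 0, 3] [[0, 0, 0, 0, 1, 1, 0,
    0, 1, 1, 0, 1, 1, 0, 0, 0, 1], [0, 1, 0, 1, 1, 0, 0, 1, 1, 1, 0, 1, 0, 1, 0], [0, 1, 0, 1, 1, 1, 1, 0, 1,
    1, 1, 1, 1, 1, 1, 0, 0]]),
  ([41, 207, 208], .base 0 [3, 0, 2, 0, 2, 0, 2, 0, 2, 0, 2, 0, 3, 0, 2, 0, 2, 0, 2, 0, 2, 0, 3, 0, 2, 0, 2,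
    0] [[1, 0, 0, 0, 1, 0, 0, 0, 0, 1, 1, 1, 0, 0, 1], [1, 1, 1, 1, 1, 1, 0, 0, 1, 1, 1, 1], [1, 1, 1, 0, 1, 0,
    1, 0, 0, 1, 1, 1, 1, 0, 1, 0]]),
  ([100, 208, 209], .base 0 [3, 0, 2, 0, 2, 0, 3, 0, 3, 0, 3, 0, 3, 0, 3, 0, 3, 0, 3, 0, 3, 0, 3, 0, 2, 0, 2,
    0] [[1, 1, 0, 1, 1, 0, 1, 0, 0, 1, 1, 0, 1, 1, 0], [0, 0, 0, 1, 0, 1, 1, 1, 1, 0, 0, 0, 0, 1, 1], [0, 1, 0,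
    0, 0, 1, 0, 0, 1, 0, 1, 0, 0, 0, 1, 1, 0, 0]]),
  ([169, 210, 209], .base 0 [0, 2, 0, 2, 0, 3, 0, 3, 0, 3, 0, 2, 0, 2, 0, 3, 0, 2, 0, 3, 0, 3, 0, 3] [[0, 1, 1,
    0, 0, 1, 0, 0, 0, 1, 1, 0, 1, 0, 1, 0, 0], [0, 0, 1, 1, 1, 1, 1, 1, 1, 1, 0, 0, 0, 0, 1, 1], [0, 1, 1, 0,
    1, 1, 0, 0, 1, 1, 0, 1, 1, 0, 1, 1, 0]]),
  ([130, 199, 211], .base 0 [3, 0, 3, 0, 2, 0, 2, 0, 3, 0, 3, 0, 3, 0, 3, 0, 3, 0] [[1, 1, 1, 0, 0, 0, 0, 1, 0,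
    0, 1, 0, 1], [0, 1, 1, 0, 0, 0, 1, 1, 0, 1, 0, 0, 0, 0, 0, 1], [0, 0, 0, 1, 0, 1, 0, 1, 0, 1, 0, 0, 1, 1,
    0]]),
  ([194, 212, 211], .base 0 [0, 2, 0, 3, 0, 2, 0, 3, 0, 2, 0, 2, 0, 2, 0, 2, 0, 2, 0, 2, 0, 2, 0, 3, 0, 3, 0,
    2, 0] [[1, 1, 0, 1, 0, 1, 1, 0, 1, 1, 1, 1, 0, 0, 1, 1, 1], [0, 1, 0, 0, 1, 0, 1, 0, 1, 1, 1, 1, 0, 1], [0,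
    0, 1, 0, 1, 0, 0, 0, 0, 1, 0, 0, 1, 0, 1, 1]]),
  ([0, 213, 70], .base 0 [0, 2, 0, 3, 0, 2, 0, 3, 0, 2, 0, 2, 0, 2, 0, 3, 0, 3, 0, 3, 0, 3, 0, 2, 0, 2] [[1, 1,
    1, 1, 0, 1, 1, 1, 0, 1, 1, 0, 1, 0, 1, 0], [0, 0, 0, 1, 0, 1, 0, 1, 1, 1, 0, 0, 1, 0, 0, 1], [0, 0, 0, 0,
    0, 1, 1, 0, 0, 0, 0, 1, 1, 0, 1, 0, 0]]),
  ([77, 214, 46], .base 0 [3, 0, 3, 0, 3, 0, 2, 0, 3, 0, 3, 0, 2, 0, 2, 0, 2, 0, 2, 0, 2, 0, 2, 0, 2, 0] [[1,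
    1, 1, 0, 0, 1, 0, 0, 1, 1, 1, 0], [1, 0, 1, 0, 1, 0, 1, 0, 1, 1, 1, 1, 0, 0, 0, 0, 0, 0], [0, 0, 1, 1, 0,
    0, 1, 1, 0, 1, 0, 0, 0, 0, 0, 0]]),
  ([215, 87, 214], .base 0 [0, 3, 0, 3, 0, 2, 0, 3, 0, 2, 0, 3, 0, 3, 0, 3, 0, 3, 0, 2, 0, 3, 0, 2, 0, 2, 0, 2,
    0, 2] [[0, 0, 1, 0, 0, 1, 1, 0, 1, 1, 1, 1, 0, 0], [1, 0, 0, 1, 1, 0, 0, 0, 1, 1, 1, 1, 1, 1, 1], [0, 0, 0,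
    0, 1, 0, 0, 1, 1, 1, 1, 1, 1, 0, 0, 1]]),
  ([215, 216, 41], .base 0 [2, 0, 2, 0, 2, 0, 2, 0, 2, 0, 2, 0, 3, 0, 3, 0, 3, 0, 3, 0, 2, 0, 2, 0, 2, 0, 3, 0,
    3] [[], [1, 1, 0, 1, 0, 0, 1, 0, 1, 1, 1, 0, 0, 1], [0, 0, 0, 0, 0, 1, 1, 0, 1, 1, 1, 0, 1, 0, 1, 0, 0,
    0]]),
  ([217, 175, 216], .base 0 [3, 0, 3, 0, 2, 0, 3, 0, 2, 0, 3, 0, 2, 0, 3, 0, 3, 0, 3, 0, 3, 0, 3, 0] [[1, 0, 0,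
    1, 1, 1, 1, 1, 1, 1, 0, 0, 0, 1, 1, 0], [0, 0, 1, 1, 1, 1, 0, 1, 0, 1, 1, 1, 1, 1, 1, 0, 1], [1, 1, 0, 0,
    1, 1, 0, 1, 0, 1, 1, 1, 0, 1, 1, 0, 0, 0]]),
  ([218, 94, 12], .base 0 [2, 0, 2, 0, 2, 0, 2, 0, 2, 0, 3, 0, 3, 0, 2, 0, 2, 0, 2, 0, 2, 0, 2] [[0, 0, 0, 1,
    0, 0, 0, 1, 0, 0, 0, 1, 1, 1, 0], [1, 1, 0, 0, 1, 0, 0, 0, 0, 1, 1, 1, 1, 0, 1], [1, 1, 1, 1, 0, 1, 0, 0,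
    1, 1, 0, 0, 1, 1, 1, 1]]),
  ([217, 218, 219], .base 0 [0, 2, 0, 2, 0, 3, 0, 2, 0, 2, 0, 3, 0, 3, 0, 3, 0, 2, 0, 3, 0, 2, 0, 3] [[0, 1, 0,
    0, 0, 1, 1, 0, 0, 1, 0, 0, 0, 1, 0, 1, 1], [0, 0, 1, 0, 1, 1, 0, 1, 1, 0, 1, 1, 0, 1, 0, 1, 0, 0], [1, 0,
    0, 1, 1, 0, 1, 0, 1, 0, 0, 1, 0]]),
  ([213, 220, 219], .base 0 [3, 0, 2, 0, 2, 0, 3, 0, 3, 0, 2, 0, 2, 0, 2, 0, 3, 0, 3, 0, 2, 0, 2, 0, 2, 0, 2,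
    0, 2, 0] [[0, 0, 0, 0, 0, 0, 1, 0, 1, 1, 1, 1, 1, 1, 1, 1, 0], [0, 0, 0, 1, 1, 0, 0, 1, 0, 1, 1, 0, 1, 0,
    1, 0], [0, 1, 1, 1, 0, 0, 1, 1, 1, 0, 0, 1, 0, 0, 0, 0]]),
  ([212, 220, 221], .base 0 [2, 0, 3, 0, 2, 0, 2, 0, 3, 0, 3, 0, 2, 0, 2, 0, 2, 0, 3, 0, 2, 0, 3, 0, 3] [[0, 0,
    1, 1, 0, 1, 1, 1, 0, 0, 0, 1, 0, 0, 1], [0, 0, 1, 0, 0, 0, 0, 1, 0, 1, 1, 0, 0, 1], [1, 0, 1, 0, 0, 1, 0,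
    0, 0, 1, 0, 0, 1, 0, 0, 0, 0]])
]

/-- Relations with proofs, part 7. -/
def items3_7 : List (List ℕ × Prf) := [
  ([77, 75, 222], .base 0 [3, 0, 2, 0, 3, 0, 2, 0, 3, 0, 3, 0, 3, 0, 2, 0, 3, 0, 2, 0, 2, 0, 2, 0, 3] [[0, 0,
    1, 0, 1, 0, 0, 1, 0, 0, 0, 1, 0, 1, 0, 1], [1, 1, 0, 0, 0, 0, 1, 1, 0, 0, 0, 1, 0, 0, 1, 1, 1], [0, 1, 0,
    0, 1, 0, 1, 0, 0, 1, 0, 0, 1, 1, 0, 0]]),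
  ([136, 222, 223], .base 0 [2, 0, 2, 0, 2, 0, 2, 0, 2, 0, 3, 0, 3, 0, 2, 0, 2, 0, 3, 0, 3, 0, 3, 0, 3, 0] [[0,
    1, 0, 0, 0, 1, 1, 0, 0, 1, 0, 0, 1, 0, 0, 0], [0, 1, 0, 1, 0, 0, 1, 0, 0, 0, 1, 0, 0, 0, 1, 1, 1], [1, 0,
    0, 1, 0, 0, 1, 1, 1, 1]]),
  ([224, 223, 168], .base 0 [2, 0, 3, 0, 2, 0, 2, 0, 2, 0, 2, 0, 2, 0, 2, 0, 2, 0, 2, 0, 2, 0, 2, 0] [[1, 0, 0,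
    1, 1, 1, 0, 1, 1, 1, 0, 0, 1, 1, 0], [0, 1, 1, 1, 1, 1, 0, 1, 1, 0, 0, 1, 0, 1, 1, 1], [1, 1, 0, 1, 1, 1,
    1, 0, 1, 1, 1]]),
  ([73, 225, 143], .base 0 [3, 0, 3, 0, 3, 0, 3, 0, 3, 0, 2, 0, 2, 0, 2, 0, 3, 0, 2, 0, 2, 0, 2] [[0, 1, 1, 0,
    0, 1, 0, 0, 0, 1, 1, 0, 1, 0, 1, 0, 0], [0, 0, 0, 1, 0, 0, 0, 1, 1, 0, 0, 1], [0, 1, 0, 0, 1, 0, 1, 1, 1,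
    1, 0, 1, 0, 1, 0, 1, 1]]),
  ([147, 225, 226], .base 0 [2, 0, 2, 0, 2, 0, 2, 0, 2, 0, 2, 0, 2, 0, 2, 0, 3, 0, 3, 0, 2, 0, 3, 0, 2, 0,
    3] [[1, 1, 0, 1, 0, 1, 1, 0, 1, 0, 0, 1, 0, 1, 1, 0, 0, 1], [0, 0, 1, 0, 1, 0, 0, 0, 1, 0, 1, 1, 1, 0, 1],
    [1, 0, 0, 1, 1, 1, 1, 1, 0, 0, 0]]),
  ([226, 227, 224], .base 0 [3, 0, 3, 0, 2, 0, 2, 0, 2, 0, 2, 0, 3, 0, 2, 0, 2, 0, 2, 0, 2, 0] [[0, 1, 0, 0, 1,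
    0, 1, 0, 0, 1, 1, 1, 1, 1, 1], [1, 0, 1, 0, 1, 0, 0, 1, 1, 1, 1, 0, 0], [0, 1, 1, 1, 0, 0, 1, 1, 1, 1, 1,
    1, 1, 1]]),
  ([228, 223, 50], .base 0 [2, 0, 2, 0, 2, 0, 2, 0, 2, 0, 3, 0, 2, 0, 2, 0, 3, 0, 2, 0, 2, 0, 2, 0, 2] [[1, 1,
    0, 1, 1, 1, 0, 0, 1, 1, 0, 1, 0, 1, 1, 0, 0, 0], [0, 0, 1, 1, 0, 1, 0, 1, 1, 1, 0, 0, 0, 0, 0, 0], [0, 1,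
    0, 1, 0, 0, 1, 0, 0, 1, 0, 1, 0, 1, 1, 1, 0]]),
  ([228, 143, 229], .base 0 [2, 0, 2, 0, 3, 0, 3, 0, 3, 0, 3, 0, 3, 0, 2, 0, 3, 0, 3, 0, 3] [[1, 0, 0, 0, 1, 1,
    1, 1, 0, 1, 1, 0, 0, 1, 1], [0, 0, 0, 0, 1, 0, 0, 0, 1, 0, 1, 1, 1, 1, 0], [0, 0, 0, 0, 0, 1, 1, 0, 1, 0,
    1, 1]]),
  ([179, 230, 229], .base 0 [2, 0, 2, 0, 3, 0, 3, 0, 3, 0, 3, 0, 2, 0, 3, 0, 3, 0, 2, 0, 2, 0, 2, 0, 3, 0, 3,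
    0, 3] [[1, 1, 0, 1, 1, 1, 0, 1, 1, 0, 1, 0], [1, 1, 0, 0, 0, 1, 1, 1, 0, 0, 0, 1, 0, 0], [0, 0, 0, 0, 1, 0,
    0, 0, 1, 0, 1, 1, 1, 1, 1, 0]]),
  ([231, 184, 214], .base 0 [3, 0, 3, 0, 3, 0, 2, 0, 3, 0, 2, 0, 2, 0, 3, 0, 2, 0, 2, 0, 2, 0, 3, 0] [[0, 1, 1,
    1, 1, 1, 0, 1, 1, 1, 1, 0, 1, 1], [1, 0, 0, 1, 1, 0, 1, 0, 0, 0, 1, 0, 1, 0, 1, 0, 1], [1, 0, 0, 0, 1, 1,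
    1, 1, 0, 1, 0, 0, 1, 0, 1, 0, 1]]),
  ([64, 232, 102], .base 0 [0, 2, 0, 2, 0, 3, 0, 3, 0, 2, 0, 2, 0, 2, 0, 2, 0, 3, 0, 2, 0, 2] [[0, 0, 1, 0, 1,
    1, 0, 1, 0, 1, 0, 0, 0, 1, 1, 0, 0], [0, 0, 1, 0, 0, 0, 1, 0, 0, 1, 1, 0, 0, 1, 0, 0, 0], [1, 0, 1, 1, 0,
    0, 1, 0, 0, 0, 1, 0, 0, 1, 0, 0]]),
  ([116, 232, 233], .base 0 [2, 0, 2, 0, 3, 0, 3, 0, 2, 0, 2, 0, 3, 0, 3, 0, 3, 0, 2, 0, 2, 0, 3, 0, 3, 0,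
    2] [[0, 0, 0, 1, 0, 1, 0, 1, 0, 0, 1, 0, 1, 0, 0], [0, 1, 1, 1, 1, 1, 1, 1, 0, 0, 1, 0, 0, 0, 1, 0], [0, 0,
    1, 0, 0, 0, 1, 0, 0, 1, 0, 1, 1, 1, 0, 1, 1]]),
  ([233, 234, 231], .base 0 [3, 0, 3, 0, 3, 0, 2, 0, 2, 0, 2, 0, 2, 0, 3, 0, 3, 0, 2, 0, 3, 0, 2, 0, 2, 0,
    2] [[0, 1, 0, 0, 0, 1, 1, 0, 0, 1, 0, 0, 1, 1, 1, 0, 0, 1], [1, 1, 1, 0, 1, 1, 1, 0, 0, 1, 0, 1, 1, 1, 0,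
    0, 1], [1, 1, 1, 1, 1, 1, 0, 0, 1, 1, 1, 1, 0, 1, 1, 1, 0]]),
  ([235, 230, 234], .base 0 [2, 0, 2, 0, 3, 0, 2, 0, 2, 0, 2, 0, 3, 0, 2, 0, 2, 0, 2, 0, 3, 0, 3, 0, 2] [[0, 0,
    0, 1, 0, 0, 1, 1, 1, 1, 1, 0, 1, 0, 0, 1, 0, 0, 0], [0, 0, 0, 0, 0, 0, 1, 1, 0, 0, 1, 0, 0, 0, 1, 0, 1],
    [1, 1, 0, 0, 0, 0, 0, 0, 1, 1, 0, 1, 0, 0, 1, 1, 0, 0]]),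
  ([147, 224, 236], .base 0 [0, 3, 0, 2, 0, 3, 0, 2, 0, 3, 0, 2, 0, 3, 0, 3, 0, 2, 0, 2, 0, 2, 0, 2, 0, 3,
    0] [[0, 0, 1, 0, 1, 0, 0, 0, 1, 1, 1, 1, 1, 0], [0, 1, 0, 1, 1, 0, 1, 0, 1, 0, 1, 0, 1, 1, 1, 0, 0], [0, 1,
    1, 0, 0, 0, 0, 1, 0, 1, 0, 0, 0, 0, 0]]),
  ([18, 123, 237], .base 0 [2, 0, 2, 0, 3, 0, 2, 0, 2, 0, 2, 0, 3, 0, 2, 0, 3, 0, 2, 0, 2] [[0, 0, 0, 0, 1, 0,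
    1, 0, 1, 1, 0, 0, 1, 0], [1, 0, 1, 0, 0, 0, 1, 1, 1, 1, 0, 0, 1, 1, 1, 1, 1, 1], [0, 0, 0, 1, 0, 1, 0, 0,
    1, 1, 1, 1, 1, 1, 0, 1, 1]]),
  ([121, 237, 238], .base 0 [0, 2, 0, 3, 0, 2, 0, 2, 0, 2, 0, 2, 0, 3, 0, 3, 0, 3, 0, 3, 0, 2, 0, 2, 0] [[0, 0,
    0, 1, 0, 1, 0, 0, 0, 0, 1, 0, 1, 1, 1, 0, 0, 1], [0, 0, 1, 0, 0, 1, 0, 1, 1, 1, 0, 0, 0, 1, 0, 0, 0, 1],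
    [1, 0, 0, 0, 1, 0, 1, 1, 0, 1, 0, 0, 0, 0, 1, 0]]),
  ([72, 239, 12], .base 0 [0, 3, 0, 3, 0, 2, 0, 3, 0, 2, 0, 3, 0, 2, 0, 2, 0, 2, 0, 2, 0, 2] [[1, 0, 1, 0, 0,
    1, 1, 1, 1, 1, 0, 1, 0, 0, 1], [0, 0, 1, 1, 1, 1, 1, 1, 1, 1, 0, 1, 1, 0], [0, 1, 0, 0, 0, 0, 1, 0, 1, 0,
    0, 1, 1, 1, 0, 1, 0]]),
  ([240, 42, 239], .base 0 [0, 2, 0, 3, 0, 3, 0, 3, 0, 2, 0, 3, 0, 3, 0, 3, 0, 2, 0, 2, 0, 3] [[1, 0, 0, 1, 0,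
    0, 1, 1, 1, 0, 0, 1, 0, 0, 1], [0, 1, 1, 0, 1, 1, 0, 0, 0, 0, 1, 0, 1, 1, 1, 1, 1, 1, 0], [1, 1, 0, 0, 1,
    1, 0, 0, 1, 0, 0, 0, 0, 0, 0]]),
  ([241, 240, 167], .base 0 [0, 3, 0, 3, 0, 2, 0, 3, 0, 2, 0, 2, 0, 3, 0, 3, 0, 3, 0, 2, 0, 2, 0, 2, 0, 2, 0,
    2] [[0, 0, 0, 0, 1, 0, 0, 0, 1, 0, 1, 0, 1, 1, 0, 1], [0, 0, 1, 0, 0, 1, 1, 0, 1, 1, 1, 1, 0, 1, 1], [0, 1,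
    1, 0, 1, 0, 1, 0, 1, 0, 1, 1, 1]]),
  ([238, 242, 241], .base 0 [3, 0, 3, 0, 2, 0, 2, 0, 2, 0, 2, 0, 3, 0, 3, 0, 3, 0, 2, 0, 2, 0, 3, 0, 3, 0,
    2] [[1, 1, 0, 1, 1, 1, 0, 0, 1, 1, 0, 1, 0, 1, 1, 0, 0, 0], [0, 1, 1, 1, 1, 1, 1, 1, 0, 0, 1, 0, 0, 0, 1,
    0], [0, 0, 0, 1, 0, 0, 1, 1, 1, 1, 1, 0, 0, 0, 1, 0, 0, 0]]),
  ([106, 243, 91], .base 0 [0, 2, 0, 2, 0, 3, 0, 3, 0, 3, 0, 3, 0, 3, 0, 2, 0, 3, 0, 2, 0, 3, 0, 2, 0, 2, 0, 2,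
    0, 2, 0] [[1, 0, 0, 1, 1, 0, 1, 0, 1, 0, 1, 1, 1, 1, 0, 1], [1, 0, 0, 1, 0, 1, 1, 0, 1, 0, 0, 1, 1], [0, 0,
    1, 0, 0, 1, 1]]),
  ([243, 244, 122], .base 0 [3, 0, 3, 0, 2, 0, 2, 0, 2, 0, 2, 0, 3, 0, 3, 0, 3, 0, 3, 0, 2, 0, 2, 0, 3] [[0, 1,
    0, 0, 0, 0, 0, 1, 1, 0, 0, 1, 0, 0, 0], [0, 0, 1, 0, 0, 1, 1, 1, 1, 0, 1, 1, 0, 1, 1], [1, 0, 0, 0, 1, 1,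
    1, 1, 1, 0, 1, 0, 0, 1, 1, 0, 0]]),
  ([245, 244, 158], .base 0 [2, 0, 2, 0, 3, 0, 2, 0, 2, 0, 2, 0, 3, 0, 2, 0, 2, 0, 3, 0, 2, 0, 2, 0, 2, 0, 2,
    0, 2] [[0, 1, 0, 0, 0, 0, 0, 0, 1, 1, 1, 0, 1, 1, 0, 1, 0, 0], [1, 1, 1, 1, 0, 1, 0, 0, 0, 0, 1, 0, 0, 0],
    [0, 0, 0, 0, 0, 0, 0, 1, 1, 0, 1, 1, 1, 1, 0, 0, 0, 0]]),
  ([183, 246, 94], .base 0 [0, 3, 0, 2, 0, 3, 0, 2, 0, 2, 0, 3, 0, 3, 0, 2, 0, 2, 0, 2, 0, 2, 0, 3] [[1, 0, 1,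
    0, 0, 0, 0, 1, 1, 1, 0, 1, 0, 0, 0, 1, 1, 0], [0, 1, 1, 1, 0, 0, 1, 1, 0, 1, 0, 0, 1, 1, 0], [1, 0, 1, 0,
    0, 0, 1, 1, 0, 1, 1, 0, 0, 1, 0, 0]]),
  ([247, 246, 245], .base 0 [0, 3, 0, 3, 0, 2, 0, 2, 0, 2, 0, 2, 0, 3, 0, 3, 0, 3, 0, 3, 0, 3, 0, 2, 0] [[1, 1,
    0, 1, 0, 0, 0, 0, 0, 0], [0, 0, 1, 1, 1, 1, 1, 0, 0, 1, 0, 1, 0, 0, 0, 1], [0, 0, 0, 1, 0, 0, 1, 1, 0, 1,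
    0, 0, 0, 1, 0, 0, 0]]),
  ([248, 72, 54], .base 0 [3, 0, 3, 0, 2, 0, 2, 0, 2, 0, 2, 0, 2, 0, 3, 0, 2, 0, 2, 0, 2, 0, 3, 0, 3] [[], [0,
    0, 1, 0, 1, 1, 0, 0, 0, 0, 1, 1, 1, 0, 0, 0, 1], [0, 0, 1, 0, 0, 1, 0, 0, 0, 1, 0, 1, 1, 1, 1, 1, 1]]),
  ([248, 233, 249], .base 0 [2, 0, 2, 0, 3, 0, 2, 0, 2, 0, 2, 0, 2, 0, 2, 0, 3, 0, 3, 0, 3, 0, 3, 0, 3, 0, 2,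
    0] [[0, 0, 1, 0, 1, 1, 1, 0, 1, 0, 0, 1, 0, 1, 1, 1], [1, 0, 0, 0, 1, 0, 0, 1, 1, 1, 1, 0, 0, 1, 1, 0, 1],
    [0, 0, 0, 0, 0, 0, 1, 0, 0, 1, 1, 0, 0, 1, 1, 1, 0, 0]])
]

/-- All the relations. -/
def items3 : List (List ℕ × Prf) :=
  items3_0 ++ items3_1 ++ items3_2 ++ items3_3 ++ items3_4 ++ items3_5 ++ items3_6 ++ items3_7

/-- The two commutation templates. -/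
def tmpl3 : List (List (ℕ × List ℕ)) := [
  [(1, [2, 0, 2, 0, 3, 0, 3, 0, 3, 0, 2, 0, 2, 0, 3, 0]), (1, [3, 0, 3, 0, 3, 0, 2, 0, 3, 0, 3, 0, 3, 0, 3, 0,
    3, 0, 3, 0, 2, 0, 3, 0]), (1, [2, 0, 2, 0, 3, 0, 3, 0, 3, 0, 2, 0, 2, 0, 3, 0]), (1, [3, 0, 3, 0, 3, 0, 2,
    0, 3, 0, 3, 0, 3, 0, 3, 0, 3, 0, 3, 0, 2, 0, 3, 0])],
  [(1, [2, 0, 2, 0, 3, 0, 3, 0, 3, 0, 2, 0, 2, 0, 3, 0]), (1, [3, 0, 3, 0, 2, 0, 3, 0, 3, 0, 3, 0, 3, 0]), (1,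
    [2, 0, 2, 0, 3, 0, 3, 0, 3, 0, 2, 0, 2, 0, 3, 0]), (1, [3, 0, 3, 0, 2, 0, 3, 0, 3, 0, 3, 0, 3, 0])]
]

/-- A token, two known ones, their relation, the value. -/
def lineNodes : List (ℕ × ℕ × ℕ × List ℕ × ℕ) := [
  (37, 36, 34, [34, 36, 37], 1067),
  (40, 30, 39, [30, 40, 39], 992),
  (49, 36, 40, [49, 40, 36], 1306),
  (50, 49, 47, [50, 47, 49], 7),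
  (51, 38, 37, [37, 38, 51], 1705),
  (52, 30, 51, [30, 52, 51], 1318),
  (53, 52, 50, [52, 50, 53], 1313),
  (54, 46, 53, [46, 54, 53], 1737),
  (55, 39, 54, [55, 54, 39], 1702),
  (56, 55, 37, [55, 37, 56], 653),
  (44, 41, 38, [44, 38, 41], 240),
  (57, 50, 44, [44, 57, 50], 247),
  (58, 49, 46, [58, 46, 49], 1778),
  (59, 58, 52, [59, 58, 52], 980),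
  (42, 41, 34, [42, 41, 34], 163),
  (60, 59, 42, [59, 60, 42], 887),
  (61, 57, 60, [57, 60, 61], 896),
  (62, 46, 61, [46, 62, 61], 104),
  (63, 56, 62, [63, 56, 62], 741),
  (64, 34, 63, [64, 34, 63], 52),
  (65, 50, 64, [64, 50, 65], 51),
  (66, 65, 48, [66, 48, 65], 1097),
  (67, 56, 45, [45, 67, 56], 2020),
  (33, 0, 30, [33, 30, 0], 1935),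
  (68, 33, 56, [33, 68, 56], 1282),
  (69, 55, 42, [42, 69, 55], 1541),
  (70, 69, 62, [62, 70, 69], 1645),
  (71, 68, 70, [70, 71, 68], 879),
  (72, 48, 71, [71, 48, 72], 1813),
  (73, 46, 72, [72, 46, 73], 1277),
  (74, 67, 73, [67, 73, 74], 793),
  (75, 66, 74, [66, 74, 75], 1872),
  (43, 41, 36, [43, 36, 41], 1160),
  (76, 55, 43, [55, 43, 76], 558),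
  (77, 38, 76, [38, 77, 76], 172),
  (78, 61, 77, [61, 77, 78], 812),
  (79, 75, 78, [79, 78, 75], 1148),
  (80, 37, 79, [79, 80, 37], 87),
  (35, 0, 34, [34, 0, 35], 1745),
  (81, 70, 35, [70, 81, 35], 188),
  (82, 38, 63, [82, 38, 63], 103),
  (83, 59, 82, [83, 59, 82], 947),
  (84, 83, 74, [83, 74, 84], 170),
  (85, 81, 84, [84, 81, 85], 22),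
  (86, 49, 85, [85, 86, 49], 1292),
  (87, 33, 45, [45, 87, 33], 742),
  (88, 56, 87, [56, 88, 87], 107),
  (89, 88, 62, [62, 89, 88], 3),
  (90, 36, 42, [42, 90, 36], 1625),
  (91, 53, 90, [91, 90, 53], 888),
  (92, 44, 55, [55, 92, 44], 1622),
  (93, 58, 92, [93, 58, 92], 164),
  (94, 91, 93, [93, 91, 94], 988),
  (95, 94, 45, [95, 94, 45], 1717),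
  (96, 95, 38, [95, 38, 96], 1079),
  (97, 66, 96, [66, 97, 96], 126),
  (98, 58, 97, [58, 97, 98], 1676),
  (99, 89, 98, [98, 99, 89], 1679),
  (100, 40, 99, [99, 40, 100], 1391),
  (101, 86, 100, [86, 101, 100], 99),
  (102, 101, 96, [101, 96, 102], 1108),
  (103, 80, 102, [102, 80, 103], 1027),
  (104, 62, 43, [104, 43, 62], 1248),
  (105, 103, 104, [103, 104, 105], 227),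
  (106, 86, 88, [86, 106, 88], 1383),
  (107, 39, 60, [39, 60, 107], 792),
  (108, 106, 107, [106, 108, 107], 1663),
  (19, 71, 108, [71, 19, 108], 1296),
  (109, 50, 19, [19, 109, 50], 1303),
  (110, 105, 109, [110, 105, 109], 1524),
  (111, 76, 51, [76, 51, 111], 1159),
  (112, 79, 111, [111, 79, 112], 251),
  (113, 111, 63, [63, 111, 113], 1634),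
  (114, 54, 113, [114, 113, 54], 171),
  (115, 114, 99, [115, 99, 114], 1572),
  (116, 112, 115, [116, 115, 112], 1759),
  (117, 40, 61, [61, 40, 117], 96),
  (118, 117, 92, [92, 118, 117], 1590),
  (18, 116, 118, [18, 116, 118], 233),
  (119, 18, 95, [18, 95, 119], 1628),
  (120, 92, 62, [92, 62, 120], 1598),
  (121, 76, 120, [121, 120, 76], 1040),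
  (122, 121, 75, [122, 75, 121], 832),
  (12, 86, 122, [122, 12, 86], 1612),
  (123, 91, 12, [91, 123, 12], 1332),
  (124, 123, 68, [68, 123, 124], 54),
  (125, 124, 66, [124, 125, 66], 1151),
  (126, 119, 125, [119, 125, 126], 547),
  (127, 110, 126, [126, 110, 127], 2007),
  (128, 90, 63, [128, 90, 63], 1212),
  (129, 128, 75, [129, 128, 75], 1004),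
  (130, 65, 102, [102, 65, 130], 1127),
  (131, 129, 130, [131, 130, 129], 1931),
  (132, 43, 45, [132, 45, 43], 481),
  (133, 116, 132, [133, 116, 132], 1854),
  (134, 52, 70, [70, 134, 52], 843),
  (135, 134, 99, [99, 134, 135], 1476),
  (136, 67, 135, [136, 135, 67], 544),
  (137, 97, 136, [97, 137, 136], 606),
  (138, 133, 137, [138, 137, 133], 1376),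
  (139, 39, 138, [139, 138, 39], 1295),
  (140, 59, 136, [59, 140, 136], 500),
  (141, 140, 112, [140, 112, 141], 271),
  (142, 106, 117, [142, 117, 106], 1287),
  (143, 112, 98, [98, 143, 112], 1655),
  (144, 140, 143, [140, 143, 144], 1923),
  (145, 142, 144, [145, 142, 144], 644),
  (146, 131, 141, [141, 131, 146], 1668),
  (147, 58, 117, [58, 117, 147], 1682),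
  (148, 97, 106, [148, 106, 97], 1305),
  (149, 147, 148, [149, 148, 147], 907),
  (150, 62, 51, [150, 62, 51], 1729),
  (151, 133, 30, [151, 30, 133], 1201),
  (152, 97, 151, [151, 152, 97], 1231),
  (153, 150, 152, [152, 153, 150], 526),
  (154, 19, 85, [85, 19, 154], 1286),
  (155, 41, 62, [41, 155, 62], 538),
  (156, 155, 137, [155, 137, 156], 68),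
  (157, 154, 156, [154, 157, 156], 1346),
  (158, 50, 102, [158, 50, 102], 1107),
  (159, 140, 158, [159, 158, 140], 1447),
  (160, 89, 116, [116, 89, 160], 1756),
  (161, 53, 72, [72, 53, 161], 564),
  (162, 160, 161, [160, 161, 162], 1256),
  (163, 162, 84, [84, 162, 163], 1090),
  (164, 159, 163, [164, 159, 163], 485),
  (165, 30, 138, [30, 138, 165], 1775),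
  (166, 39, 113, [39, 113, 166], 1549),
  (167, 66, 101, [167, 66, 101], 1066),
  (168, 166, 167, [166, 167, 168], 551),
  (169, 18, 168, [18, 169, 168], 718),
  (170, 141, 91, [141, 170, 91], 631),
  (171, 169, 170, [169, 171, 170], 185),
  (172, 93, 12, [93, 12, 172], 1768),
  (173, 95, 172, [173, 95, 172], 93),
  (174, 173, 138, [173, 174, 138], 1341),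
  (175, 97, 101, [97, 101, 175], 29),
  (176, 83, 175, [83, 175, 176], 942),
  (177, 133, 176, [133, 176, 177], 1168),
  (178, 174, 177, [174, 177, 178], 429),
  (179, 103, 68, [179, 68, 103], 257),
  (180, 141, 108, [141, 180, 108], 1904),
  (181, 179, 180, [179, 181, 180], 1649),
  (182, 119, 123, [123, 119, 182], 872),
  (183, 56, 132, [183, 56, 132], 876),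
  (184, 62, 87, [184, 62, 87], 654),
  (185, 183, 184, [184, 183, 185], 482),
  (186, 116, 185, [186, 185, 116], 1853),
  (187, 186, 84, [186, 187, 84], 1943),
  (188, 90, 187, [187, 90, 188], 462),
  (189, 182, 188, [189, 182, 188], 678),
  (190, 181, 189, [189, 190, 181], 1239),
  (191, 44, 37, [37, 191, 44], 1243),
  (192, 62, 191, [62, 191, 192], 1203),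
  (193, 192, 102, [192, 102, 193], 231),
  (194, 193, 136, [193, 194, 136], 711),
  (195, 145, 194, [145, 194, 195], 67),
  (196, 184, 195, [195, 196, 184], 717),
  (197, 124, 103, [197, 124, 103], 1077),
  (198, 93, 107, [107, 198, 93], 956),
  (199, 133, 198, [198, 133, 199], 1154),
  (200, 199, 96, [199, 200, 96], 181),
  (201, 197, 200, [201, 200, 197], 1152),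
  (202, 147, 201, [201, 147, 202], 530),
  (203, 49, 120, [120, 203, 49], 804),
  (204, 99, 85, [99, 85, 204], 1689),
  (205, 55, 191, [191, 205, 55], 637),
  (206, 204, 205, [206, 204, 205], 1252),
  (207, 203, 206, [206, 203, 207], 1984),
  (208, 41, 207, [41, 207, 208], 1458),
  (209, 100, 208, [100, 208, 209], 221),
  (210, 209, 169, [169, 210, 209], 531),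
  (211, 199, 130, [130, 199, 211], 229),
  (212, 211, 194, [194, 212, 211], 546),
  (213, 0, 70, [0, 213, 70], 621),
  (214, 46, 77, [77, 214, 46], 836),
  (215, 214, 87, [215, 87, 214], 418),
  (216, 41, 215, [215, 216, 41], 976),
  (217, 216, 175, [217, 175, 216], 973),
  (218, 12, 94, [218, 94, 12], 1424),
  (219, 217, 218, [217, 218, 219], 1629),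
  (220, 213, 219, [213, 220, 219], 1072),
  (221, 212, 220, [212, 220, 221], 1554),
  (222, 75, 77, [77, 75, 222], 2044),
  (223, 222, 136, [136, 222, 223], 1500),
  (224, 223, 168, [224, 223, 168], 2043),
  (225, 143, 73, [73, 225, 143], 650),
  (226, 147, 225, [147, 225, 226], 1048),
  (227, 224, 226, [226, 227, 224], 995),
  (228, 50, 223, [228, 223, 50], 1499),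
  (229, 228, 143, [228, 143, 229], 940),
  (230, 179, 229, [179, 230, 229], 685),
  (231, 184, 214, [231, 184, 214], 458),
  (232, 64, 102, [64, 232, 102], 1120),
  (233, 116, 232, [116, 232, 233], 703),
  (234, 231, 233, [233, 234, 231], 885),
  (235, 230, 234, [235, 230, 234], 472),
  (236, 147, 224, [147, 224, 236], 361),
  (237, 18, 123, [18, 123, 237], 1501),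
  (238, 237, 121, [121, 237, 238], 461),
  (239, 72, 12, [72, 239, 12], 345),
  (240, 239, 42, [240, 42, 239], 506),
  (241, 240, 167, [241, 240, 167], 1488),
  (242, 238, 241, [238, 242, 241], 1053),
  (243, 106, 91, [106, 243, 91], 1567),
  (244, 243, 122, [243, 244, 122], 1375),
  (245, 158, 244, [245, 244, 158], 268),
  (246, 183, 94, [183, 246, 94], 176),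
  (247, 245, 246, [247, 246, 245], 444),
  (248, 54, 72, [248, 72, 54], 476),
  (249, 248, 233, [248, 233, 249], 867)
]

/-- The eleven basic tokens. -/
def seedToks : List ℕ := [
  0,
  34,
  36,
  30,
  38,
  39,
  41,
  45,
  46,
  47,
  48
]

/-- Their values. -/
def seedVals : List ℕ := [
  1024,
  721,
  1786,
  911,
  642,
  111,
  626,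
  1385,
  1000,
  1309,
  1146
]

/-- The coordinates of the unit values in the basis. -/
def coords : List ℕ := [
  1413,
  1044,
  957,
  296,
  537,
  190,
  922,
  365,
  1800,
  1385,
  1
]

/-- The commutation relations of the basic tokens. -/
def commRels : List (List ℕ) := [
  [34, 0, 34, 0],
  [36, 0, 36, 0],
  [36, 34, 36, 34],
  [30, 0, 30, 0],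
  [30, 34, 30, 34],
  [30, 36, 30, 36],
  [38, 0, 38, 0],
  [38, 34, 38, 34],
  [38, 36, 38, 36],
  [38, 30, 38, 30],
  [39, 0, 39, 0],
  [39, 34, 39, 34],
  [39, 36, 39, 36],
  [39, 30, 39, 30],
  [39, 38, 39, 38],
  [41, 0, 41, 0],
  [41, 34, 41, 34],
  [41, 36, 41, 36],
  [41, 30, 41, 30],
  [41, 38, 41, 38],
  [41, 39, 41, 39],
  [45, 0, 45, 0],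
  [45, 34, 45, 34],
  [45, 36, 45, 36],
  [45, 30, 45, 30],
  [45, 38, 45, 38],
  [45, 39, 45, 39],
  [45, 41, 45, 41],
  [46, 0, 46, 0],
  [46, 34, 46, 34],
  [46, 36, 46, 36],
  [46, 30, 46, 30],
  [46, 38, 46, 38],
  [46, 39, 46, 39],
  [46, 41, 46, 41],
  [46, 45, 46, 45],
  [47, 0, 47, 0],
  [47, 34, 47, 34],
  [47, 36, 47, 36],
  [47, 30, 47, 30],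
  [47, 38, 47, 38],
  [47, 39, 47, 39],
  [47, 41, 47, 41],
  [47, 45, 47, 45],
  [47, 46, 47, 46],
  [48, 0, 48, 0],
  [48, 34, 48, 34],
  [48, 36, 48, 36],
  [48, 30, 48, 30],
  [48, 38, 48, 38],
  [48, 39, 48, 39],
  [48, 41, 48, 41],
  [48, 45, 48, 45],
  [48, 46, 48, 46],
  [48, 47, 48, 47]
]

/-- The conjugates of the basic tokens, with witnesses. -/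
def imgX : List (ℕ × List ℕ) := [
  (141, []),
  (153, [0, 0, 0, 0, 1, 1, 1, 0, 0, 1, 0, 0, 0, 1, 1, 0, 0, 0]),
  (157, []),
  (30, [0, 1, 1, 1, 0, 0, 0, 1, 1, 1, 1]),
  (164, []),
  (165, []),
  (41, [0, 1, 0, 1, 1, 0, 1, 0, 1, 1, 1, 1, 1, 1, 1, 1, 1, 1]),
  (171, []),
  (178, [0, 1, 0, 1, 1, 0, 0, 0, 0, 0, 1, 1, 1, 0]),
  (190, []),
  (196, [])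
]

/-- The conjugates of the basic tokens, with witnesses. -/
def imgY : List (ℕ × List ℕ) := [
  (18, [0, 1, 1, 0, 0, 1, 0, 0, 0, 1, 1, 0, 1, 0, 1, 0, 0]),
  (202, []),
  (210, []),
  (221, []),
  (227, []),
  (235, []),
  (236, []),
  (242, []),
  (247, []),
  (249, []),
  (199, [])
]

/-- The seven tokens commuting with the third generator, with witnesses. -/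
def tTargets : List (ℕ × List ℕ) := [
  (0, []),
  (131, []),
  (139, []),
  (141, []),
  (145, []),
  (146, []),
  (149, [])
]

/-- The token of the defining conjugate, with a witness. -/
def eTarget : ℕ × List ℕ := (127, [])

/-- The commutation relations proved in the second stage. -/
def commGoals : List (List ℕ) := [[0, 1, 0, 1], [0, 9, 0, 9]]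

end CfsgLib.Sporadic.J4Inj
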