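import Cfsg.Agent.Lib.Sporadic.J4Inj.Engine

set_option autoImplicit false
set_option maxRecDepth 20000

/-!
# Data: relations among conjugates of the third generator near one trio and one sextet (owner: helper21)
-/

namespace CfsgLib.Sporadic.J4Inj

/-- The tokens. -/
def toks1 : List (ℕ × List ℕ) := [
  (0, [2, 0, 2, 0, 3, 0, 3, 0, 3, 0, 3]),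
  (0, [3, 0, 2, 0, 3, 0, 3, 0, 3, 0, 3]),
  (0, [0, 2, 0, 3, 0, 3, 0, 3, 0, 3]),
  (0, [2, 1, 2, 1, 3, 1, 3, 1, 3, 1, 3]),
  (0, [2, 2, 1, 2, 1, 3, 1, 3, 1, 3, 1, 3]),
  (0, [1, 2, 1, 3, 1, 3, 1, 3, 1, 3]),
  (0, [0, 2, 0, 3, 0, 3, 0, 3, 0, 3, 0, 3, 0, 2]),
  (0, [0, 2, 0, 2, 0, 2, 0, 2, 0, 2, 0, 2, 0, 2, 0, 2]),
  (0, [3, 0, 2, 0, 3, 0, 2, 0, 3, 0, 2, 0, 2, 0, 3, 0, 3, 0, 2, 0, 2, 0, 3]),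
  (0, [2, 0, 2, 0, 3, 0, 2, 0, 2, 0, 2, 0, 2, 0, 3, 0, 3, 0, 2, 0, 2, 0, 2, 0, 2, 0, 2]),
  (0, [3, 0, 2, 0, 3, 0, 3, 0, 3, 0, 3, 0, 3, 0, 2]),
  (0, [2, 0, 2, 0, 3, 0, 3, 0, 3, 0, 3, 0, 3, 0, 2]),
  (0, [2, 0, 2, 0, 2, 0, 2, 0, 2, 0, 2, 0, 2, 0, 2, 0, 2]),
  (0, [2, 0, 2, 0, 3, 0, 2, 0, 3, 0, 2, 0, 2, 0, 3, 0, 3, 0, 2, 0, 2, 0, 3]),
  (0, [3, 0, 2, 0, 2, 0, 2, 0, 2, 0, 2, 0, 2, 0, 2, 0, 2]),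
  (0, [0, 2, 0, 3, 0, 2, 0, 2, 0, 2, 0, 2, 0, 3, 0, 3, 0, 2, 0, 2, 0, 2, 0, 2, 0, 2]),
  (0, [3, 0, 2, 0, 3, 0, 2, 0, 2, 0, 2, 0, 2, 0, 3, 0, 3, 0, 2, 0, 2, 0, 2, 0, 2, 0, 2]),
  (0, [0, 2, 0, 3, 0, 2, 0, 3, 0, 2, 0, 2, 0, 3, 0, 3, 0, 2, 0, 2, 0, 3]),
  (0, [1, 3, 1, 2, 1, 3, 1, 3, 1, 3, 1, 3, 1, 2, 1, 3, 1, 2, 1, 2, 0, 3, 0, 3, 0, 3, 0, 2, 0, 2, 0, 2, 0, 2, 0,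
    3, 0, 2, 0, 2, 1, 2, 1, 3, 1, 3, 1, 3, 1, 3]),
  (0, [1, 3, 1, 2, 1, 3, 1, 3, 1, 3, 1, 3, 1, 2, 1, 3, 1, 2, 1, 2, 0, 3, 0, 3, 0, 3, 0, 2, 0, 2, 0, 2, 0, 2, 0,
    3, 0, 2, 0, 2, 2, 1, 2, 1, 3, 1, 3, 1, 3, 1, 3]),
  (0, [1, 3, 1, 2, 1, 3, 1, 3, 1, 3, 1, 3, 1, 2, 1, 3, 1, 2, 1, 2, 0, 3, 0, 3, 0, 3, 0, 2, 0, 2, 0, 2, 0, 2, 0,
    3, 0, 2, 0, 1, 2, 1, 3, 1, 3, 1, 3, 1, 3]),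
  (0, [1, 3, 1, 2, 1, 3, 1, 2, 1, 3, 1, 2, 1, 3, 1, 3, 1, 3, 1, 2, 2, 0, 3, 0, 2, 0, 3, 0, 3, 0, 3, 0, 3, 0, 2,
    0, 2, 0, 3, 0, 2, 1, 2, 1, 3, 1, 3, 1, 3, 1, 3]),
  (0, [1, 3, 1, 2, 1, 3, 1, 2, 1, 3, 1, 2, 1, 3, 1, 3, 1, 3, 1, 2, 2, 0, 3, 0, 2, 0, 3, 0, 3, 0, 3, 0, 3, 0, 2,
    0, 2, 0, 3, 0, 2, 2, 1, 2, 1, 3, 1, 3, 1, 3, 1, 3]),
  (0, [1, 3, 1, 2, 1, 3, 1, 2, 1, 3, 1, 2, 1, 3, 1, 3, 1, 3, 1, 2, 2, 0, 3, 0, 2, 0, 3, 0, 3, 0, 3, 0, 3, 0, 2,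
    0, 2, 0, 3, 0, 1, 2, 1, 3, 1, 3, 1, 3, 1, 3]),
  (0, []),
  (0, [0, 3, 0, 3, 0, 2, 0, 2, 0, 2, 0, 3, 0, 3, 0, 2, 0, 3, 0, 3, 0, 2]),
  (0, [0, 2, 0, 3]),
  (0, [2, 0, 2, 0, 2, 0, 3, 0, 2, 0, 3, 0, 2, 0, 2]),
  (0, [0, 3, 0, 3, 0, 2, 0, 3, 0, 3, 0, 2, 0, 3, 0, 2, 0, 2]),
  (0, [3, 0, 3, 0, 2, 0, 3, 0, 2, 0, 2, 0, 3, 0, 2, 0, 3]),
  (0, [2, 0, 3, 0, 2, 0, 3, 0, 3, 0, 3, 0, 2, 0, 2, 0, 2, 0, 3]),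
  (0, [2, 0, 2, 0, 3, 0, 3, 0, 2, 0, 3, 0, 3, 0, 2]),
  (0, [0, 2, 0, 3, 0, 2, 0, 3, 0, 2, 0, 3, 0, 3, 0, 3, 0, 2, 0, 2, 0, 2, 0, 3]),
  (0, [2, 0, 2, 0, 2, 0, 3, 0, 2, 0, 3, 0, 2, 0, 2, 0, 2, 0, 3]),
  (0, [3, 0, 2, 0, 3, 0, 3, 0, 2, 0, 2, 0, 2, 0, 3, 0, 3, 0, 3, 0, 3, 0, 3, 0, 2]),
  (0, [3, 0, 2, 0, 2, 0, 2, 0, 3, 0, 2, 0, 3, 0, 3, 0, 3, 0, 2]),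
  (0, [3, 0, 2, 0, 3]),
  (0, []),
  (0, [2, 0, 2, 0, 3, 0, 3, 0, 3, 0, 2, 0, 2, 0, 3, 0, 2, 1, 2, 1, 3, 1, 3, 1, 3, 1, 3]),
  (0, [2, 0, 2, 0, 3, 0, 3, 0, 3, 0, 2, 0, 2, 0, 3, 0, 2, 2, 1, 2, 1, 3, 1, 3, 1, 3, 1, 3]),
  (0, [2, 0, 2, 0, 3, 0, 3, 0, 3, 0, 2, 0, 2, 0, 3, 0, 1, 2, 1, 3, 1, 3, 1, 3, 1, 3]),
  (0, [2, 0, 3, 0, 2, 0, 2, 0, 2, 0, 2, 0, 2, 0, 3, 0, 2, 0, 2, 0, 2, 0, 3]),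
  (0, [2, 0, 2, 0, 3, 0, 3, 0, 3, 0, 3, 0, 2, 0, 3, 0, 2, 0, 2]),
  (0, [2, 0, 3, 0, 3, 0, 2, 0, 3, 0, 3, 0, 3, 0, 3, 0, 2, 0, 2, 0, 2, 0, 2]),
  (0, [2, 0, 3, 0, 2, 0, 2, 0, 3, 0, 3, 0, 2, 0, 2, 0, 2, 0, 3]),
  (0, [2, 0, 3, 0, 2, 0, 3, 0, 2, 0, 3, 0, 2, 0, 3, 0, 3, 0, 3, 0, 2, 0, 2, 0, 3]),
  (0, [0, 2, 0, 3, 0, 2, 0, 2, 0, 3, 0, 3, 0, 2, 0, 2, 0, 2, 0, 3]),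
  (0, [2, 0, 3, 0, 3, 0, 2, 0, 3, 0, 3, 0, 3, 0, 3, 0, 3, 0, 3, 0, 2, 0, 3, 0, 2, 1, 2, 1, 3, 1, 3, 1, 3, 1,
    3]),
  (0, [2, 0, 3, 0, 3, 0, 2, 0, 3, 0, 3, 0, 3, 0, 3, 0, 3, 0, 3, 0, 2, 0, 3, 0, 2, 2, 1, 2, 1, 3, 1, 3, 1, 3, 1,
    3]),
  (0, [2, 0, 3, 0, 3, 0, 2, 0, 3, 0, 3, 0, 3, 0, 3, 0, 3, 0, 3, 0, 2, 0, 3, 0, 1, 2, 1, 3, 1, 3, 1, 3, 1, 3]),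
  (0, [0, 2, 0, 3, 0, 3, 0, 2, 0, 2, 0, 3, 0, 2, 0, 3, 0, 2, 0, 2, 0, 2, 0, 3]),
  (0, [3, 0, 3, 0, 3, 0, 2, 0, 2, 0, 3, 0, 2, 0, 2]),
  (0, [3, 0, 2, 0, 3, 0, 2, 0, 3, 0, 3, 0, 3, 0, 2]),
  (0, [2, 0, 3, 0, 2]),
  (0, [2, 0, 3, 0, 3, 0, 2, 0, 2, 0, 3, 0, 2, 0, 3, 0, 2, 0, 2, 0, 2, 0, 3]),
  (0, [3, 0, 2, 0, 2, 0, 2, 0, 3, 0, 3, 0, 3, 0, 2]),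
  (0, [3, 0, 2, 0, 2, 0, 2, 0, 3, 0, 3, 0, 3, 0, 3, 0, 3, 0, 2]),
  (0, [0, 3, 0, 2, 0, 3, 0, 2, 0, 3, 0, 3, 0, 3, 0, 2, 0, 2, 0, 3]),
  (0, [3, 0, 2, 0, 3, 0, 2, 0, 3, 0, 3, 0, 3, 0, 2, 0, 2, 0, 3]),
  (0, [0, 3, 0, 2, 0, 2, 0, 2, 0, 3, 0, 3, 0, 3, 0, 2]),
  (0, [2, 0, 3, 0, 2, 0, 2, 0, 3]),
  (0, [0, 2, 0, 3, 0, 2, 0, 2, 0, 3]),
  (0, [3, 0, 3, 0, 3, 0, 2, 0, 3, 0, 2, 0, 3, 0, 2, 1, 2, 1, 3, 1, 3, 1, 3, 1, 3]),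
  (0, [3, 0, 3, 0, 3, 0, 2, 0, 3, 0, 2, 0, 3, 0, 2, 2, 1, 2, 1, 3, 1, 3, 1, 3, 1, 3]),
  (0, [3, 0, 3, 0, 3, 0, 2, 0, 3, 0, 2, 0, 3, 0, 1, 2, 1, 3, 1, 3, 1, 3, 1, 3]),
  (0, [3, 0, 3, 0, 2, 0, 2, 0, 2, 0, 3, 0, 3, 0, 2, 0, 3, 0, 3, 0, 2]),
  (0, [2, 0, 3]),
  (0, [0, 2, 0, 2, 0, 2, 0, 3, 0, 2, 0, 3, 0, 2, 0, 2]),
  (0, [3, 0, 3, 0, 2, 0, 3, 0, 3, 0, 2, 0, 3, 0, 2, 0, 2]),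
  (0, [0, 3, 0, 3, 0, 2, 0, 3, 0, 2, 0, 2, 0, 3, 0, 2, 0, 3]),
  (0, [0, 2, 0, 3, 0, 2, 0, 3, 0, 3, 0, 3, 0, 2, 0, 2, 0, 2, 0, 3]),
  (0, [0, 2, 0, 2, 0, 3, 0, 3, 0, 2, 0, 3, 0, 3, 0, 2]),
  (0, [2, 0, 3, 0, 2, 0, 3, 0, 2, 0, 3, 0, 3, 0, 3, 0, 2, 0, 2, 0, 2, 0, 3]),
  (0, [3, 0, 3, 0, 3, 0, 3, 0, 3, 0, 3, 0, 2, 0, 3, 0, 2, 0, 2]),
  (0, [0, 3, 0, 2, 0, 3, 0, 3, 0, 2, 0, 2, 0, 2, 0, 3, 0, 3, 0, 3, 0, 3, 0, 3, 0, 2]),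
  (0, [0, 3, 0, 2, 0, 2, 0, 2, 0, 3, 0, 2, 0, 3, 0, 3, 0, 3, 0, 2]),
  (0, [0, 3, 0, 2, 0, 3]),
  (0, [0, 2, 0, 2, 0, 3, 0, 3, 0, 3, 0, 2, 0, 2, 0, 3, 0, 2, 1, 2, 1, 3, 1, 3, 1, 3, 1, 3]),
  (0, [0, 2, 0, 2, 0, 3, 0, 3, 0, 3, 0, 2, 0, 2, 0, 3, 0, 2, 2, 1, 2, 1, 3, 1, 3, 1, 3, 1, 3]),
  (0, [0, 2, 0, 2, 0, 3, 0, 3, 0, 3, 0, 2, 0, 2, 0, 3, 0, 1, 2, 1, 3, 1, 3, 1, 3, 1, 3]),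
  (0, [2, 0, 2, 0, 2, 0, 2, 0, 3, 0, 2, 0, 2, 0, 3, 0, 3, 0, 3, 0, 3]),
  (0, [3, 0, 2]),
  (0, [3, 0, 3, 0, 3, 0, 2, 0, 3, 0, 3, 0, 2, 0, 3, 0, 2, 0, 2]),
  (0, [2, 0, 2, 0, 3, 0, 3, 0, 2, 0, 2, 0, 3, 0, 3, 0, 2]),
  (0, [2, 0, 3, 0, 2, 0, 3, 0, 3, 0, 3, 0, 2, 0, 3, 0, 3, 0, 2, 0, 2, 0, 2, 0, 3, 0, 2, 0, 2]),
  (0, [0, 3, 0, 2]),
  (0, [2, 0, 3, 0, 2, 0, 3, 0, 3, 0, 2, 0, 3, 0, 2, 0, 2]),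
  (0, [3, 0, 2, 0, 2, 0, 2, 0, 2, 0, 2, 0, 3, 0, 2, 0, 2, 0, 3, 0, 3, 0, 3, 0, 3]),
  (0, [3, 0, 3, 0, 2, 0, 3, 0, 3, 0, 2, 0, 2, 0, 3, 0, 3, 0, 2]),
  (0, [0, 2, 0, 2, 0, 2, 0, 2, 0, 3, 0, 2, 0, 2, 0, 3, 0, 3, 0, 3, 0, 3]),
  (0, [0, 2, 0, 2, 0, 3, 0, 3, 0, 2, 0, 2, 0, 3, 0, 3, 0, 2]),
  (0, [2, 0, 3, 0, 2, 0, 2, 0, 3, 0, 2, 0, 2, 0, 3]),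
  (0, [2, 0, 2, 0, 2, 0, 2, 0, 3, 0, 2, 1, 2, 1, 3, 1, 3, 1, 3, 1, 3]),
  (0, [2, 0, 2, 0, 2, 0, 2, 0, 3, 0, 2, 2, 1, 2, 1, 3, 1, 3, 1, 3, 1, 3]),
  (0, [2, 0, 2, 0, 2, 0, 2, 0, 3, 0, 1, 2, 1, 3, 1, 3, 1, 3, 1, 3]),
  (0, [0, 2, 0, 2, 0, 2, 0, 3, 0, 3, 0, 3, 0, 2, 0, 2, 0, 3, 0, 3, 0, 3, 0, 3]),
  (0, [0, 2, 0, 2, 0, 2, 0, 3, 0, 2, 0, 3, 0, 3, 0, 2, 0, 2]),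
  (0, [0, 3, 0, 3, 0, 3, 0, 2, 0, 2, 0, 2, 0, 2]),
  (0, [0, 3, 0, 2, 0, 3, 0, 2, 0, 2, 0, 3, 0, 2, 0, 2, 0, 2, 0, 2]),
  (0, [2, 0, 2, 0, 2, 0, 2, 0, 3, 0, 3, 0, 3, 0, 2, 0, 3, 0, 2, 0, 2, 0, 2, 0, 2]),
  (0, [0, 2, 0, 2, 0, 3, 0, 3, 0, 2, 0, 2, 0, 2, 0, 2, 0, 3]),
  (0, [0, 2, 0, 2, 0, 3, 0, 3, 0, 3, 0, 3, 0, 2, 0, 2, 0, 3, 0, 2, 0, 3]),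
  (0, [0, 2, 0, 3, 0, 3, 0, 3, 0, 2, 0, 2, 0, 3, 0, 3, 0, 2, 0, 2, 0, 2, 0, 3]),
  (0, [3, 0, 3, 0, 2, 0, 3, 0, 2, 0, 3, 0, 2, 0, 2]),
  (0, [3, 0, 2, 0, 2, 0, 3, 0, 3, 0, 2, 0, 2, 0, 2, 0, 3, 0, 2, 0, 2, 0, 2, 0, 2, 0, 2]),
  (0, [2, 0, 3, 0, 2, 0, 3, 0, 2, 0, 2, 0, 3, 0, 2, 0, 3]),
  (0, [0, 2, 0, 2, 0, 3, 0, 2, 0, 2, 0, 2, 0, 2]),
  (0, [0, 2, 0, 2, 0, 2, 0, 3, 0, 3, 0, 3, 0, 2, 1, 2, 1, 3, 1, 3, 1, 3, 1, 3]),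
  (0, [0, 2, 0, 2, 0, 2, 0, 3, 0, 3, 0, 3, 0, 2, 2, 1, 2, 1, 3, 1, 3, 1, 3, 1, 3]),
  (0, [0, 2, 0, 2, 0, 2, 0, 3, 0, 3, 0, 3, 0, 1, 2, 1, 3, 1, 3, 1, 3, 1, 3]),
  (0, [2, 0, 2, 0, 2, 0, 3, 0, 3, 0, 3, 0, 2, 0, 2, 0, 3, 0, 3, 0, 3, 0, 3]),
  (0, [2, 0, 2, 0, 2, 0, 3, 0, 2, 0, 3, 0, 3, 0, 2, 0, 2]),
  (0, [3, 0, 3, 0, 3, 0, 2, 0, 2, 0, 2, 0, 2]),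
  (0, [3, 0, 2, 0, 3, 0, 2, 0, 2, 0, 3, 0, 2, 0, 2, 0, 2, 0, 2]),
  (0, [0, 2, 0, 2, 0, 2, 0, 2, 0, 3, 0, 3, 0, 3, 0, 2, 0, 3, 0, 2, 0, 2, 0, 2, 0, 2]),
  (0, [2, 0, 2, 0, 3, 0, 3, 0, 2, 0, 2, 0, 2, 0, 2, 0, 3]),
  (0, [2, 0, 2, 0, 3, 0, 3, 0, 3, 0, 3, 0, 2, 0, 2, 0, 3, 0, 2, 0, 3]),
  (0, [2, 0, 3, 0, 3, 0, 3, 0, 2, 0, 2, 0, 3, 0, 3, 0, 2, 0, 2, 0, 2, 0, 3]),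
  (0, [0, 3, 0, 3, 0, 2, 0, 3, 0, 2, 0, 3, 0, 2, 0, 2]),
  (0, [0, 3, 0, 2, 0, 2, 0, 3, 0, 3, 0, 2, 0, 2, 0, 2, 0, 3, 0, 2, 0, 2, 0, 2, 0, 2, 0, 2]),
  (0, [0, 2, 0, 3, 0, 2, 0, 3, 0, 2, 0, 2, 0, 3, 0, 2, 0, 3]),
  (0, [2, 0, 2, 0, 3, 0, 2, 0, 2, 0, 2, 0, 2]),
  (0, [2, 0, 2, 0, 2, 0, 3, 0, 3, 0, 3, 0, 2, 1, 2, 1, 3, 1, 3, 1, 3, 1, 3]),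
  (0, [2, 0, 2, 0, 2, 0, 3, 0, 3, 0, 3, 0, 2, 2, 1, 2, 1, 3, 1, 3, 1, 3, 1, 3]),
  (0, [2, 0, 2, 0, 2, 0, 3, 0, 3, 0, 3, 0, 1, 2, 1, 3, 1, 3, 1, 3, 1, 3]),
  (0, [0, 2, 0, 3, 0, 2, 0, 3, 0, 3, 0, 3, 0, 3, 0, 3, 0, 2, 0, 2]),
  (0, [0, 2, 0, 3, 0, 2, 0, 3, 0, 3, 0, 3, 0, 3, 0, 3, 0, 3, 0, 3]),
  (0, [2, 0, 3, 0, 2, 0, 2, 0, 2, 0, 3, 0, 3, 0, 2, 0, 2, 0, 2, 0, 3]),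
  (0, [2, 0, 3, 0, 2, 0, 2, 0, 3, 0, 3, 0, 2, 0, 3, 0, 2, 0, 3]),
  (0, [0, 2, 0, 2, 0, 2, 0, 3, 0, 3, 0, 3, 0, 3, 0, 3, 0, 2, 0, 3, 0, 2, 0, 2, 0, 2, 0, 2]),
  (0, [3, 0, 2, 0, 2, 0, 2, 0, 3, 0, 2, 0, 3, 0, 3, 0, 3, 0, 2, 0, 2, 0, 3]),
  (0, [3, 0, 2, 0, 2, 0, 2, 0, 2, 0, 2, 0, 3, 0, 3, 0, 3, 0, 3, 0, 3, 0, 2]),
  (2, [0, 2, 0, 2, 0, 3, 0, 3, 0, 2, 0, 2, 0, 2, 0, 3, 0, 2, 0, 3, 0, 2, 0, 3, 0, 2, 0, 3, 0, 3, 0, 3, 0, 2, 0,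
    2, 0, 3, 0, 3, 0, 3, 0, 2, 0, 3, 0, 2, 0, 3, 0, 2]),
  (2, [0, 2, 0, 3, 0, 2, 0, 2, 0, 3, 0, 3, 0, 2, 0, 2, 0, 2, 0, 3, 0, 2, 0, 3, 0, 3, 0, 3, 0, 2, 0, 2, 0, 3, 0,
    3, 0, 2, 0, 3, 0, 3, 0, 2, 0, 3, 0, 2, 0, 3, 0, 2]),
  (2, [2, 0, 2, 0, 2, 0, 2, 0, 3, 0, 3, 0, 3, 0, 3, 0, 2, 0, 3, 0, 3, 0, 3, 0, 2, 0, 2, 0, 3, 0, 3, 0, 3, 0, 2,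
    0, 3, 0, 3, 0, 2, 0, 2, 0, 2, 0, 2, 0, 3, 0, 3, 0, 3]),
  (0, [0, 2, 0, 3, 0, 3, 0, 3, 0, 3, 0, 3, 0, 2, 0, 3, 0, 2, 0, 2, 0, 3, 0, 3, 0, 2])
]

/-- The templates: the two long relators and the square of the third generator. -/
def tmpl1 : List (List (ℕ × List ℕ)) := [
  [(0, []), (0, [2, 0, 3, 0, 2, 0, 3, 0, 2, 0, 2, 0, 3, 0, 2, 0, 3]), (0, [2, 0, 3, 0, 2, 0, 3, 0, 2, 0, 2, 0,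
    3, 0, 2, 0, 3, 2, 0, 3, 0, 2, 0, 3, 0, 2, 0, 2, 0, 3, 0, 2, 0, 3])],
  [(0, []), (0, [2, 0, 2, 0, 2, 0, 2, 2, 0, 2, 0, 2, 0, 2, 2, 0, 2, 0, 2, 0, 2, 3, 3, 1, 3, 1, 3, 1, 3, 1, 3,
    1, 3, 1, 3, 3, 1, 3, 1, 3, 1]), (2, [2, 0, 2, 0, 2, 0, 2, 2, 0, 2, 0, 2, 0, 2, 2, 0, 2, 0, 2, 0, 2, 2, 0,
    2, 0, 2, 0, 2, 2, 0, 2, 0, 2, 0, 2, 2, 0, 2, 0, 2, 0, 2]), (0, []), (0, [3, 3, 1, 3, 1, 3, 1, 3, 1, 3, 1,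
    3, 1, 3, 3, 1, 3, 1, 3, 1])],
  [(0, []), (0, [])]
]

/-- Relations with proofs, part 0. -/
def items1_0 : List (List ℕ × Prf) := [
  ([0, 7, 6], .base 0 [2, 0, 2, 0, 3, 0, 3, 0, 3, 0, 3, 0, 2, 0, 2, 0, 3, 0, 3, 0, 2, 0, 2, 0, 2, 2, 0, 2, 0,
    3, 0, 3, 0, 2, 0, 2, 0, 2, 0, 2, 0, 2, 0, 3, 0, 3, 0, 2, 0, 2, 0, 2, 2, 0, 2, 0, 3, 0, 3, 0, 2, 0, 2, 0,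
    2] [[0, 1, 1, 0, 1, 1], [0, 1, 0, 1, 0, 1, 0, 1, 0, 1, 0, 1, 0, 1, 1, 1, 0, 1, 0, 1, 0, 1, 1], [1, 0, 1, 1,
    0, 1, 0, 1, 0, 1, 1, 0, 1, 1, 0, 1, 0, 1, 1, 0, 1, 1, 1, 0]]),
  ([7, 1, 8], .base 0 [0, 2, 0, 2, 0, 2, 0, 2, 0, 2, 0, 2, 0, 2, 0, 2, 2, 0, 2, 0, 3, 0, 3, 0, 2, 0, 2, 0, 2,
    2, 0, 2, 0, 3, 0, 3, 0, 2, 0, 2, 0, 2, 2, 0, 2, 0, 3, 0, 3, 0, 2, 0, 2, 0, 2, 0, 2, 0, 2, 0, 3, 0, 3, 0, 2,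
    0, 2, 0, 2, 0, 2, 0, 2, 0, 3, 0, 3, 0, 2, 0, 2, 0, 2, 2, 0, 2, 0, 3, 0, 3, 0, 2, 0, 2, 0, 2] [[1, 1, 1, 0,
    1, 0, 1, 1], [0, 1, 1, 0, 1, 1, 0, 1, 1, 1, 0, 1, 0, 1, 0, 1, 0, 1, 1, 0, 1, 0, 1, 0], [0, 1, 0, 1, 1, 0,
    1, 1, 1, 0, 1, 0, 1, 1, 0, 1, 1, 0, 1, 1, 1, 0, 1, 1, 0, 1]]),
  ([7, 2, 9], .base 0 [0, 2, 0, 2, 0, 2, 0, 2, 0, 2, 0, 2, 0, 2, 0, 2, 2, 0, 2, 0, 3, 0, 3, 0, 2, 0, 2, 0, 2,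
    0, 2, 0, 2, 0, 3, 0, 3, 0, 2, 0, 2, 0, 2, 0, 2, 0, 2, 0, 3, 0, 3, 0, 2, 0, 2, 0, 2, 2, 0, 2, 0, 3, 0, 3, 0,
    2, 0, 2, 0, 2, 2, 0, 2, 0, 3, 0, 3, 0, 2, 0, 2, 0, 2, 0] [[1, 0, 1, 0, 1, 1, 1, 0], [1, 1, 0, 1, 0, 1, 0,
    1, 0, 1, 0, 1, 1, 1, 0, 1, 0, 1, 1, 0, 1, 1, 0, 1], [0, 1, 0, 1, 0, 1, 1, 1, 0, 1, 1, 1, 0, 1, 1, 0, 1, 0,
    1, 0, 1, 0]]),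
  ([6, 10, 11], .base 0 [0, 2, 0, 3, 0, 3, 0, 3, 0, 3, 0, 3, 0, 2, 0, 2, 0, 2, 0, 3, 0, 3, 0, 2, 0, 2, 0, 2, 2,
    0, 2, 0, 3, 0, 3, 0, 2, 0, 2, 0, 2, 0, 2, 0, 2, 0, 3, 0, 3, 0, 2, 0, 2, 0, 2, 2, 0, 2, 0, 3, 0, 3, 0, 2, 0,
    2, 0, 2] [[0, 1, 1, 0, 1, 1], [1, 1, 0, 1, 0, 1, 0, 1, 0, 1, 1, 0, 1, 0, 1, 0, 1, 0, 1, 0, 1, 1, 1], [1, 0,
    1, 0, 1, 1, 1, 0, 1, 0, 1, 0, 1, 1, 0, 1, 1, 0, 1, 0, 1, 1, 1, 0, 1]]),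
  ([11, 12, 1], .base 0 [2, 0, 2, 0, 3, 0, 3, 0, 3, 0, 3, 0, 3, 0, 2, 2, 0, 2, 0, 3, 0, 3, 0, 2, 0, 2, 0, 2, 0,
    2, 0, 2, 0, 3, 0, 3, 0, 2, 0, 2, 0, 2, 0, 2, 0, 2, 0, 3, 0, 3, 0, 2, 0, 2, 0, 2, 2, 0, 2, 0, 3, 0, 3, 0, 2,
    0, 2, 0, 2] [[1, 0, 1, 0, 1, 1], [0, 1, 0, 1, 0, 1, 0, 1, 1, 0, 1, 1, 0, 1, 0, 1, 0, 1, 0, 1, 1, 0, 1, 1,
    0, 1, 1], [1, 1, 0, 1, 1, 0, 1, 1, 1, 0, 1, 0, 1, 0, 1, 1, 1, 0, 1, 1, 1, 0, 1, 0]]),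
  ([11, 9, 13], .base 0 [2, 0, 2, 0, 3, 0, 3, 0, 3, 0, 3, 0, 3, 0, 2, 2, 0, 2, 0, 3, 0, 3, 0, 2, 0, 2, 0, 2, 2,
    0, 2, 0, 3, 0, 3, 0, 2, 0, 2, 0, 2, 0, 2, 0, 2, 0, 3, 0, 3, 0, 2, 0, 2, 0, 2, 2, 0, 2, 0, 3, 0, 3, 0, 2, 0,
    2, 0, 2] [[1, 1, 0, 1, 1], [0, 1, 1, 1, 0, 1, 0, 1, 0, 1, 1, 0, 1, 0, 1, 1, 1, 0, 1, 1, 0], [0, 1, 1, 0, 1,
    1, 0, 1, 1, 0, 1, 0, 1, 1, 1, 0, 1, 1, 0, 1, 1, 1, 0]]),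
  ([13, 0, 14], .base 0 [2, 0, 2, 0, 3, 0, 2, 0, 3, 0, 2, 0, 2, 0, 3, 0, 3, 0, 2, 0, 2, 0, 3, 0, 2, 0, 2, 0, 3,
    0, 3, 0, 2, 0, 2, 0, 2, 2, 0, 2, 0, 3, 0, 3, 0, 2, 0, 2, 0, 2, 0, 2, 0, 2, 0, 3, 0, 3, 0, 2, 0, 2, 0, 2, 0,
    2, 0, 2, 0, 3, 0, 3, 0, 2, 0, 2, 0, 2, 2, 0, 2, 0, 3, 0, 3, 0, 2, 0, 2, 0, 2] [[0, 1, 1, 0, 1, 0, 1, 1],
    [1, 1, 1, 0, 1, 1, 1, 0, 1, 1, 1, 0, 1, 0, 1, 0, 1, 1, 0, 1, 0, 1, 0], [1, 1, 1, 0, 1, 0, 1, 1, 0, 1, 0, 1,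
    0, 1, 0, 1, 1, 0, 1, 0, 1, 1, 1]]),
  ([1, 14, 15], .base 0 [3, 0, 2, 0, 3, 0, 3, 0, 3, 0, 3, 2, 0, 2, 0, 3, 0, 3, 0, 2, 0, 2, 0, 2, 0, 2, 0, 2, 0,
    3, 0, 3, 0, 2, 0, 2, 0, 2, 0, 2, 0, 2, 0, 3, 0, 3, 0, 2, 0, 2, 0, 2, 2, 0, 2, 0, 3, 0, 3, 0, 2, 0, 2, 0,
    2] [[1, 0, 1, 0, 1, 1], [0, 1, 1, 0, 1, 1, 0, 1, 1, 1, 0, 1, 1, 0, 1, 1, 1, 0, 1, 1, 1, 0, 1], [1, 0, 1, 1,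
    1, 0, 1, 0, 1, 1, 0, 1, 0, 1, 1, 0, 1, 0, 1, 1, 1, 0, 1, 1, 0]]),
  ([10, 14, 2], .base 0 [3, 0, 2, 0, 3, 0, 3, 0, 3, 0, 3, 0, 3, 0, 2, 2, 0, 2, 0, 3, 0, 3, 0, 2, 0, 2, 0, 2, 0,
    2, 0, 2, 0, 3, 0, 3, 0, 2, 0, 2, 0, 2, 0, 2, 0, 2, 0, 3, 0, 3, 0, 2, 0, 2, 0, 2, 2, 0, 2, 0, 3, 0, 3, 0, 2,
    0, 2, 0, 2] [[1, 0, 1, 0, 1, 1], [0, 1, 0, 1, 0, 1, 0, 1, 1, 0, 1, 1, 0, 1, 0, 1, 0, 1, 0, 1, 1, 0, 1, 1,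
    0, 1, 1], [1, 1, 0, 1, 1, 0, 1, 1, 1, 0, 1, 0, 1, 0, 1, 1, 1, 0, 1, 1, 1, 0, 1, 0]]),
  ([0, 0], .base 2 [2, 0, 2, 0, 3, 0, 3, 0, 3, 0, 3] [[], []]),
  ([1, 1], .base 2 [3, 0, 2, 0, 3, 0, 3, 0, 3, 0, 3] [[], []]),
  ([2, 2], .base 2 [0, 2, 0, 3, 0, 3, 0, 3, 0, 3] [[], []]),
  ([0, 1, 2, 0, 1, 2], .rew [(0, 1, [6, 7], 0, 0, false), (1, 2, [8], 1, 0, false), (1, 1, [1, 7], 1, 2,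
    false), (2, 2, [9], 2, 0, false), (0, 1, [10, 11], 3, 2, true), (1, 2, [12], 4, 2, true), (1, 1, [1, 11],
    4, 1, true), (2, 2, [13], 5, 0, false), (2, 1, [14, 0], 6, 0, false), (1, 2, [15], 7, 0, false), (1, 1,
    [14, 1], 7, 2, false), (0, 2, [2], 8, 0, false), (2, 2, [], 9, 0, false), (1, 2, [], 10, 0, false), (0, 2,
    [], 11, 0, false)]),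
  ([3, 0], .base 2 [2, 1, 2, 1, 3, 1, 3, 1, 3, 1, 3] [[], []]),
  ([4, 1], .base 2 [2, 2, 1, 2, 1, 3, 1, 3, 1, 3, 1, 3] [[], []]),
  ([5, 2], .base 2 [1, 2, 1, 3, 1, 3, 1, 3, 1, 3] [[], []]),
  ([3, 4, 5, 3, 4, 5], .rew [(0, 1, [0], 13, 0, false), (1, 1, [1], 14, 0, false), (2, 1, [2], 15, 0, false),
    (3, 1, [0], 13, 0, false), (4, 1, [1], 14, 0, false), (5, 1, [2], 15, 0, false), (0, 6, [], 12, 0, false)]),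
  ([6, 15, 17], .base 0 [0, 2, 0, 3, 0, 3, 0, 3, 0, 3, 0, 3, 0, 2, 2, 0, 2, 0, 3, 0, 3, 0, 2, 0, 2, 0, 2, 2, 0,
    2, 0, 3, 0, 3, 0, 2, 0, 2, 0, 2, 0, 2, 0, 2, 0, 3, 0, 3, 0, 2, 0, 2, 0, 2, 2, 0, 2, 0, 3, 0, 3, 0, 2, 0, 2,
    0, 2] [[1, 1, 0, 1, 1], [0, 1, 1, 1, 0, 1, 0, 1, 0, 1, 1, 0, 1, 0, 1, 1, 1, 0, 1, 1, 0], [0, 1, 1, 0, 1, 1,
    0, 1, 1, 0, 1, 0, 1, 1, 1, 0, 1, 1, 0, 1, 1, 1, 0]]),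
  ([15, 9, 16], .base 0 [0, 2, 0, 3, 0, 2, 0, 2, 0, 2, 0, 2, 0, 3, 0, 3, 0, 2, 0, 2, 0, 2, 0, 2, 0, 2, 0, 2, 0,
    2, 0, 3, 0, 3, 0, 2, 0, 2, 0, 2, 2, 0, 2, 0, 3, 0, 3, 0, 2, 0, 2, 0, 2, 0, 2, 0, 2, 0, 3, 0, 3, 0, 2, 0, 2,
    0, 2, 0, 2, 0, 2, 0, 3, 0, 3, 0, 2, 0, 2, 0, 2, 2, 0, 2, 0, 3, 0, 3, 0, 2, 0, 2, 0, 2] [[0, 1, 1, 0, 1, 0,
    1, 1], [1, 1, 0, 1, 1, 1, 0, 1, 0, 1, 1, 0, 1, 0, 1, 0, 1, 1, 1, 0, 1, 1, 0, 1, 0], [1, 0, 1, 1, 0, 1, 0,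
    1, 1, 1, 0, 1, 1, 0, 1, 1, 0, 1, 1, 1]]),
  ([17, 8, 13], .base 0 [0, 2, 0, 3, 0, 2, 0, 3, 0, 2, 0, 2, 0, 3, 0, 3, 0, 2, 0, 2, 0, 3, 2, 0, 2, 0, 3, 0, 3,
    0, 2, 0, 2, 0, 2, 0, 2, 0, 2, 0, 3, 0, 3, 0, 2, 0, 2, 0, 2, 0, 2, 0, 2, 0, 3, 0, 3, 0, 2, 0, 2, 0, 2, 2, 0,
    2, 0, 3, 0, 3, 0, 2, 0, 2, 0, 2, 0] [[1, 0, 1, 0, 1, 1, 0], [0, 1, 0, 1, 0, 1, 0, 1, 1, 0, 1, 1, 0, 1, 0,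
    1, 1, 1, 0, 1, 0, 1, 0, 1, 0, 1], [1, 0, 1, 1, 1, 0, 1, 1, 0, 1, 0, 1, 1, 0, 1, 0, 1, 0, 1, 1, 0, 1, 0, 1,
    1, 0, 1, 0]]),
  ([14, 0, 13], .base 0 [3, 0, 2, 0, 2, 0, 2, 0, 2, 0, 2, 0, 2, 0, 2, 0, 2, 2, 0, 2, 0, 3, 0, 3, 0, 2, 0, 2, 0,
    2, 2, 0, 2, 0, 3, 0, 3, 0, 2, 0, 2, 0, 2, 2, 0, 2, 0, 3, 0, 3, 0, 2, 0, 2, 0, 2, 0, 2, 0, 2, 0, 3, 0, 3, 0,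
    2, 0, 2, 0, 2, 0, 2, 0, 2, 0, 3, 0, 3, 0, 2, 0, 2, 0, 2, 2, 0, 2, 0, 3, 0, 3, 0, 2, 0, 2, 0, 2] [[1, 1, 1,
    0, 1, 0, 1, 1], [0, 1, 1, 0, 1, 1, 0, 1, 1, 1, 0, 1, 0, 1, 0, 1, 0, 1, 1, 0, 1, 0, 1, 0], [0, 1, 0, 1, 1,
    0, 1, 1, 1, 0, 1, 0, 1, 1, 0, 1, 1, 0, 1, 1, 1, 0, 1, 1, 0, 1]]),
  ([9, 2, 7], .base 0 [2, 0, 2, 0, 3, 0, 2, 0, 2, 0, 2, 0, 2, 0, 3, 0, 3, 0, 2, 0, 2, 0, 2, 0, 2, 0, 2, 2, 0,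
    2, 0, 3, 0, 3, 0, 2, 0, 2, 0, 2, 0, 2, 0, 2, 0, 3, 0, 3, 0, 2, 0, 2, 0, 2, 2, 0, 2, 0, 3, 0, 3, 0, 2, 0, 2,
    0, 2, 2, 0, 2, 0, 3, 0, 3, 0, 2, 0, 2, 0, 2, 0] [[1, 0, 1, 1, 1, 0], [1, 0, 1, 1, 1, 0, 1, 1, 0, 1, 1, 1,
    0, 1, 1, 0, 1, 0, 1, 1, 0, 1, 1, 0], [0, 1, 0, 1, 1, 0, 1, 1, 0, 1, 1, 0, 1, 0, 1, 0, 1, 1, 0, 1, 0, 1, 1,
    0]]),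
  ([8, 1, 7], .base 0 [3, 0, 2, 0, 3, 0, 2, 0, 3, 0, 2, 0, 2, 0, 3, 0, 3, 0, 2, 0, 2, 0, 3, 0, 2, 0, 2, 0, 3,
    0, 3, 0, 2, 0, 2, 0, 2, 2, 0, 2, 0, 3, 0, 3, 0, 2, 0, 2, 0, 2, 0, 2, 0, 2, 0, 3, 0, 3, 0, 2, 0, 2, 0, 2, 0,
    2, 0, 2, 0, 3, 0, 3, 0, 2, 0, 2, 0, 2, 2, 0, 2, 0, 3, 0, 3, 0, 2, 0, 2, 0, 2] [[0, 1, 1, 0, 1, 0, 1, 1],
    [1, 1, 1, 0, 1, 1, 1, 0, 1, 1, 1, 0, 1, 0, 1, 0, 1, 1, 0, 1, 0, 1, 0], [1, 1, 1, 0, 1, 0, 1, 1, 0, 1, 0, 1,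
    0, 1, 0, 1, 1, 0, 1, 0, 1, 1, 1]]),
  ([14, 6, 16, 2, 1, 0], .rew [(1, 1, [17, 15], 17, 0, false), (2, 2, [9], 18, 2, true), (1, 1, [13, 8], 19, 0,
    false), (0, 2, [0], 20, 2, true), (2, 1, [7, 2], 21, 0, false), (1, 2, [1], 22, 2, true), (2, 2, [], 11, 0,
    false), (1, 2, [], 10, 0, false), (0, 2, [], 9, 0, false)]),
  ([18, 14], .base 2 [1, 3, 1, 2, 1, 3, 1, 3, 1, 3, 1, 3, 1, 2, 1, 3, 1, 2, 1, 2, 0, 3, 0, 3, 0, 3, 0, 2, 0, 2,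
    0, 2, 0, 2, 0, 3, 0, 2, 0, 2, 1, 2, 1, 3, 1, 3, 1, 3, 1, 3] [[], [0, 1, 1, 0, 1, 1, 0, 1, 1, 0, 1, 1, 0, 1,
    1, 1, 0, 1, 1, 0, 1, 1, 1, 0, 1, 0]]),
  ([19, 6], .base 2 [1, 3, 1, 2, 1, 3, 1, 3, 1, 3, 1, 3, 1, 2, 1, 3, 1, 2, 1, 2, 0, 3, 0, 3, 0, 3, 0, 2, 0, 2,
    0, 2, 0, 2, 0, 3, 0, 2, 0, 2, 2, 1, 2, 1, 3, 1, 3, 1, 3, 1, 3] [[], [1, 0, 1, 0, 1, 1, 1, 0, 1, 1, 0, 1, 1,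
    0, 1, 1, 1, 0, 1, 1, 1, 0, 1, 1, 1]]),
  ([20, 16], .base 2 [1, 3, 1, 2, 1, 3, 1, 3, 1, 3, 1, 3, 1, 2, 1, 3, 1, 2, 1, 2, 0, 3, 0, 3, 0, 3, 0, 2, 0, 2,
    0, 2, 0, 2, 0, 3, 0, 2, 0, 1, 2, 1, 3, 1, 3, 1, 3, 1, 3] [[], [0, 1, 0, 1, 1, 1, 0, 1, 1, 1, 0, 1, 0, 1, 1,
    0, 1, 1, 0, 1, 1, 0, 1, 0, 1, 1, 1]]),
  ([18, 19, 20, 5, 4, 3], .rew [(0, 1, [14], 24, 0, false), (1, 1, [6], 25, 0, false), (2, 1, [16], 26, 0,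
    false), (3, 1, [2], 15, 0, false), (4, 1, [1], 14, 0, false), (5, 1, [0], 13, 0, false), (0, 6, [], 23, 0,
    false)]),
  ([1, 12, 11], .base 0 [3, 0, 2, 0, 3, 0, 3, 0, 3, 0, 3, 0, 2, 0, 2, 0, 3, 0, 3, 0, 2, 0, 2, 0, 2, 2, 0, 2, 0,
    3, 0, 3, 0, 2, 0, 2, 0, 2, 0, 2, 0, 2, 0, 3, 0, 3, 0, 2, 0, 2, 0, 2, 2, 0, 2, 0, 3, 0, 3, 0, 2, 0, 2, 0,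
    2] [[0, 1, 1, 0, 1, 1], [0, 1, 0, 1, 0, 1, 0, 1, 0, 1, 0, 1, 0, 1, 1, 1, 0, 1, 0, 1, 0, 1, 1], [1, 0, 1, 1,
    0, 1, 0, 1, 0, 1, 1, 0, 1, 1, 0, 1, 0, 1, 1, 0, 1, 1, 1, 0]]),
  ([11, 6, 10], .base 0 [2, 0, 2, 0, 3, 0, 3, 0, 3, 0, 3, 0, 3, 0, 2, 0, 2, 0, 2, 0, 3, 0, 3, 0, 2, 0, 2, 0, 2,
    2, 0, 2, 0, 3, 0, 3, 0, 2, 0, 2, 0, 2, 0, 2, 0, 2, 0, 3, 0, 3, 0, 2, 0, 2, 0, 2, 2, 0, 2, 0, 3, 0, 3, 0, 2,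
    0, 2, 0, 2] [[0, 1, 1, 0, 1, 1], [1, 1, 0, 1, 0, 1, 0, 1, 0, 1, 1, 0, 1, 0, 1, 0, 1, 0, 1, 0, 1, 1, 1], [1,
    0, 1, 0, 1, 1, 1, 0, 1, 0, 1, 0, 1, 1, 0, 1, 1, 0, 1, 0, 1, 1, 1, 0, 1]]),
  ([12, 0, 16], .base 0 [2, 0, 2, 0, 2, 0, 2, 0, 2, 0, 2, 0, 2, 0, 2, 0, 2, 2, 0, 2, 0, 3, 0, 3, 0, 2, 0, 2, 0,
    2, 0, 2, 0, 2, 0, 3, 0, 3, 0, 2, 0, 2, 0, 2, 0, 2, 0, 2, 0, 3, 0, 3, 0, 2, 0, 2, 0, 2, 2, 0, 2, 0, 3, 0, 3,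
    0, 2, 0, 2, 0, 2, 2, 0, 2, 0, 3, 0, 3, 0, 2, 0, 2, 0, 2, 0] [[1, 0, 1, 0, 1, 1, 1, 0], [1, 1, 0, 1, 0, 1,
    0, 1, 0, 1, 0, 1, 1, 1, 0, 1, 0, 1, 1, 0, 1, 1, 0, 1], [0, 1, 0, 1, 0, 1, 1, 1, 0, 1, 1, 1, 0, 1, 1, 0, 1,
    0, 1, 0, 1, 0]]),
  ([16, 8, 10], .base 0 [3, 0, 2, 0, 3, 0, 2, 0, 2, 0, 2, 0, 2, 0, 3, 0, 3, 0, 2, 0, 2, 0, 2, 0, 2, 0, 2, 2, 0,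
    2, 0, 3, 0, 3, 0, 2, 0, 2, 0, 2, 0, 2, 0, 2, 0, 3, 0, 3, 0, 2, 0, 2, 0, 2, 0, 2, 0, 2, 0, 3, 0, 3, 0, 2, 0,
    2, 0, 2, 2, 0, 2, 0, 3, 0, 3, 0, 2, 0, 2, 0, 2, 0] [[1, 0, 1, 0, 1, 1, 0], [0, 1, 1, 1, 0, 1, 1, 0, 1, 1,
    1, 0, 1, 0, 1, 0, 1, 0, 1, 1, 0, 1, 0, 1, 0, 1, 1], [0, 1, 0, 1, 0, 1, 0, 1, 1, 0, 1, 1, 1, 0, 1, 0, 1, 0,
    1, 1, 1, 0, 1, 0, 1]]),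
  ([1, 10, 13, 2, 1, 0], .rew [(0, 1, [12, 11], 28, 2, true), (1, 2, [6], 29, 2, true), (1, 1, [10, 11], 29, 1,
    true), (2, 2, [9], 5, 2, true), (0, 1, [0, 16], 30, 2, true), (1, 2, [8], 31, 2, true), (2, 1, [7, 2], 21,
    0, false), (1, 2, [1], 22, 2, true), (2, 2, [], 11, 0, false), (1, 2, [], 10, 0, false), (0, 2, [], 9, 0,
    false)]),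
  ([21, 1], .base 2 [1, 3, 1, 2, 1, 3, 1, 2, 1, 3, 1, 2, 1, 3, 1, 3, 1, 3, 1, 2, 2, 0, 3, 0, 2, 0, 3, 0, 3, 0,
    3, 0, 3, 0, 2, 0, 2, 0, 3, 0, 2, 1, 2, 1, 3, 1, 3, 1, 3, 1, 3] [[], [0, 1, 1, 0, 1, 0, 1, 1, 1, 0, 1, 0, 1,
    1, 0, 1, 0, 1, 0, 1, 1, 1, 0]]),
  ([22, 10], .base 2 [1, 3, 1, 2, 1, 3, 1, 2, 1, 3, 1, 2, 1, 3, 1, 3, 1, 3, 1, 2, 2, 0, 3, 0, 2, 0, 3, 0, 3, 0,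
    3, 0, 3, 0, 2, 0, 2, 0, 3, 0, 2, 2, 1, 2, 1, 3, 1, 3, 1, 3, 1, 3] [[], [1, 1, 0, 1, 0, 1, 0, 1, 1, 1, 0, 1,
    1, 1, 0, 1, 0, 1, 0, 1, 0, 1, 0, 1, 1]]),
  ([23, 13], .base 2 [1, 3, 1, 2, 1, 3, 1, 2, 1, 3, 1, 2, 1, 3, 1, 3, 1, 3, 1, 2, 2, 0, 3, 0, 2, 0, 3, 0, 3, 0,
    3, 0, 3, 0, 2, 0, 2, 0, 3, 0, 1, 2, 1, 3, 1, 3, 1, 3, 1, 3] [[], [0, 1, 0, 1, 0, 1, 1, 0, 1, 0, 1, 0, 1, 0,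
    1, 0, 1, 0, 1, 1, 1, 0, 1, 0, 1, 0, 1]]),
  ([21, 22, 23, 5, 4, 3], .rew [(0, 1, [1], 33, 0, false), (1, 1, [10], 34, 0, false), (2, 1, [13], 35, 0,
    false), (3, 1, [2], 15, 0, false), (4, 1, [1], 14, 0, false), (5, 1, [0], 13, 0, false), (0, 6, [], 32, 0,
    false)]),
  ([24, 28, 27], .base 0 [0, 2, 0, 2, 0, 3, 0, 3, 0, 2, 0, 2, 0, 2, 0, 2, 0, 2, 0, 3, 0, 3, 0, 2, 0, 2, 0, 2,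
    2, 0, 2, 0, 3, 0, 3, 0, 2, 0, 2, 0, 2, 2, 0, 2, 0, 3, 0, 3, 0, 2, 0, 2, 0, 2, 0] [[0, 1, 0, 1, 1, 1, 0],
    [0, 1, 1, 1, 0, 1, 0, 1, 0, 1, 1, 0, 1, 1, 0, 1, 0, 1, 0, 1, 0, 1, 1, 1], [0, 1, 1, 1, 0, 1, 1, 1, 0, 1, 0,
    1, 1, 1, 0, 1, 0, 1, 1, 1, 0, 1, 1, 1, 0]]),
  ([28, 26, 29], .base 0 [0, 3, 0, 3, 0, 2, 0, 3, 0, 3, 0, 2, 0, 3, 0, 2, 0, 2, 0, 2, 0, 2, 0, 3, 0, 3, 0, 2,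
    0, 2, 0, 2, 0, 2, 0, 2, 0, 3, 0, 3, 0, 2, 0, 2, 0, 2, 2, 0, 2, 0, 3, 0, 3, 0, 2, 0, 2, 0, 2] [[0, 1, 0, 1,
    1], [0, 1, 1, 0, 1, 0, 1, 1, 0, 1, 1, 1, 0, 1, 0, 1, 1, 0, 1, 1, 0, 1, 1, 0], [0, 1, 0, 1, 1, 0, 1, 1, 1,
    0, 1, 1, 0, 1, 0, 1, 0, 1, 1, 0, 1]]),
  ([27, 30, 31], .base 0 [2, 0, 2, 0, 2, 0, 3, 0, 2, 0, 3, 0, 2, 0, 2, 0, 2, 0, 2, 0, 3, 0, 3, 0, 2, 0, 2, 0,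
    2, 0, 2, 0, 2, 0, 3, 0, 3, 0, 2, 0, 2, 0, 2, 2, 0, 2, 0, 3, 0, 3, 0, 2, 0, 2, 0, 2, 2, 0, 2, 0, 3, 0, 3, 0,
    2, 0, 2, 0, 2, 0] [[0, 1, 0, 1, 1, 1, 0], [1, 0, 1, 0, 1, 0, 1, 0, 1, 0, 1, 1, 0, 1, 1, 1, 0, 1, 0, 1, 1,
    1, 0, 1, 0, 1, 1, 0, 1], [0, 1, 1, 0, 1, 1, 0, 1, 1, 1, 0, 1, 1, 0, 1, 1, 0, 1, 1, 0, 1, 0, 1, 0, 1]])
]

/-- Relations with proofs, part 1. -/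
def items1_1 : List (List ℕ × Prf) := [
  ([31, 32, 29], .base 0 [2, 0, 2, 0, 3, 0, 3, 0, 2, 0, 3, 0, 3, 0, 2, 2, 0, 2, 0, 3, 0, 3, 0, 2, 0, 2, 0, 2,
    2, 0, 2, 0, 3, 0, 3, 0, 2, 0, 2, 0, 2, 0, 2, 0, 2, 0, 3, 0, 3, 0, 2, 0, 2, 0, 2, 2, 0, 2, 0, 3, 0, 3, 0, 2,
    0, 2, 0, 2] [[1, 1, 0, 1, 1], [1, 0, 1, 1, 1, 0, 1, 1, 1, 0, 1, 0, 1, 0, 1, 0, 1, 1, 1, 0, 1, 1, 1], [1, 0,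
    1, 0, 1, 1, 1, 0, 1, 1, 1, 0, 1, 0, 1, 1, 1, 0, 1, 0, 1, 1, 0, 1, 0, 1]]),
  ([30, 33, 26], .base 0 [2, 0, 3, 0, 2, 0, 3, 0, 3, 0, 3, 0, 2, 0, 2, 0, 2, 0, 3, 0, 2, 0, 2, 0, 3, 0, 3, 0,
    2, 0, 2, 0, 2, 0, 2, 0, 2, 0, 3, 0, 3, 0, 2, 0, 2, 0, 2, 2, 0, 2, 0, 3, 0, 3, 0, 2, 0, 2, 0, 2, 2, 0, 2, 0,
    3, 0, 3, 0, 2, 0, 2, 0, 2, 0] [[0, 1, 0, 1, 1, 1, 0], [0, 1, 0, 1, 0, 1, 1, 0, 1, 1, 1, 0, 1, 0, 1, 1, 1,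
    0, 1, 1, 1, 0, 1, 1, 0, 1, 0], [0, 1, 1, 0, 1, 0, 1, 1, 1, 0, 1, 1, 1, 0, 1, 0, 1, 0, 1, 1, 1, 0, 1, 1]]),
  ([33, 24, 32], .base 0 [2, 0, 2, 0, 2, 0, 3, 0, 2, 0, 3, 0, 2, 0, 2, 0, 2, 0, 3, 0, 2, 0, 2, 0, 3, 0, 3, 0,
    2, 0, 2, 0, 2, 2, 0, 2, 0, 3, 0, 3, 0, 2, 0, 2, 0, 2, 0, 2, 0, 2, 0, 3, 0, 3, 0, 2, 0, 2, 0, 2, 0, 2, 0, 2,
    0, 3, 0, 3, 0, 2, 0, 2, 0, 2, 2, 0, 2, 0, 3, 0, 3, 0, 2, 0, 2, 0, 2] [[0, 1, 1, 0, 1, 0, 1, 1], [0, 1, 1,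
    1, 0, 1, 1, 0, 1, 1, 0, 1, 1, 1, 0, 1, 1, 1, 0, 1, 0, 1], [0, 1, 0, 1, 0, 1, 1, 1, 0, 1, 0, 1, 1, 1, 0, 1,
    1, 1, 0, 1, 1, 1]]),
  ([25, 28, 34], .base 0 [0, 3, 0, 3, 0, 2, 0, 2, 0, 2, 0, 3, 0, 3, 0, 2, 0, 3, 0, 3, 0, 2, 0, 2, 0, 2, 0, 3,
    0, 3, 0, 2, 0, 2, 0, 2, 2, 0, 2, 0, 3, 0, 3, 0, 2, 0, 2, 0, 2, 0, 2, 0, 2, 0, 3, 0, 3, 0, 2, 0, 2, 0, 2, 0,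
    2, 0, 2, 0, 3, 0, 3, 0, 2, 0, 2, 0, 2, 2, 0, 2, 0, 3, 0, 3, 0, 2, 0, 2, 0, 2] [[0, 1, 1, 0, 1, 0, 1, 1],
    [0, 1, 0, 1, 0, 1, 1, 0, 1, 1, 1, 0, 1, 1, 1, 0, 1, 0], [1, 0, 1, 0, 1, 1, 1, 0, 1, 1, 0, 1, 1, 0, 1, 1, 0,
    1, 0, 1, 0, 1, 1, 1, 0, 1]]),
  ([34, 30, 35], .base 0 [3, 0, 2, 0, 3, 0, 3, 0, 2, 0, 2, 0, 2, 0, 3, 0, 3, 0, 3, 0, 3, 0, 3, 0, 2, 2, 0, 2,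
    0, 3, 0, 3, 0, 2, 0, 2, 0, 2, 2, 0, 2, 0, 3, 0, 3, 0, 2, 0, 2, 0, 2, 0, 2, 0, 2, 0, 3, 0, 3, 0, 2, 0, 2, 0,
    2, 0, 2, 0, 2, 0, 3, 0, 3, 0, 2, 0, 2, 0, 2, 2, 0, 2, 0, 3, 0, 3, 0, 2, 0, 2, 0, 2] [[1, 1, 0, 1, 0, 1, 1],
    [0, 1, 0, 1, 0, 1, 1, 1, 0, 1, 1, 0, 1, 1, 0, 1, 1, 0, 1, 1, 1, 0, 1, 1, 0, 1, 0, 1, 1], [1, 0, 1, 1, 1, 0,
    1, 0, 1, 1, 0, 1, 0, 1, 1, 0, 1, 1, 1, 0, 1, 0, 1, 1, 1, 0, 1]]),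
  ([35, 36, 24], .base 0 [3, 0, 2, 0, 2, 0, 2, 0, 3, 0, 2, 0, 3, 0, 3, 0, 3, 0, 2, 2, 0, 2, 0, 3, 0, 3, 0, 2,
    0, 2, 0, 2, 2, 0, 2, 0, 3, 0, 3, 0, 2, 0, 2, 0, 2, 0, 2, 0, 2, 0, 3, 0, 3, 0, 2, 0, 2, 0, 2, 0, 2, 0, 2, 0,
    3, 0, 3, 0, 2, 0, 2, 0, 2, 2, 0, 2, 0, 3, 0, 3, 0, 2, 0, 2, 0, 2] [[1, 1, 0, 1, 0, 1, 1], [0, 1, 0, 1, 1,
    1, 0, 1, 1, 0, 1, 1, 1, 0, 1, 0, 1, 0, 1, 1, 1, 0, 1, 0, 1], [1, 1, 1, 0, 1, 0, 1, 1, 1, 0, 1, 1, 0, 1, 1,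
    0, 1, 1, 1, 0, 1]]),
  ([31, 36, 25], .base 0 [2, 0, 2, 0, 3, 0, 3, 0, 2, 0, 3, 0, 3, 0, 2, 2, 0, 2, 0, 3, 0, 3, 0, 2, 0, 2, 0, 2,
    0, 2, 0, 2, 0, 3, 0, 3, 0, 2, 0, 2, 0, 2, 0, 2, 0, 2, 0, 3, 0, 3, 0, 2, 0, 2, 0, 2, 2, 0, 2, 0, 3, 0, 3, 0,
    2, 0, 2, 0, 2] [[1, 0, 1, 0, 1, 1], [1, 0, 1, 0, 1, 0, 1, 1, 1, 0, 1, 1, 1, 0, 1, 1, 0, 1, 1, 1, 0, 1], [0,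
    1, 0, 1, 0, 1, 0, 1, 1, 0, 1, 0, 1, 1, 0, 1, 1, 0, 1, 0, 1, 1, 1, 0, 1, 1, 0, 1]]),
  ([24, 24], .base 2 [] [[], []]),
  ([26, 26], .base 2 [0, 2, 0, 3] [[], []]),
  ([25, 25], .base 2 [0, 3, 0, 3, 0, 2, 0, 2, 0, 2, 0, 3, 0, 3, 0, 2, 0, 3, 0, 3, 0, 2] [[], []]),
  ([24, 25, 24, 26, 24, 26, 24, 25], .rew [(2, 1, [27, 28], 37, 0, false), (3, 2, [29], 38, 0, false), (2, 1,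
    [30, 31], 39, 2, true), (3, 2, [32], 40, 2, true), (2, 1, [26, 33], 41, 0, false), (3, 2, [24], 42, 2,
    true), (1, 1, [28, 34], 43, 2, true), (0, 2, [27], 37, 0, false), (1, 1, [30, 35], 44, 2, true), (0, 2,
    [31], 39, 0, false), (1, 1, [36, 24], 45, 2, true), (0, 2, [25], 46, 0, false), (3, 2, [], 47, 0, false),
    (2, 2, [], 48, 0, false), (1, 2, [], 47, 0, false), (0, 2, [], 49, 0, false)]),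
  ([37, 24], .base 2 [] [[], []]),
  ([38, 25], .base 2 [2, 0, 2, 0, 3, 0, 3, 0, 3, 0, 2, 0, 2, 0, 3, 0, 2, 1, 2, 1, 3, 1, 3, 1, 3, 1, 3] [[], [1,
    0, 1, 0, 1, 0, 1, 0, 1, 1, 0, 1, 1, 0, 1, 1, 0, 1, 0, 1, 0, 1, 1, 0]]),
  ([39, 24], .base 2 [2, 0, 2, 0, 3, 0, 3, 0, 3, 0, 2, 0, 2, 0, 3, 0, 2, 2, 1, 2, 1, 3, 1, 3, 1, 3, 1, 3] [[],
    [0, 1, 0, 1, 1, 0, 1, 1, 0, 1, 1, 1, 0, 1, 1, 0, 1, 0, 1, 1, 0, 1, 1, 0]]),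
  ([40, 26], .base 2 [2, 0, 2, 0, 3, 0, 3, 0, 3, 0, 2, 0, 2, 0, 3, 0, 1, 2, 1, 3, 1, 3, 1, 3, 1, 3] [[], [1, 1,
    1, 0, 1]]),
  ([37, 38, 39, 40, 37, 40, 39, 38], .rew [(0, 1, [24], 51, 0, false), (1, 1, [25], 52, 0, false), (2, 1, [24],
    53, 0, false), (3, 1, [26], 54, 0, false), (4, 1, [24], 51, 0, false), (5, 1, [26], 54, 0, false), (6, 1,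
    [24], 53, 0, false), (7, 1, [25], 52, 0, false), (0, 8, [], 50, 0, false)]),
  ([24, 41, 44], .base 0 [0, 2, 0, 2, 0, 3, 0, 3, 0, 2, 0, 2, 0, 2, 0, 2, 0, 2, 0, 3, 0, 3, 0, 2, 0, 2, 0, 2,
    2, 0, 2, 0, 3, 0, 3, 0, 2, 0, 2, 0, 2, 0, 2, 0, 2, 0, 3, 0, 3, 0, 2, 0, 2, 0, 2, 2, 0, 2, 0, 3, 0, 3, 0, 2,
    0, 2, 0, 2, 0] [[0, 1, 0, 1, 1, 0, 1, 1, 0], [0, 1, 0, 1, 0, 1, 1, 0, 1, 1, 1, 0, 1, 1, 1, 0, 1, 0, 1, 0,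
    1, 1, 0, 1, 0], [1, 0, 1, 0, 1, 0, 1, 1, 1, 0, 1, 0, 1, 1, 1, 0, 1]]),
  ([24, 42, 45], .base 0 [2, 0, 2, 0, 3, 0, 3, 0, 2, 0, 2, 0, 2, 2, 0, 2, 0, 3, 0, 3, 0, 2, 0, 2, 0, 2, 2, 0,
    2, 0, 3, 0, 3, 0, 2, 0, 2, 0, 2] [[1, 1, 1], [0, 1, 1, 0, 1, 0, 1, 0, 1, 0, 1, 0, 1, 0, 1, 1, 1, 0, 1, 1,
    0, 1, 0, 1, 1], [1, 1, 1, 0, 1, 1, 0, 1, 0, 1, 1, 0, 1, 0, 1, 1, 0, 1, 1, 0, 1, 0, 1, 1, 0, 1]]),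
  ([24, 46, 43], .base 0 [0, 2, 0, 2, 0, 3, 0, 3, 0, 2, 0, 2, 0, 2, 0, 2, 0, 2, 0, 3, 0, 3, 0, 2, 0, 2, 0, 2,
    2, 0, 2, 0, 3, 0, 3, 0, 2, 0, 2, 0, 2, 2, 0, 2, 0, 3, 0, 3, 0, 2, 0, 2, 0, 2, 0, 2, 0, 2, 0, 3, 0, 3, 0, 2,
    0, 2, 0, 2, 0] [[0, 1, 0, 1, 1, 1, 0, 1, 0], [1, 1, 0, 1, 0, 1, 0, 1, 1, 0, 1, 1, 0, 1, 1, 0, 1, 1, 0, 1,
    1], [0, 1, 0, 1, 1, 0, 1, 1, 1, 0, 1, 1, 0, 1, 0, 1, 0, 1, 0, 1, 0]]),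
  ([43, 43], .base 2 [2, 0, 3, 0, 3, 0, 2, 0, 3, 0, 3, 0, 3, 0, 3, 0, 2, 0, 2, 0, 2, 0, 2] [[], []]),
  ([42, 42], .base 2 [2, 0, 2, 0, 3, 0, 3, 0, 3, 0, 3, 0, 2, 0, 3, 0, 2, 0, 2] [[], []]),
  ([41, 41], .base 2 [2, 0, 3, 0, 2, 0, 2, 0, 2, 0, 2, 0, 2, 0, 3, 0, 2, 0, 2, 0, 2, 0, 3] [[], []]),
  ([24, 41, 42, 43, 24, 43, 42, 41], .rew [(0, 2, [44], 56, 0, false), (0, 1, [41, 24], 56, 2, false), (1, 2,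
    [45], 57, 0, false), (1, 1, [42, 24], 57, 2, false), (2, 2, [46], 58, 2, true), (2, 1, [43, 24], 58, 1,
    true), (3, 2, [], 47, 0, false), (2, 2, [], 59, 0, false), (1, 2, [], 60, 0, false), (0, 2, [], 61, 0,
    false)]),
  ([47, 41], .base 2 [2, 0, 3, 0, 3, 0, 2, 0, 3, 0, 3, 0, 3, 0, 3, 0, 3, 0, 3, 0, 2, 0, 3, 0, 2, 1, 2, 1, 3, 1,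
    3, 1, 3, 1, 3] [[], [0, 1, 0, 1, 1, 1, 0, 1, 1, 0, 1, 0, 1, 1, 0, 1, 0, 1, 0, 1, 1, 0, 1, 0, 1, 0]]),
  ([48, 42], .base 2 [2, 0, 3, 0, 3, 0, 2, 0, 3, 0, 3, 0, 3, 0, 3, 0, 3, 0, 3, 0, 2, 0, 3, 0, 2, 2, 1, 2, 1, 3,
    1, 3, 1, 3, 1, 3] [[], [1, 0, 1, 1, 0, 1, 0, 1, 0, 1, 1, 1, 0, 1, 1, 0, 1, 1, 1, 0]]),
  ([49, 43], .base 2 [2, 0, 3, 0, 3, 0, 2, 0, 3, 0, 3, 0, 3, 0, 3, 0, 3, 0, 3, 0, 2, 0, 3, 0, 1, 2, 1, 3, 1, 3,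
    1, 3, 1, 3] [[], [1, 1, 1]]),
  ([37, 47, 48, 49, 37, 49, 48, 47], .rew [(0, 1, [24], 51, 0, false), (1, 1, [41], 63, 0, false), (2, 1, [42],
    64, 0, false), (3, 1, [43], 65, 0, false), (4, 1, [24], 51, 0, false), (5, 1, [43], 65, 0, false), (6, 1,
    [42], 64, 0, false), (7, 1, [41], 63, 0, false), (0, 8, [], 62, 0, false)]),
  ([24, 53, 52], .base 0 [2, 0, 2, 0, 3, 0, 3, 0, 2, 0, 2, 0, 2, 2, 0, 2, 0, 3, 0, 3, 0, 2, 0, 2, 0, 2, 0, 2,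
    0, 2, 0, 3, 0, 3, 0, 2, 0, 2, 0, 2, 0, 2, 0, 2, 0, 3, 0, 3, 0, 2, 0, 2, 0, 2, 2, 0, 2, 0, 3, 0, 3, 0, 2, 0,
    2, 0, 2, 2, 0, 2, 0, 3, 0, 3, 0, 2, 0, 2, 0, 2, 0] [[1, 1, 0, 1, 0, 1, 1, 1, 0], [1, 0, 1, 1, 0, 1, 1, 1,
    0, 1, 0, 1, 0, 1, 0, 1, 1, 1, 0], [0, 1, 1, 1, 0, 1, 1, 1, 0, 1, 0, 1, 1, 1, 0, 1, 0, 1, 1, 1, 0, 1, 1, 1,
    0]]),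
  ([53, 50, 54], .base 0 [2, 0, 3, 0, 2, 2, 0, 2, 0, 3, 0, 3, 0, 2, 0, 2, 0, 2, 2, 0, 2, 0, 3, 0, 3, 0, 2, 0,
    2, 0, 2, 2, 0, 2, 0, 3, 0, 3, 0, 2, 0, 2, 0, 2, 0, 2, 0, 2, 0, 3, 0, 3, 0, 2, 0, 2, 0, 2, 2, 0, 2, 0, 3, 0,
    3, 0, 2, 0, 2, 0, 2] [[1, 1, 1, 0, 1, 1], [1, 1, 0, 1, 0, 1, 1, 0, 1, 1, 1, 0, 1, 0, 1, 1, 0, 1, 1, 0, 1,
    1], [1, 1, 0, 1, 0, 1, 0, 1, 0, 1, 0, 1, 1, 1, 0, 1, 0, 1, 1, 1, 0, 1, 0, 1, 1, 0]]),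
  ([52, 56, 55], .base 0 [3, 0, 2, 0, 3, 0, 2, 0, 3, 0, 3, 0, 3, 0, 2, 0, 2, 0, 2, 0, 3, 0, 3, 0, 2, 0, 2, 0,
    2, 0, 2, 0, 2, 0, 3, 0, 3, 0, 2, 0, 2, 0, 2, 2, 0, 2, 0, 3, 0, 3, 0, 2, 0, 2, 0, 2, 2, 0, 2, 0, 3, 0, 3, 0,
    2, 0, 2, 0, 2, 0] [[0, 1, 0, 1, 1, 1, 0], [1, 1, 1, 0, 1, 0, 1, 1, 0, 1, 0, 1, 0, 1, 0, 1, 1, 0, 1, 0, 1,
    0, 1, 1, 1], [0, 1, 0, 1, 0, 1, 0, 1, 0, 1, 1, 0, 1, 1, 0, 1, 0, 1, 0, 1]]),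
  ([56, 57, 54], .base 0 [3, 0, 2, 0, 2, 0, 2, 0, 3, 0, 3, 0, 3, 0, 3, 0, 3, 0, 2, 2, 0, 2, 0, 3, 0, 3, 0, 2,
    0, 2, 0, 2, 2, 0, 2, 0, 3, 0, 3, 0, 2, 0, 2, 0, 2, 2, 0, 2, 0, 3, 0, 3, 0, 2, 0, 2, 0, 2, 0, 2, 0, 2, 0, 3,
    0, 3, 0, 2, 0, 2, 0, 2, 2, 0, 2, 0, 3, 0, 3, 0, 2, 0, 2, 0, 2] [[1, 1, 1, 0, 1, 1], [0, 1, 0, 1, 1, 0, 1,
    0, 1, 1, 0, 1, 1, 1, 0, 1, 1, 1, 0, 1, 1, 1, 0, 1, 1, 0], [1, 1, 0, 1, 0, 1, 1, 1, 0, 1, 0, 1, 1, 1, 0, 1,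
    1]]),
  ([56, 58, 51], .base 0 [3, 0, 2, 0, 2, 0, 2, 0, 3, 0, 3, 0, 3, 0, 3, 0, 3, 0, 2, 0, 2, 0, 2, 0, 3, 0, 3, 0,
    2, 0, 2, 0, 2, 0, 2, 0, 2, 0, 3, 0, 3, 0, 2, 0, 2, 0, 2, 2, 0, 2, 0, 3, 0, 3, 0, 2, 0, 2, 0, 2, 2, 0, 2, 0,
    3, 0, 3, 0, 2, 0, 2, 0, 2, 0] [[0, 1, 0, 1, 1, 1, 0], [0, 1, 1, 1, 0, 1, 1, 0, 1, 1, 0, 1, 1, 0, 1, 0, 1,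
    1, 1], [1, 1, 0, 1, 1, 1, 0, 1, 1, 1, 0, 1, 1, 1, 0, 1, 1, 0, 1, 1, 0, 1, 1, 1, 0]]),
  ([54, 59, 60], .base 0 [2, 0, 3, 0, 3, 0, 2, 0, 2, 0, 3, 0, 2, 0, 3, 0, 2, 0, 2, 0, 2, 0, 3, 2, 0, 2, 0, 3,
    0, 3, 0, 2, 0, 2, 0, 2, 0, 2, 0, 2, 0, 3, 0, 3, 0, 2, 0, 2, 0, 2, 2, 0, 2, 0, 3, 0, 3, 0, 2, 0, 2, 0, 2, 2,
    0, 2, 0, 3, 0, 3, 0, 2, 0, 2, 0, 2, 0] [[1, 0, 1, 1, 1, 0], [1, 0, 1, 1, 1, 0, 1, 0, 1, 1, 0, 1, 1, 1, 0,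
    1, 0, 1, 0, 1, 1, 0, 1, 1], [1, 0, 1, 1, 0, 1, 0, 1, 0, 1, 1, 0, 1, 1, 0, 1, 0, 1, 1, 1, 0, 1, 0, 1, 0,
    1]]),
  ([60, 24, 58], .base 0 [2, 0, 3, 0, 2, 0, 2, 0, 3, 0, 2, 0, 2, 0, 3, 0, 3, 0, 2, 0, 2, 0, 2, 2, 0, 2, 0, 3,
    0, 3, 0, 2, 0, 2, 0, 2, 0, 2, 0, 2, 0, 3, 0, 3, 0, 2, 0, 2, 0, 2, 0, 2, 0, 2, 0, 3, 0, 3, 0, 2, 0, 2, 0, 2,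
    2, 0, 2, 0, 3, 0, 3, 0, 2, 0, 2, 0, 2] [[0, 1, 1, 0, 1, 0, 1, 1], [1, 1, 0, 1, 1, 1, 0, 1, 1, 1, 0, 1, 0,
    1, 0, 1, 1, 0, 1, 0, 1, 0], [0, 1, 1, 1, 0, 1, 0, 1, 0, 1, 0, 1, 0, 1, 1, 0, 1, 1, 1, 0, 1, 0, 1, 0, 1,
    1]]),
  ([59, 61, 51], .base 0 [0, 3, 0, 2, 0, 2, 0, 2, 0, 3, 0, 3, 0, 3, 0, 2, 2, 0, 2, 0, 3, 0, 3, 0, 2, 0, 2, 0,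
    2, 0, 2, 0, 2, 0, 3, 0, 3, 0, 2, 0, 2, 0, 2, 2, 0, 2, 0, 3, 0, 3, 0, 2, 0, 2, 0, 2] [[1, 0, 1, 1], [1, 0,
    1, 1, 0, 1, 0, 1, 0, 1, 1, 0, 1, 1, 0, 1, 0, 1, 1, 0, 1, 1, 0, 1, 1], [1, 0, 1, 1, 0, 1, 1, 0, 1, 0, 1, 1,
    0, 1, 0, 1, 0, 1, 1, 1, 0, 1, 0, 1, 1]]),
  ([55, 61, 50], .base 0 [3, 0, 2, 0, 2, 0, 2, 0, 3, 0, 3, 0, 3, 0, 2, 0, 2, 0, 2, 0, 3, 0, 3, 0, 2, 0, 2, 0,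
    2, 0, 2, 0, 2, 0, 3, 0, 3, 0, 2, 0, 2, 0, 2, 2, 0, 2, 0, 3, 0, 3, 0, 2, 0, 2, 0, 2] [[0, 1, 0, 1, 1], [1,
    0, 1, 0, 1, 0, 1, 0, 1, 1, 0, 1, 0, 1, 1, 1, 0, 1, 0, 1, 0, 1, 0], [1, 1, 0, 1, 1, 1, 0, 1, 1, 1, 0, 1, 1,
    0, 1, 1, 1, 0, 1, 1, 0, 1, 1, 0]]),
  ([51, 51], .base 2 [3, 0, 3, 0, 3, 0, 2, 0, 2, 0, 3, 0, 2, 0, 2] [[], []]),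
  ([50, 50], .base 2 [0, 2, 0, 3, 0, 3, 0, 2, 0, 2, 0, 3, 0, 2, 0, 3, 0, 2, 0, 2, 0, 2, 0, 3] [[], []]),
  ([24, 50, 51, 24, 24, 24, 51, 50], .rew [(0, 1, [52, 53], 67, 0, false), (1, 2, [54], 68, 0, false), (0, 1,
    [55, 56], 69, 0, false), (1, 2, [57], 70, 2, true), (1, 1, [54, 56], 70, 1, true), (2, 2, [58], 71, 2,
    true), (1, 1, [59, 60], 72, 2, true), (2, 2, [24], 73, 2, true), (1, 1, [61, 51], 74, 2, true), (0, 2,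
    [50], 75, 0, false), (2, 2, [], 47, 0, false), (2, 2, [], 47, 0, false), (1, 2, [], 76, 0, false), (0, 2,
    [], 77, 0, false)]),
  ([62, 50], .base 2 [3, 0, 3, 0, 3, 0, 2, 0, 3, 0, 2, 0, 3, 0, 2, 1, 2, 1, 3, 1, 3, 1, 3, 1, 3] [[], [0, 1, 0,
    1, 0, 1, 0, 1, 1, 1, 0, 1, 1, 1, 0, 1, 0, 1, 1, 0, 1]])
]

/-- Relations with proofs, part 2. -/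
def items1_2 : List (List ℕ × Prf) := [
  ([63, 51], .base 2 [3, 0, 3, 0, 3, 0, 2, 0, 3, 0, 2, 0, 3, 0, 2, 2, 1, 2, 1, 3, 1, 3, 1, 3, 1, 3] [[], [0, 1,
    1, 0, 1, 0, 1, 0, 1, 0, 1, 0, 1, 0, 1, 1, 1, 0, 1, 1, 0, 1, 0]]),
  ([64, 24], .base 2 [3, 0, 3, 0, 3, 0, 2, 0, 3, 0, 2, 0, 3, 0, 1, 2, 1, 3, 1, 3, 1, 3, 1, 3] [[], [1, 1, 1]]),
  ([37, 62, 63, 64, 37, 64, 63, 62], .rew [(0, 1, [24], 51, 0, false), (1, 1, [50], 79, 0, false), (2, 1, [51],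
    80, 0, false), (3, 1, [24], 81, 0, false), (4, 1, [24], 51, 0, false), (5, 1, [24], 81, 0, false), (6, 1,
    [51], 80, 0, false), (7, 1, [50], 79, 0, false), (0, 8, [], 78, 0, false)]),
  ([24, 68, 67], .base 0 [2, 0, 2, 0, 3, 0, 3, 0, 2, 0, 2, 0, 2, 0, 2, 0, 2, 0, 3, 0, 3, 0, 2, 0, 2, 0, 2, 2,
    0, 2, 0, 3, 0, 3, 0, 2, 0, 2, 0, 2, 2, 0, 2, 0, 3, 0, 3, 0, 2, 0, 2, 0, 2, 0] [[1, 0, 1, 1, 1, 0], [0, 1,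
    1, 1, 0, 1, 0, 1, 0, 1, 1, 0, 1, 1, 0, 1, 0, 1, 0, 1, 0, 1, 1, 1], [0, 1, 1, 1, 0, 1, 1, 1, 0, 1, 0, 1, 1,
    1, 0, 1, 0, 1, 1, 1, 0, 1, 1, 1, 0]]),
  ([68, 66, 69], .base 0 [3, 0, 3, 0, 2, 0, 3, 0, 3, 0, 2, 0, 3, 0, 2, 0, 2, 0, 2, 0, 2, 0, 3, 0, 3, 0, 2, 0,
    2, 0, 2, 0, 2, 0, 2, 0, 3, 0, 3, 0, 2, 0, 2, 0, 2, 2, 0, 2, 0, 3, 0, 3, 0, 2, 0, 2, 0, 2] [[0, 1, 0, 1, 1],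
    [0, 1, 1, 0, 1, 0, 1, 1, 0, 1, 1, 1, 0, 1, 0, 1, 1, 0, 1, 1, 0, 1, 1, 0], [0, 1, 0, 1, 1, 0, 1, 1, 1, 0, 1,
    1, 0, 1, 0, 1, 0, 1, 1, 0, 1]]),
  ([67, 70, 71], .base 0 [0, 2, 0, 2, 0, 2, 0, 3, 0, 2, 0, 3, 0, 2, 0, 2, 0, 2, 0, 2, 0, 3, 0, 3, 0, 2, 0, 2,
    0, 2, 0, 2, 0, 2, 0, 3, 0, 3, 0, 2, 0, 2, 0, 2, 2, 0, 2, 0, 3, 0, 3, 0, 2, 0, 2, 0, 2, 2, 0, 2, 0, 3, 0, 3,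
    0, 2, 0, 2, 0, 2, 0] [[0, 1, 0, 1, 1, 1, 0], [1, 0, 1, 0, 1, 0, 1, 0, 1, 0, 1, 1, 0, 1, 1, 1, 0, 1, 0, 1,
    1, 1, 0, 1, 0, 1, 1, 0, 1], [0, 1, 1, 0, 1, 1, 0, 1, 1, 1, 0, 1, 1, 0, 1, 1, 0, 1, 1, 0, 1, 0, 1, 0, 1]]),
  ([71, 72, 69], .base 0 [0, 2, 0, 2, 0, 3, 0, 3, 0, 2, 0, 3, 0, 3, 0, 2, 2, 0, 2, 0, 3, 0, 3, 0, 2, 0, 2, 0,
    2, 2, 0, 2, 0, 3, 0, 3, 0, 2, 0, 2, 0, 2, 0, 2, 0, 2, 0, 3, 0, 3, 0, 2, 0, 2, 0, 2, 2, 0, 2, 0, 3, 0, 3, 0,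
    2, 0, 2, 0, 2] [[1, 1, 0, 1, 1], [1, 0, 1, 1, 1, 0, 1, 1, 1, 0, 1, 0, 1, 0, 1, 0, 1, 1, 1, 0, 1, 1, 1], [1,
    0, 1, 0, 1, 1, 1, 0, 1, 1, 1, 0, 1, 0, 1, 1, 1, 0, 1, 0, 1, 1, 0, 1, 0, 1]]),
  ([70, 73, 66], .base 0 [0, 2, 0, 3, 0, 2, 0, 3, 0, 3, 0, 3, 0, 2, 0, 2, 0, 2, 0, 3, 0, 2, 0, 2, 0, 3, 0, 3,
    0, 2, 0, 2, 0, 2, 0, 2, 0, 2, 0, 3, 0, 3, 0, 2, 0, 2, 0, 2, 2, 0, 2, 0, 3, 0, 3, 0, 2, 0, 2, 0, 2, 2, 0, 2,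
    0, 3, 0, 3, 0, 2, 0, 2, 0, 2, 0] [[0, 1, 0, 1, 1, 1, 0], [0, 1, 0, 1, 0, 1, 0, 1, 0, 1, 1, 0, 1, 1, 0, 1,
    0, 1, 1, 1, 0, 1, 1, 1], [0, 1, 1, 0, 1, 0, 1, 1, 1, 0, 1, 1, 1, 0, 1, 0, 1, 0, 1, 1, 1, 0, 1, 1]]),
  ([73, 24, 72], .base 0 [3, 0, 3, 0, 3, 0, 3, 0, 3, 0, 3, 0, 2, 0, 3, 0, 2, 0, 2, 0, 2, 0, 2, 0, 3, 0, 3, 0,
    2, 0, 2, 0, 2, 0, 2, 0, 2, 0, 3, 0, 3, 0, 2, 0, 2, 0, 2, 2, 0, 2, 0, 3, 0, 3, 0, 2, 0, 2, 0, 2] [[0, 1, 0,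
    1, 1], [1, 0, 1, 1, 0, 1, 1, 1, 0, 1, 1, 1, 0, 1, 0, 1, 0, 1, 1, 0, 1, 0, 1], [1, 0, 1, 1, 1, 0, 1, 1, 0,
    1, 1, 0, 1, 1, 0, 1, 1, 1, 0, 1, 1, 0, 1, 0, 1, 1]]),
  ([65, 68, 74], .base 0 [3, 0, 3, 0, 2, 0, 2, 0, 2, 0, 3, 0, 3, 0, 2, 0, 3, 0, 3, 0, 2, 0, 2, 0, 2, 0, 3, 0,
    3, 0, 2, 0, 2, 0, 2, 2, 0, 2, 0, 3, 0, 3, 0, 2, 0, 2, 0, 2, 0, 2, 0, 2, 0, 3, 0, 3, 0, 2, 0, 2, 0, 2, 0, 2,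
    0, 2, 0, 3, 0, 3, 0, 2, 0, 2, 0, 2, 2, 0, 2, 0, 3, 0, 3, 0, 2, 0, 2, 0, 2] [[0, 1, 1, 0, 1, 0, 1, 1], [0,
    1, 0, 1, 0, 1, 1, 0, 1, 1, 1, 0, 1, 1, 1, 0, 1, 0], [1, 0, 1, 0, 1, 1, 1, 0, 1, 1, 0, 1, 1, 0, 1, 1, 0, 1,
    0, 1, 0, 1, 1, 1, 0, 1]]),
  ([74, 70, 75], .base 0 [0, 3, 0, 2, 0, 3, 0, 3, 0, 2, 0, 2, 0, 2, 0, 3, 0, 3, 0, 3, 0, 3, 0, 3, 0, 2, 2, 0,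
    2, 0, 3, 0, 3, 0, 2, 0, 2, 0, 2, 2, 0, 2, 0, 3, 0, 3, 0, 2, 0, 2, 0, 2, 0, 2, 0, 2, 0, 3, 0, 3, 0, 2, 0, 2,
    0, 2, 0, 2, 0, 2, 0, 3, 0, 3, 0, 2, 0, 2, 0, 2, 2, 0, 2, 0, 3, 0, 3, 0, 2, 0, 2, 0, 2] [[1, 1, 0, 1, 0, 1,
    1], [0, 1, 0, 1, 0, 1, 1, 1, 0, 1, 1, 0, 1, 1, 0, 1, 1, 0, 1, 1, 1, 0, 1, 1, 0, 1, 0, 1, 1], [1, 0, 1, 1,
    1, 0, 1, 0, 1, 1, 0, 1, 0, 1, 1, 0, 1, 1, 1, 0, 1, 0, 1, 1, 1, 0, 1]]),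
  ([75, 76, 24], .base 0 [0, 3, 0, 2, 0, 2, 0, 2, 0, 3, 0, 2, 0, 3, 0, 3, 0, 3, 0, 2, 2, 0, 2, 0, 3, 0, 3, 0,
    2, 0, 2, 0, 2, 2, 0, 2, 0, 3, 0, 3, 0, 2, 0, 2, 0, 2, 0, 2, 0, 2, 0, 3, 0, 3, 0, 2, 0, 2, 0, 2, 0, 2, 0, 2,
    0, 3, 0, 3, 0, 2, 0, 2, 0, 2, 2, 0, 2, 0, 3, 0, 3, 0, 2, 0, 2, 0, 2] [[1, 1, 0, 1, 0, 1, 1], [0, 1, 0, 1,
    1, 1, 0, 1, 1, 0, 1, 1, 1, 0, 1, 0, 1, 0, 1, 1, 1, 0, 1, 0, 1], [0, 1, 1, 1, 0, 1, 0, 1, 1, 1, 0, 1, 1, 0,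
    1, 1, 0, 1, 1, 1, 0, 1]]),
  ([71, 76, 65], .base 0 [0, 2, 0, 2, 0, 3, 0, 3, 0, 2, 0, 3, 0, 3, 0, 2, 2, 0, 2, 0, 3, 0, 3, 0, 2, 0, 2, 0,
    2, 0, 2, 0, 2, 0, 3, 0, 3, 0, 2, 0, 2, 0, 2, 0, 2, 0, 2, 0, 3, 0, 3, 0, 2, 0, 2, 0, 2, 2, 0, 2, 0, 3, 0, 3,
    0, 2, 0, 2, 0, 2] [[1, 0, 1, 0, 1, 1], [1, 0, 1, 0, 1, 0, 1, 1, 1, 0, 1, 1, 1, 0, 1, 1, 0, 1, 1, 1, 0, 1],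
    [0, 1, 0, 1, 0, 1, 0, 1, 1, 0, 1, 0, 1, 1, 0, 1, 1, 0, 1, 0, 1, 1, 1, 0, 1, 1, 0, 1]]),
  ([66, 66], .base 2 [2, 0, 3] [[], []]),
  ([65, 65], .base 2 [3, 0, 3, 0, 2, 0, 2, 0, 2, 0, 3, 0, 3, 0, 2, 0, 3, 0, 3, 0, 2] [[], []]),
  ([24, 65, 24, 66, 24, 66, 24, 65], .rew [(2, 1, [67, 68], 83, 0, false), (3, 2, [69], 84, 0, false), (2, 1,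
    [70, 71], 85, 2, true), (3, 2, [72], 86, 2, true), (2, 1, [66, 73], 87, 0, false), (3, 2, [24], 88, 2,
    true), (1, 1, [68, 74], 89, 2, true), (0, 2, [67], 83, 0, false), (1, 1, [70, 75], 90, 2, true), (0, 2,
    [71], 85, 0, false), (1, 1, [76, 24], 91, 2, true), (0, 2, [65], 92, 0, false), (3, 2, [], 47, 0, false),
    (2, 2, [], 93, 0, false), (1, 2, [], 47, 0, false), (0, 2, [], 94, 0, false)]),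
  ([77, 65], .base 2 [0, 2, 0, 2, 0, 3, 0, 3, 0, 3, 0, 2, 0, 2, 0, 3, 0, 2, 1, 2, 1, 3, 1, 3, 1, 3, 1, 3] [[],
    [1, 0, 1, 0, 1, 0, 1, 0, 1, 1, 0, 1, 1, 0, 1, 1, 0, 1, 0, 1, 0, 1, 1, 0]]),
  ([78, 24], .base 2 [0, 2, 0, 2, 0, 3, 0, 3, 0, 3, 0, 2, 0, 2, 0, 3, 0, 2, 2, 1, 2, 1, 3, 1, 3, 1, 3, 1,
    3] [[], [1, 0, 1, 1, 0, 1, 1, 0, 1, 1, 1, 0, 1, 1, 0, 1, 0, 1, 1, 0, 1, 1, 0]]),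
  ([79, 66], .base 2 [0, 2, 0, 2, 0, 3, 0, 3, 0, 3, 0, 2, 0, 2, 0, 3, 0, 1, 2, 1, 3, 1, 3, 1, 3, 1, 3] [[], [1,
    1, 1, 0, 1]]),
  ([37, 77, 78, 79, 37, 79, 78, 77], .rew [(0, 1, [24], 51, 0, false), (1, 1, [65], 96, 0, false), (2, 1, [24],
    97, 0, false), (3, 1, [66], 98, 0, false), (4, 1, [24], 51, 0, false), (5, 1, [66], 98, 0, false), (6, 1,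
    [24], 97, 0, false), (7, 1, [65], 96, 0, false), (0, 8, [], 95, 0, false)]),
  ([24, 83, 82], .base 0 [0, 2, 0, 2, 0, 3, 0, 3, 0, 2, 0, 2, 0, 2, 2, 0, 2, 0, 3, 0, 3, 0, 2, 0, 2, 0, 2, 0,
    2, 0, 2, 0, 3, 0, 3, 0, 2, 0, 2, 0, 2, 2, 0, 2, 0, 3, 0, 3, 0, 2, 0, 2, 0, 2] [[0, 1, 1, 0, 1, 1], [0, 1,
    1, 0, 1, 0, 1, 1, 0, 1, 1, 1, 0, 1, 0, 1, 1, 0, 1, 1, 0, 1, 1], [1, 0, 1, 0, 1, 1, 0, 1, 1, 0, 1, 0, 1, 1,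
    0, 1, 1, 0, 1, 1, 0, 1, 1, 0, 1, 0, 1]]),
  ([83, 80, 84], .base 0 [2, 0, 2, 0, 3, 0, 3, 0, 2, 0, 2, 0, 3, 0, 3, 0, 2, 2, 0, 2, 0, 3, 0, 3, 0, 2, 0, 2,
    0, 2, 2, 0, 2, 0, 3, 0, 3, 0, 2, 0, 2, 0, 2, 2, 0, 2, 0, 3, 0, 3, 0, 2, 0, 2, 0, 2, 0, 2, 0, 2, 0, 3, 0, 3,
    0, 2, 0, 2, 0, 2, 2, 0, 2, 0, 3, 0, 3, 0, 2, 0, 2, 0, 2] [[1, 1, 1, 0, 1, 1], [0, 1, 1, 0, 1, 1, 1, 0, 1,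
    1, 1, 0, 1, 1, 1, 0, 1, 1, 0, 1, 1, 0, 1, 1, 1, 0, 1, 0, 1], [1, 1, 1, 0, 1, 0, 1, 0, 1, 1, 1, 0, 1, 0, 1,
    1, 1, 0, 1]]),
  ([82, 86, 85], .base 0 [3, 0, 3, 0, 3, 0, 2, 0, 3, 0, 3, 0, 2, 0, 3, 0, 2, 0, 2, 0, 2, 0, 2, 0, 3, 0, 3, 0,
    2, 0, 2, 0, 2, 0, 2, 0, 2, 0, 3, 0, 3, 0, 2, 0, 2, 0, 2, 2, 0, 2, 0, 3, 0, 3, 0, 2, 0, 2, 0, 2, 2, 0, 2, 0,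
    3, 0, 3, 0, 2, 0, 2, 0, 2, 0] [[0, 1, 0, 1, 1, 1, 0], [0, 1, 0, 1, 1, 0, 1, 1, 0, 1, 0, 1, 0, 1, 0, 1, 0,
    1, 0, 1], [0, 1, 0, 1, 1, 0, 1, 0, 1, 0, 1, 1, 1, 0, 1, 0, 1, 1, 0, 1, 1, 0, 1, 0, 1, 0, 1, 1, 0]]),
  ([86, 87, 84], .base 0 [2, 0, 3, 0, 2, 0, 3, 0, 3, 0, 2, 0, 3, 0, 2, 0, 2, 2, 0, 2, 0, 3, 0, 3, 0, 2, 0, 2,
    0, 2, 2, 0, 2, 0, 3, 0, 3, 0, 2, 0, 2, 0, 2, 2, 0, 2, 0, 3, 0, 3, 0, 2, 0, 2, 0, 2, 0, 2, 0, 2, 0, 3, 0, 3,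
    0, 2, 0, 2, 0, 2, 2, 0, 2, 0, 3, 0, 3, 0, 2, 0, 2, 0, 2] [[1, 1, 1, 0, 1, 1], [1, 1, 0, 1, 0, 1, 1, 1, 0,
    1, 0, 1, 0, 1, 1, 1, 0, 1, 1, 1, 0, 1, 1, 1], [1, 0, 1, 1, 1, 0, 1, 1, 0, 1, 0, 1, 1, 0, 1, 1, 0, 1, 1, 0,
    1, 0, 1, 0, 1, 0, 1, 1, 1]]),
  ([86, 81, 88], .base 0 [2, 0, 3, 0, 2, 0, 3, 0, 3, 0, 2, 0, 3, 0, 2, 0, 2, 2, 0, 2, 0, 3, 0, 3, 0, 2, 0, 2,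
    0, 2, 2, 0, 2, 0, 3, 0, 3, 0, 2, 0, 2, 0, 2, 0, 2, 0, 2, 0, 3, 0, 3, 0, 2, 0, 2, 0, 2, 0, 2, 0, 2, 0, 3, 0,
    3, 0, 2, 0, 2, 0, 2, 2, 0, 2, 0, 3, 0, 3, 0, 2, 0, 2, 0, 2] [[1, 1, 0, 1, 0, 1, 1], [0, 1, 1, 1, 0, 1, 1,
    0, 1, 0, 1, 1, 1, 0, 1, 1, 1, 0, 1, 1, 1, 0], [1, 1, 1, 0, 1, 0, 1, 1, 1, 0, 1, 1, 0, 1, 1, 0, 1, 1, 1, 0,
    1]]),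
  ([84, 90, 89], .base 0 [2, 0, 3, 0, 2, 0, 3, 0, 3, 0, 3, 0, 2, 0, 3, 0, 3, 0, 2, 0, 2, 0, 2, 0, 3, 0, 2, 0,
    2, 2, 0, 2, 0, 3, 0, 3, 0, 2, 0, 2, 0, 2, 2, 0, 2, 0, 3, 0, 3, 0, 2, 0, 2, 0, 2, 2, 0, 2, 0, 3, 0, 3, 0, 2,
    0, 2, 0, 2, 0, 2, 0, 2, 0, 3, 0, 3, 0, 2, 0, 2, 0, 2, 2, 0, 2, 0, 3, 0, 3, 0, 2, 0, 2, 0, 2] [[1, 1, 1, 0,
    1, 1], [1, 1, 1, 0, 1, 1, 1, 0, 1, 0, 1, 0, 1, 1, 0, 1, 1, 1, 0, 1, 0, 1, 1, 0, 1, 1, 1], [1, 1, 1, 0, 1,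
    0, 1, 1, 1, 0, 1, 1, 0, 1, 1, 0, 1, 1, 0, 1, 1, 1, 0, 1]]),
  ([90, 24, 88], .base 0 [0, 2, 0, 2, 0, 3, 0, 3, 0, 2, 0, 2, 0, 3, 0, 3, 0, 2, 2, 0, 2, 0, 3, 0, 3, 0, 2, 0,
    2, 0, 2, 2, 0, 2, 0, 3, 0, 3, 0, 2, 0, 2, 0, 2, 0, 2, 0, 2, 0, 3, 0, 3, 0, 2, 0, 2, 0, 2, 0, 2, 0, 2, 0, 3,
    0, 3, 0, 2, 0, 2, 0, 2, 2, 0, 2, 0, 3, 0, 3, 0, 2, 0, 2, 0, 2] [[1, 1, 0, 1, 0, 1, 1], [1, 1, 1, 0, 1, 1,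
    1, 0, 1, 1, 1, 0, 1, 0, 1, 0, 1, 1, 0, 1, 0, 1, 0], [1, 0, 1, 1, 0, 1, 1, 0, 1, 0, 1, 1, 1, 0, 1, 0, 1, 1,
    0, 1, 1, 1, 0, 1, 1, 1]]),
  ([89, 91, 81], .base 0 [0, 2, 0, 2, 0, 2, 0, 2, 0, 3, 0, 2, 0, 2, 0, 3, 0, 3, 0, 3, 0, 3, 0, 2, 0, 2, 0, 3,
    0, 3, 0, 2, 0, 2, 0, 2, 2, 0, 2, 0, 3, 0, 3, 0, 2, 0, 2, 0, 2, 0, 2, 0, 2, 0, 3, 0, 3, 0, 2, 0, 2, 0, 2, 2,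
    0, 2, 0, 3, 0, 3, 0, 2, 0, 2, 0, 2] [[0, 1, 1, 0, 1, 1], [1, 1, 0, 1, 1, 1, 0, 1, 1, 1, 0, 1, 0, 1, 1, 0,
    1, 1, 0, 1, 1, 0, 1], [1, 0, 1, 1, 0, 1, 0, 1, 0, 1, 1, 0, 1, 1, 0, 1, 0, 1, 1, 0, 1, 1, 1, 0]]),
  ([85, 91, 80], .base 0 [0, 3, 0, 2, 2, 0, 2, 0, 3, 0, 3, 0, 2, 0, 2, 0, 2, 0, 2, 0, 2, 0, 3, 0, 3, 0, 2, 0,
    2, 0, 2, 0, 2, 0, 2, 0, 3, 0, 3, 0, 2, 0, 2, 0, 2, 2, 0, 2, 0, 3, 0, 3, 0, 2, 0, 2, 0, 2] [[1, 0, 1, 0, 1,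
    1], [1, 0, 1, 0, 1, 0, 1, 1, 1, 0, 1, 1, 1, 0, 1, 1, 0, 1, 1, 1, 0, 1], [1, 1, 0, 1, 1, 0, 1, 1, 1, 0, 1,
    0, 1, 0, 1, 1, 1, 0, 1, 1, 1, 0, 1, 0]]),
  ([81, 81], .base 2 [3, 0, 2] [[], []]),
  ([80, 80], .base 2 [2, 0, 2, 0, 2, 0, 2, 0, 3, 0, 2, 0, 2, 0, 3, 0, 3, 0, 3, 0, 3] [[], []]),
  ([24, 80, 81, 24, 24, 24, 81, 80], .rew [(0, 1, [82, 83], 100, 0, false), (1, 2, [84], 101, 0, false), (0, 1,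
    [85, 86], 102, 0, false), (1, 2, [87], 103, 2, true), (1, 1, [84, 86], 103, 1, true), (2, 2, [88], 104, 0,
    false), (1, 1, [89, 90], 105, 0, false), (2, 2, [24], 106, 2, true), (1, 1, [91, 81], 107, 2, true), (0, 2,
    [80], 108, 0, false), (2, 2, [], 47, 0, false), (2, 2, [], 47, 0, false), (1, 2, [], 109, 0, false), (0, 2,
    [], 110, 0, false)]),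
  ([92, 80], .base 2 [2, 0, 2, 0, 2, 0, 2, 0, 3, 0, 2, 1, 2, 1, 3, 1, 3, 1, 3, 1, 3] [[], []]),
  ([93, 81], .base 2 [2, 0, 2, 0, 2, 0, 2, 0, 3, 0, 2, 2, 1, 2, 1, 3, 1, 3, 1, 3, 1, 3] [[], [0, 1, 1, 0, 1, 0,
    1, 0, 1, 0, 1, 0, 1, 0, 1, 1, 1, 0, 1, 1, 0, 1, 0]]),
  ([94, 24], .base 2 [2, 0, 2, 0, 2, 0, 2, 0, 3, 0, 1, 2, 1, 3, 1, 3, 1, 3, 1, 3] [[], []]),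
  ([37, 92, 93, 94, 37, 94, 93, 92], .rew [(0, 1, [24], 51, 0, false), (1, 1, [80], 112, 0, false), (2, 1,
    [81], 113, 0, false), (3, 1, [24], 114, 0, false), (4, 1, [24], 51, 0, false), (5, 1, [24], 114, 0, false),
    (6, 1, [81], 113, 0, false), (7, 1, [80], 112, 0, false), (0, 8, [], 111, 0, false)]),
  ([24, 97, 98], .base 0 [0, 2, 0, 2, 0, 3, 0, 3, 0, 2, 0, 2, 0, 2, 0, 2, 0, 2, 0, 3, 0, 3, 0, 2, 0, 2, 0, 2,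
    0, 2, 0, 2, 0, 3, 0, 3, 0, 2, 0, 2, 0, 2, 2, 0, 2, 0, 3, 0, 3, 0, 2, 0, 2, 0, 2, 2, 0, 2, 0, 3, 0, 3, 0, 2,
    0, 2, 0, 2, 0] [[0, 1, 0, 1, 0, 1, 1, 1, 0], [1, 0, 1, 1, 0, 1, 1, 1, 0, 1, 0, 1, 0, 1, 0, 1, 1, 1, 0], [0,
    1, 1, 1, 0, 1, 1, 1, 0, 1, 0, 1, 1, 1, 0, 1, 0, 1, 1, 1, 0, 1, 1, 1, 0]]),
  ([98, 95, 99], .base 0 [0, 3, 0, 2, 0, 3, 0, 2, 0, 2, 0, 3, 0, 2, 0, 2, 0, 2, 0, 2, 2, 0, 2, 0, 3, 0, 3, 0,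
    2, 0, 2, 0, 2, 2, 0, 2, 0, 3, 0, 3, 0, 2, 0, 2, 0, 2, 2, 0, 2, 0, 3, 0, 3, 0, 2, 0, 2, 0, 2, 0, 2, 0, 2, 0,
    3, 0, 3, 0, 2, 0, 2, 0, 2, 2, 0, 2, 0, 3, 0, 3, 0, 2, 0, 2, 0, 2] [[1, 1, 1, 0, 1, 1], [0, 1, 1, 0, 1, 1,
    1, 0, 1, 1, 1, 0, 1, 1, 1, 0, 1, 1, 0, 1, 1, 0, 1, 1, 1, 0, 1, 0, 1], [1, 1, 0, 1, 0, 1, 0, 1, 0, 1, 1, 0,
    1, 0, 1, 1, 1, 0, 1, 1, 0, 1, 1, 0, 1, 1, 1]]),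
  ([97, 101, 100], .base 0 [0, 3, 0, 3, 0, 3, 0, 2, 0, 2, 0, 2, 0, 2, 0, 2, 0, 2, 0, 3, 0, 3, 0, 2, 0, 2, 0, 2,
    0, 2, 0, 2, 0, 3, 0, 3, 0, 2, 0, 2, 0, 2, 2, 0, 2, 0, 3, 0, 3, 0, 2, 0, 2, 0, 2, 2, 0, 2, 0, 3, 0, 3, 0, 2,
    0, 2, 0, 2, 0] [[0, 1, 0, 1, 1, 1, 0], [0, 1, 1, 0, 1, 1, 0, 1, 0, 1, 1, 0, 1, 1, 0, 1, 1, 0, 1, 1, 0, 1,
    0, 1, 0, 1, 0], [1, 0, 1, 1, 0, 1, 1, 1, 0, 1, 0, 1, 0, 1, 1, 1, 0, 1, 1, 0, 1, 1, 1]]),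
  ([101, 99, 102], .base 0 [0, 2, 0, 2, 0, 3, 0, 3, 0, 3, 0, 3, 0, 2, 0, 2, 0, 3, 0, 2, 0, 3, 2, 0, 2, 0, 3, 0,
    3, 0, 2, 0, 2, 0, 2, 2, 0, 2, 0, 3, 0, 3, 0, 2, 0, 2, 0, 2, 0, 2, 0, 2, 0, 3, 0, 3, 0, 2, 0, 2, 0, 2, 2, 0,
    2, 0, 3, 0, 3, 0, 2, 0, 2, 0, 2] [[1, 1, 0, 1, 1], [1, 0, 1, 0, 1, 0, 1, 0, 1, 0, 1, 1, 0, 1, 1, 1, 0, 1,
    1, 0, 1, 0, 1, 0, 1], [0, 1, 1, 1, 0, 1, 1, 0, 1, 1, 0, 1, 0, 1, 1, 1, 0, 1, 0]])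
]

/-- Relations with proofs, part 3. -/
def items1_3 : List (List ℕ × Prf) := [
  ([101, 96, 103], .base 0 [0, 2, 0, 2, 0, 3, 0, 3, 0, 3, 0, 3, 0, 2, 0, 2, 0, 3, 0, 2, 0, 3, 2, 0, 2, 0, 3, 0,
    3, 0, 2, 0, 2, 0, 2, 0, 2, 0, 2, 0, 3, 0, 3, 0, 2, 0, 2, 0, 2, 0, 2, 0, 2, 0, 3, 0, 3, 0, 2, 0, 2, 0, 2, 2,
    0, 2, 0, 3, 0, 3, 0, 2, 0, 2, 0, 2] [[1, 0, 1, 0, 1, 1], [0, 1, 1, 0, 1, 1, 0, 1, 1, 1, 0, 1, 1, 1, 0, 1,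
    0, 1, 0, 1, 0, 1, 1, 0, 1], [0, 1, 1, 0, 1, 0, 1, 1, 0, 1, 1, 0, 1, 1, 1, 0, 1, 0, 1]]),
  ([99, 104, 105], .base 0 [2, 0, 2, 0, 2, 0, 2, 0, 3, 0, 3, 0, 3, 0, 2, 0, 3, 0, 2, 0, 2, 0, 2, 0, 2, 0, 2, 0,
    2, 0, 3, 0, 3, 0, 2, 0, 2, 0, 2, 0, 2, 0, 2, 0, 3, 0, 3, 0, 2, 0, 2, 0, 2, 2, 0, 2, 0, 3, 0, 3, 0, 2, 0, 2,
    0, 2, 0, 2, 0, 2, 0, 3, 0, 3, 0, 2, 0, 2, 0, 2, 2, 0, 2, 0, 3, 0, 3, 0, 2, 0, 2, 0, 2, 0] [[0, 1, 0, 1, 1,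
    0, 1, 1, 0], [1, 0, 1, 1, 0, 1, 1, 0, 1, 1, 1, 0, 1, 0, 1, 0, 1, 0, 1, 1, 0, 1, 0, 1, 0, 1, 1, 1], [1, 1,
    0, 1, 1, 0, 1, 1, 1, 0, 1, 0, 1, 1, 0, 1, 0, 1, 1, 1, 0, 1]]),
  ([105, 24, 103], .base 0 [2, 0, 3, 0, 2, 0, 3, 0, 2, 0, 2, 0, 3, 0, 2, 0, 3, 2, 0, 2, 0, 3, 0, 3, 0, 2, 0, 2,
    0, 2, 2, 0, 2, 0, 3, 0, 3, 0, 2, 0, 2, 0, 2] [[1, 1], [1, 1], [0, 1, 1, 0, 1, 0, 1, 0, 1, 0, 1, 0, 1, 0, 1,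
    1, 1, 0, 1, 1, 0, 1, 0, 1, 1]]),
  ([104, 96, 106], .base 0 [3, 0, 2, 0, 2, 0, 3, 0, 3, 0, 2, 0, 2, 0, 2, 0, 3, 0, 2, 0, 2, 0, 2, 0, 2, 0, 2, 0,
    2, 0, 2, 0, 3, 0, 3, 0, 2, 0, 2, 0, 2, 0, 2, 0, 2, 0, 3, 0, 3, 0, 2, 0, 2, 0, 2, 2, 0, 2, 0, 3, 0, 3, 0, 2,
    0, 2, 0, 2, 0, 2, 0, 2, 0, 3, 0, 3, 0, 2, 0, 2, 0, 2, 2, 0, 2, 0, 3, 0, 3, 0, 2, 0, 2, 0, 2, 0] [[0, 1, 0,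
    1, 1, 0, 1, 1, 0], [1, 1, 1, 0, 1, 1, 0, 1, 1, 0, 1, 0, 1, 0, 1], [0, 1, 0, 1, 1, 0, 1, 1, 1, 0, 1, 1, 0,
    1, 0, 1, 0, 1, 1, 1, 0, 1, 1, 0, 1, 1, 1]]),
  ([100, 106, 95], .base 0 [0, 2, 0, 2, 0, 3, 0, 3, 0, 2, 0, 2, 0, 2, 0, 2, 0, 3, 0, 2, 0, 2, 0, 3, 0, 3, 0, 2,
    0, 2, 0, 2, 2, 0, 2, 0, 3, 0, 3, 0, 2, 0, 2, 0, 2, 0, 2, 0, 2, 0, 3, 0, 3, 0, 2, 0, 2, 0, 2, 0, 2, 0, 2, 0,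
    3, 0, 3, 0, 2, 0, 2, 0, 2, 2, 0, 2, 0, 3, 0, 3, 0, 2, 0, 2, 0, 2] [[0, 1, 1, 0, 1, 0, 1, 1], [1, 0, 1, 1,
    1, 0, 1, 1, 1, 0, 1, 0, 1, 0, 1, 1, 0, 1, 0, 1, 0], [0, 1, 0, 1, 0, 1, 0, 1, 1, 0, 1, 0, 1, 1, 1, 0, 1, 0,
    1, 1]]),
  ([96, 96], .base 2 [0, 2, 0, 2, 0, 2, 0, 3, 0, 2, 0, 3, 0, 3, 0, 2, 0, 2] [[], []]),
  ([95, 95], .base 2 [0, 2, 0, 2, 0, 2, 0, 3, 0, 3, 0, 3, 0, 2, 0, 2, 0, 3, 0, 3, 0, 3, 0, 3] [[], []]),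
  ([24, 95, 96, 24, 24, 24, 96, 95], .rew [(0, 1, [97, 98], 116, 2, true), (1, 2, [99], 117, 0, false), (0, 1,
    [100, 101], 118, 0, false), (1, 2, [102], 119, 0, false), (1, 1, [99, 101], 119, 2, false), (2, 2, [103],
    120, 0, false), (1, 1, [104, 105], 121, 2, true), (2, 2, [24], 122, 2, true), (1, 1, [106, 96], 123, 0,
    false), (0, 2, [95], 124, 0, false), (2, 2, [], 47, 0, false), (2, 2, [], 47, 0, false), (1, 2, [], 125, 0,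
    false), (0, 2, [], 126, 0, false)]),
  ([107, 95], .base 2 [0, 2, 0, 2, 0, 2, 0, 3, 0, 3, 0, 3, 0, 2, 1, 2, 1, 3, 1, 3, 1, 3, 1, 3] [[], []]),
  ([108, 96], .base 2 [0, 2, 0, 2, 0, 2, 0, 3, 0, 3, 0, 3, 0, 2, 2, 1, 2, 1, 3, 1, 3, 1, 3, 1, 3] [[], [0, 1,
    1, 0, 1, 0, 1, 0, 1, 0, 1, 0, 1, 0, 1, 1, 1, 0, 1, 1, 0, 1, 0]]),
  ([109, 24], .base 2 [0, 2, 0, 2, 0, 2, 0, 3, 0, 3, 0, 3, 0, 1, 2, 1, 3, 1, 3, 1, 3, 1, 3] [[], [1, 1, 0, 1,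
    1, 0, 1, 0, 1, 0, 1, 0, 1, 0, 1, 1, 1, 0, 1, 1, 0, 1, 1, 1, 0, 1, 0]]),
  ([37, 107, 108, 109, 37, 109, 108, 107], .rew [(0, 1, [24], 51, 0, false), (1, 1, [95], 128, 0, false), (2,
    1, [96], 129, 0, false), (3, 1, [24], 130, 0, false), (4, 1, [24], 51, 0, false), (5, 1, [24], 130, 0,
    false), (6, 1, [96], 129, 0, false), (7, 1, [95], 128, 0, false), (0, 8, [], 127, 0, false)]),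
  ([24, 112, 113], .base 0 [2, 0, 2, 0, 3, 0, 3, 0, 2, 0, 2, 0, 2, 0, 2, 0, 2, 0, 3, 0, 3, 0, 2, 0, 2, 0, 2, 0,
    2, 0, 2, 0, 3, 0, 3, 0, 2, 0, 2, 0, 2, 2, 0, 2, 0, 3, 0, 3, 0, 2, 0, 2, 0, 2, 2, 0, 2, 0, 3, 0, 3, 0, 2, 0,
    2, 0, 2, 0] [[1, 0, 1, 0, 1, 1, 1, 0], [1, 0, 1, 1, 0, 1, 1, 1, 0, 1, 0, 1, 0, 1, 0, 1, 1, 1, 0], [0, 1, 1,
    1, 0, 1, 1, 1, 0, 1, 0, 1, 1, 1, 0, 1, 0, 1, 1, 1, 0, 1, 1, 1, 0]]),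
  ([113, 110, 114], .base 0 [3, 0, 2, 0, 3, 0, 2, 0, 2, 0, 3, 0, 2, 0, 2, 0, 2, 0, 2, 2, 0, 2, 0, 3, 0, 3, 0,
    2, 0, 2, 0, 2, 2, 0, 2, 0, 3, 0, 3, 0, 2, 0, 2, 0, 2, 2, 0, 2, 0, 3, 0, 3, 0, 2, 0, 2, 0, 2, 0, 2, 0, 2, 0,
    3, 0, 3, 0, 2, 0, 2, 0, 2, 2, 0, 2, 0, 3, 0, 3, 0, 2, 0, 2, 0, 2] [[1, 1, 1, 0, 1, 1], [0, 1, 1, 0, 1, 1,
    1, 0, 1, 1, 1, 0, 1, 1, 1, 0, 1, 1, 0, 1, 1, 0, 1, 1, 1, 0, 1, 0, 1], [1, 1, 0, 1, 0, 1, 0, 1, 0, 1, 1, 0,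
    1, 0, 1, 1, 1, 0, 1, 1, 0, 1, 1, 0, 1, 1, 1]]),
  ([112, 116, 115], .base 0 [3, 0, 3, 0, 3, 0, 2, 0, 2, 0, 2, 0, 2, 0, 2, 0, 2, 0, 3, 0, 3, 0, 2, 0, 2, 0, 2,
    0, 2, 0, 2, 0, 3, 0, 3, 0, 2, 0, 2, 0, 2, 2, 0, 2, 0, 3, 0, 3, 0, 2, 0, 2, 0, 2, 2, 0, 2, 0, 3, 0, 3, 0, 2,
    0, 2, 0, 2, 0] [[0, 1, 0, 1, 1, 1, 0], [0, 1, 1, 0, 1, 1, 0, 1, 0, 1, 1, 0, 1, 1, 0, 1, 1, 0, 1, 1, 0, 1,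
    0, 1, 0, 1, 0], [1, 0, 1, 1, 0, 1, 1, 1, 0, 1, 0, 1, 0, 1, 1, 1, 0, 1, 1, 0, 1, 1, 1]]),
  ([116, 114, 117], .base 0 [2, 0, 2, 0, 3, 0, 3, 0, 3, 0, 3, 0, 2, 0, 2, 0, 3, 0, 2, 0, 3, 2, 0, 2, 0, 3, 0,
    3, 0, 2, 0, 2, 0, 2, 2, 0, 2, 0, 3, 0, 3, 0, 2, 0, 2, 0, 2, 0, 2, 0, 2, 0, 3, 0, 3, 0, 2, 0, 2, 0, 2, 2, 0,
    2, 0, 3, 0, 3, 0, 2, 0, 2, 0, 2] [[1, 1, 0, 1, 1], [1, 0, 1, 0, 1, 0, 1, 0, 1, 0, 1, 1, 0, 1, 1, 1, 0, 1,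
    1, 0, 1, 0, 1, 0, 1], [0, 1, 1, 1, 0, 1, 1, 0, 1, 1, 0, 1, 0, 1, 1, 1, 0, 1, 0]]),
  ([116, 111, 118], .base 0 [2, 0, 2, 0, 3, 0, 3, 0, 3, 0, 3, 0, 2, 0, 2, 0, 3, 0, 2, 0, 3, 2, 0, 2, 0, 3, 0,
    3, 0, 2, 0, 2, 0, 2, 0, 2, 0, 2, 0, 3, 0, 3, 0, 2, 0, 2, 0, 2, 0, 2, 0, 2, 0, 3, 0, 3, 0, 2, 0, 2, 0, 2, 2,
    0, 2, 0, 3, 0, 3, 0, 2, 0, 2, 0, 2] [[1, 0, 1, 0, 1, 1], [0, 1, 1, 0, 1, 1, 0, 1, 1, 1, 0, 1, 1, 1, 0, 1,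
    0, 1, 0, 1, 0, 1, 1, 0, 1], [0, 1, 1, 0, 1, 0, 1, 1, 0, 1, 1, 0, 1, 1, 1, 0, 1, 0, 1]]),
  ([114, 119, 120], .base 0 [0, 2, 0, 2, 0, 2, 0, 2, 0, 3, 0, 3, 0, 3, 0, 2, 0, 3, 0, 2, 0, 2, 0, 2, 0, 2, 0,
    2, 0, 2, 0, 3, 0, 3, 0, 2, 0, 2, 0, 2, 0, 2, 0, 2, 0, 3, 0, 3, 0, 2, 0, 2, 0, 2, 2, 0, 2, 0, 3, 0, 3, 0, 2,
    0, 2, 0, 2, 0, 2, 0, 2, 0, 3, 0, 3, 0, 2, 0, 2, 0, 2, 2, 0, 2, 0, 3, 0, 3, 0, 2, 0, 2, 0, 2, 0] [[0, 1, 0,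
    1, 1, 0, 1, 1, 0], [1, 0, 1, 1, 0, 1, 1, 0, 1, 1, 1, 0, 1, 0, 1, 0, 1, 0, 1, 1, 0, 1, 0, 1, 0, 1, 1, 1],
    [1, 1, 0, 1, 1, 0, 1, 1, 1, 0, 1, 0, 1, 1, 0, 1, 0, 1, 1, 1, 0, 1]]),
  ([120, 24, 118], .base 0 [0, 2, 0, 3, 0, 2, 0, 3, 0, 2, 0, 2, 0, 3, 0, 2, 0, 3, 2, 0, 2, 0, 3, 0, 3, 0, 2, 0,
    2, 0, 2, 2, 0, 2, 0, 3, 0, 3, 0, 2, 0, 2, 0, 2] [[1, 1], [0, 1, 1], [0, 1, 1, 0, 1, 0, 1, 0, 1, 0, 1, 0, 1,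
    0, 1, 1, 1, 0, 1, 1, 0, 1, 0, 1, 1]]),
  ([119, 111, 121], .base 0 [0, 3, 0, 2, 0, 2, 0, 3, 0, 3, 0, 2, 0, 2, 0, 2, 0, 3, 0, 2, 0, 2, 0, 2, 0, 2, 0,
    2, 0, 2, 0, 2, 0, 3, 0, 3, 0, 2, 0, 2, 0, 2, 0, 2, 0, 2, 0, 3, 0, 3, 0, 2, 0, 2, 0, 2, 2, 0, 2, 0, 3, 0, 3,
    0, 2, 0, 2, 0, 2, 0, 2, 0, 2, 0, 3, 0, 3, 0, 2, 0, 2, 0, 2, 2, 0, 2, 0, 3, 0, 3, 0, 2, 0, 2, 0, 2, 0] [[0,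
    1, 0, 1, 1, 0, 1, 1, 0], [1, 1, 1, 0, 1, 1, 0, 1, 1, 0, 1, 0, 1, 0, 1], [0, 1, 0, 1, 1, 0, 1, 1, 1, 0, 1,
    1, 0, 1, 0, 1, 0, 1, 1, 1, 0, 1, 1, 0, 1, 1, 1]]),
  ([115, 121, 110], .base 0 [2, 0, 2, 0, 3, 0, 3, 0, 2, 0, 2, 0, 2, 0, 2, 0, 3, 0, 2, 0, 2, 0, 3, 0, 3, 0, 2,
    0, 2, 0, 2, 2, 0, 2, 0, 3, 0, 3, 0, 2, 0, 2, 0, 2, 0, 2, 0, 2, 0, 3, 0, 3, 0, 2, 0, 2, 0, 2, 0, 2, 0, 2, 0,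
    3, 0, 3, 0, 2, 0, 2, 0, 2, 2, 0, 2, 0, 3, 0, 3, 0, 2, 0, 2, 0, 2] [[0, 1, 1, 0, 1, 0, 1, 1], [1, 0, 1, 1,
    1, 0, 1, 1, 1, 0, 1, 0, 1, 0, 1, 1, 0, 1, 0, 1, 0], [0, 1, 0, 1, 0, 1, 0, 1, 1, 0, 1, 0, 1, 1, 1, 0, 1, 0,
    1, 1]]),
  ([111, 111], .base 2 [2, 0, 2, 0, 2, 0, 3, 0, 2, 0, 3, 0, 3, 0, 2, 0, 2] [[], []]),
  ([110, 110], .base 2 [2, 0, 2, 0, 2, 0, 3, 0, 3, 0, 3, 0, 2, 0, 2, 0, 3, 0, 3, 0, 3, 0, 3] [[], []]),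
  ([24, 110, 111, 24, 24, 24, 111, 110], .rew [(0, 1, [112, 113], 132, 2, true), (1, 2, [114], 133, 0, false),
    (0, 1, [115, 116], 134, 0, false), (1, 2, [117], 135, 0, false), (1, 1, [114, 116], 135, 2, false), (2, 2,
    [118], 136, 0, false), (1, 1, [119, 120], 137, 2, true), (2, 2, [24], 138, 2, true), (1, 1, [121, 111],
    139, 0, false), (0, 2, [110], 140, 0, false), (2, 2, [], 47, 0, false), (2, 2, [], 47, 0, false), (1, 2,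
    [], 141, 0, false), (0, 2, [], 142, 0, false)]),
  ([122, 110], .base 2 [2, 0, 2, 0, 2, 0, 3, 0, 3, 0, 3, 0, 2, 1, 2, 1, 3, 1, 3, 1, 3, 1, 3] [[], []]),
  ([123, 111], .base 2 [2, 0, 2, 0, 2, 0, 3, 0, 3, 0, 3, 0, 2, 2, 1, 2, 1, 3, 1, 3, 1, 3, 1, 3] [[], [0, 1, 1,
    0, 1, 0, 1, 0, 1, 0, 1, 0, 1, 0, 1, 1, 1, 0, 1, 1, 0, 1, 0]]),
  ([124, 24], .base 2 [2, 0, 2, 0, 2, 0, 3, 0, 3, 0, 3, 0, 1, 2, 1, 3, 1, 3, 1, 3, 1, 3] [[], [0, 1, 1, 0, 1,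
    1, 0, 1, 0, 1, 0, 1, 0, 1, 0, 1, 1, 1, 0, 1, 1, 0, 1, 1, 1, 0, 1, 0]]),
  ([37, 122, 123, 124, 37, 124, 123, 122], .rew [(0, 1, [24], 51, 0, false), (1, 1, [110], 144, 0, false), (2,
    1, [111], 145, 0, false), (3, 1, [24], 146, 0, false), (4, 1, [24], 51, 0, false), (5, 1, [24], 146, 0,
    false), (6, 1, [111], 145, 0, false), (7, 1, [110], 144, 0, false), (0, 8, [], 143, 0, false)]),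
  ([28, 27, 24], .base 0 [0, 3, 0, 3, 0, 2, 0, 3, 0, 3, 0, 2, 0, 3, 0, 2, 0, 2, 2, 0, 2, 0, 3, 0, 3, 0, 2, 0,
    2, 0, 2, 2, 0, 2, 0, 3, 0, 3, 0, 2, 0, 2, 0, 2, 0, 2, 0, 2, 0, 3, 0, 3, 0, 2, 0, 2, 0, 2, 0, 2, 0, 2, 0, 3,
    0, 3, 0, 2, 0, 2, 0, 2, 2, 0, 2, 0, 3, 0, 3, 0, 2, 0, 2, 0, 2, 2, 0, 2, 0, 3, 0, 3, 0, 2, 0, 2, 0, 2,
    0] [[1, 1, 0, 1, 0, 1, 1, 1, 0], [1, 1, 1, 0, 1, 0, 1, 1, 0, 1, 0, 1, 0, 1, 0, 1, 1, 0, 1, 0, 1, 0, 1, 1,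
    1], [1, 0, 1, 1, 1, 0, 1, 1, 1, 0, 1, 0, 1, 1, 0, 1, 1, 1, 0, 1]]),
  ([26, 30, 33], .base 0 [0, 2, 0, 3, 2, 0, 2, 0, 3, 0, 3, 0, 2, 0, 2, 0, 2, 0, 2, 0, 2, 0, 3, 0, 3, 0, 2, 0,
    2, 0, 2, 0, 2, 0, 2, 0, 3, 0, 3, 0, 2, 0, 2, 0, 2, 2, 0, 2, 0, 3, 0, 3, 0, 2, 0, 2, 0, 2, 0] [[1, 0, 1, 0,
    1, 1, 0], [0, 1, 1, 1, 0, 1, 0, 1, 0, 1, 1, 1, 0, 1, 0, 1, 1, 1, 0, 1, 0, 1, 0, 1, 1, 1, 0, 1], [0, 1, 0,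
    1, 1, 1, 0, 1, 1, 0, 1, 1, 1, 0, 1, 0, 1, 1, 0, 1, 1, 0, 1, 1, 1]]),
  ([33, 33], .base 2 [2, 0, 2, 0, 2, 0, 3, 0, 2, 0, 3, 0, 2, 0, 2, 0, 2, 0, 3] [[], []]),
  ([27, 27], .base 2 [2, 0, 2, 0, 2, 0, 3, 0, 2, 0, 3, 0, 2, 0, 2] [[], []]),
  ([36, 36], .base 2 [3, 0, 2, 0, 3] [[], []]),
  ([25, 24, 26, 33, 27, 36, 24], .rew [(0, 1, [34, 28], 43, 0, false), (1, 2, [27], 148, 2, true), (2, 1, [30,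
    33], 149, 2, true), (1, 2, [31], 39, 0, false), (1, 1, [30, 27], 39, 2, false), (0, 2, [35], 44, 0, false),
    (0, 1, [24, 36], 45, 0, false), (3, 2, [], 150, 0, false), (2, 2, [], 151, 0, false), (1, 2, [], 152, 0,
    false), (0, 2, [], 47, 0, false)]),
  ([42, 24, 45], .base 0 [2, 0, 2, 0, 3, 0, 3, 0, 3, 0, 3, 0, 2, 0, 3, 0, 2, 0, 2, 2, 0, 2, 0, 3, 0, 3, 0, 2,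
    0, 2, 0, 2, 2, 0, 2, 0, 3, 0, 3, 0, 2, 0, 2, 0, 2] [[1, 1], [0, 1, 0, 1, 0, 1, 0, 1, 1, 1, 0, 1, 0, 1, 0,
    1, 1, 1, 0, 1, 0, 1, 1, 1, 0, 1], [1, 1, 0, 1, 1, 0, 1, 1, 0, 1, 0, 1, 1, 1, 0, 1, 0, 1, 1, 0, 1, 1, 0, 1,
    0, 1]]),
  ([45, 125, 126], .base 0 [2, 0, 3, 0, 2, 0, 3, 0, 2, 0, 3, 0, 2, 0, 3, 0, 3, 0, 3, 0, 2, 0, 2, 0, 3, 0, 2, 0,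
    2, 0, 3, 0, 3, 0, 2, 0, 2, 0, 2, 0, 2, 0, 2, 0, 3, 0, 3, 0, 2, 0, 2, 0, 2, 2, 0, 2, 0, 3, 0, 3, 0, 2, 0, 2,
    0, 2] [[0, 1, 0, 1, 1], [1, 1, 1, 0, 1, 0, 1, 0, 1, 1, 0, 1, 0, 1, 1, 1, 0, 1, 0, 1, 0, 1, 0, 1], [1, 0, 1,
    0, 1, 0, 1, 0, 1, 1, 0, 1, 1, 1, 0, 1, 1, 0, 1, 1, 0, 1, 0, 1, 0]]),
  ([41, 125, 127], .base 0 [2, 0, 3, 0, 2, 0, 2, 0, 2, 0, 2, 0, 2, 0, 3, 0, 2, 0, 2, 0, 2, 0, 3, 2, 0, 2, 0, 3,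
    0, 3, 0, 2, 0, 2, 0, 2, 2, 0, 2, 0, 3, 0, 3, 0, 2, 0, 2, 0, 2, 2, 0, 2, 0, 3, 0, 3, 0, 2, 0, 2, 0, 2, 0, 2,
    0, 2, 0, 3, 0, 3, 0, 2, 0, 2, 0, 2, 2, 0, 2, 0, 3, 0, 3, 0, 2, 0, 2, 0, 2] [[1, 1, 1, 0, 1, 1], [0, 1, 0,
    1, 1, 0, 1, 0, 1, 0, 1, 0, 1, 1, 0, 1, 0, 1, 0, 1, 0, 1, 1, 0, 1], [0, 1, 0, 1, 1, 1, 0, 1, 1, 1, 0, 1, 0,
    1, 1, 0, 1, 0, 1, 0]]),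
  ([126, 44, 128], .base 0 [0, 2, 0, 3, 0, 2, 0, 3, 0, 3, 0, 3, 0, 3, 0, 3, 0, 3, 0, 3, 0, 2, 0, 2, 0, 3, 0, 3,
    0, 2, 0, 2, 0, 2, 0, 2, 0, 2, 0, 3, 0, 3, 0, 2, 0, 2, 0, 2, 2, 0, 2, 0, 3, 0, 3, 0, 2, 0, 2, 0, 2] [[0, 1,
    0, 1, 1], [0, 1, 1, 0, 1, 0, 1, 0, 1, 0, 1, 1, 0, 1, 1, 1, 0, 1, 1, 0, 1, 1, 1, 0, 1, 1, 0], [1, 1, 1, 0,
    1, 1, 1, 0, 1, 0, 1, 1, 0, 1, 1, 1, 0, 1, 1, 0, 1, 0, 1, 0]]),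
  ([127, 42, 128], .base 0 [2, 0, 3, 0, 2, 0, 2, 0, 2, 0, 3, 0, 3, 0, 2, 0, 2, 0, 2, 0, 3, 0, 2, 0, 2, 0, 3, 0,
    3, 0, 2, 0, 2, 0, 2, 0, 2, 0, 2, 0, 3, 0, 3, 0, 2, 0, 2, 0, 2, 2, 0, 2, 0, 3, 0, 3, 0, 2, 0, 2, 0, 2, 2, 0,
    2, 0, 3, 0, 3, 0, 2, 0, 2, 0, 2, 0] [[0, 1, 0, 1, 1, 1, 0], [1, 1, 0, 1, 0, 1, 0, 1, 1, 1, 0, 1, 1, 0, 1,
    1, 1, 0, 1, 0, 1, 1], [0, 1, 1, 0, 1, 0, 1, 1, 1, 0, 1, 1, 1, 0, 1, 0, 1, 0, 1, 1, 1, 0, 1, 1]]),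
  ([46, 46], .base 2 [0, 2, 0, 3, 0, 2, 0, 2, 0, 3, 0, 3, 0, 2, 0, 2, 0, 2, 0, 3] [[], []])
]

/-- Relations with proofs, part 4. -/
def items1_4 : List (List ℕ × Prf) := [
  ([44, 44], .base 2 [2, 0, 3, 0, 2, 0, 2, 0, 3, 0, 3, 0, 2, 0, 2, 0, 2, 0, 3] [[], []]),
  ([41, 42, 43, 46, 44, 42], .rew [(1, 1, [45, 24], 154, 0, false), (2, 2, [46], 58, 2, true), (1, 1, [125,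
    126], 155, 2, true), (0, 2, [127], 156, 0, false), (1, 1, [128, 44], 157, 0, false), (0, 2, [42], 158, 2,
    true), (2, 2, [], 159, 0, false), (1, 2, [], 160, 0, false), (0, 2, [], 60, 0, false)]),
  ([110, 114, 113], .base 0 [2, 0, 2, 0, 2, 0, 3, 0, 3, 0, 3, 0, 2, 0, 2, 0, 3, 0, 3, 0, 3, 0, 3, 2, 0, 2, 0,
    3, 0, 3, 0, 2, 0, 2, 0, 2, 2, 0, 2, 0, 3, 0, 3, 0, 2, 0, 2, 0, 2, 0, 2, 0, 2, 0, 3, 0, 3, 0, 2, 0, 2, 0, 2,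
    2, 0, 2, 0, 3, 0, 3, 0, 2, 0, 2, 0, 2] [[1, 1, 0, 1, 1], [1, 1, 0, 1, 0, 1, 1, 0, 1, 1, 1, 0, 1, 0, 1, 0,
    1, 0, 1, 1, 0, 1, 0, 1, 0, 1, 1, 0], [0, 1, 0, 1, 0, 1, 0, 1, 0, 1, 1, 0, 1, 1, 1, 0, 1, 0, 1, 1, 1, 0, 1,
    1, 1]]),
  ([113, 129, 111], .base 0 [3, 0, 2, 0, 3, 0, 2, 0, 2, 0, 3, 0, 2, 0, 2, 0, 2, 0, 2, 0, 2, 0, 2, 0, 3, 0, 3,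
    0, 2, 0, 2, 0, 2, 0, 2, 0, 2, 0, 3, 0, 3, 0, 2, 0, 2, 0, 2, 2, 0, 2, 0, 3, 0, 3, 0, 2, 0, 2, 0, 2, 2, 0, 2,
    0, 3, 0, 3, 0, 2, 0, 2, 0, 2, 0] [[0, 1, 0, 1, 1, 1, 0], [0, 1, 1, 0, 1, 1, 0, 1, 1, 0, 1, 0, 1, 0, 1, 1,
    0, 1, 0, 1, 1, 0, 1, 0, 1], [1, 1, 0, 1, 1, 0, 1, 1, 1, 0, 1, 1, 0, 1, 1, 0, 1, 1, 0, 1, 0, 1, 0, 1]]),
  ([24, 118, 120], .base 0 [0, 2, 0, 2, 0, 3, 0, 3, 0, 2, 0, 2, 0, 2, 2, 0, 2, 0, 3, 0, 3, 0, 2, 0, 2, 0,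
    2] [[0, 1, 1], [0, 1, 1, 0, 1, 0, 1, 0, 1, 0, 1, 0, 1, 0, 1, 1, 1, 0, 1, 1, 0, 1, 0, 1, 1], [1, 1]]),
  ([129, 115, 120], .base 0 [0, 2, 0, 2, 0, 2, 0, 3, 0, 3, 0, 3, 0, 3, 0, 3, 0, 2, 0, 3, 0, 2, 0, 2, 0, 2, 0,
    2, 0, 2, 0, 2, 0, 3, 0, 3, 0, 2, 0, 2, 0, 2, 0, 2, 0, 2, 0, 3, 0, 3, 0, 2, 0, 2, 0, 2, 2, 0, 2, 0, 3, 0, 3,
    0, 2, 0, 2, 0, 2, 0, 2, 0, 2, 0, 3, 0, 3, 0, 2, 0, 2, 0, 2, 2, 0, 2, 0, 3, 0, 3, 0, 2, 0, 2, 0, 2, 0] [[0,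
    1, 0, 1, 1, 0, 1, 1, 0], [0, 1, 1, 1, 0, 1, 1, 0, 1, 0, 1, 0, 1, 0, 1, 1, 0, 1, 0, 1, 1, 1], [1, 0, 1, 0,
    1, 1, 0, 1, 1, 1, 0, 1, 0, 1, 0, 1, 0, 1, 1, 0, 1, 0, 1, 0, 1, 1, 0]]),
  ([115, 112, 116], .base 0 [2, 0, 2, 0, 3, 0, 3, 0, 2, 0, 2, 0, 2, 0, 2, 0, 3, 2, 0, 2, 0, 3, 0, 3, 0, 2, 0,
    2, 0, 2, 0, 2, 0, 2, 0, 3, 0, 3, 0, 2, 0, 2, 0, 2, 2, 0, 2, 0, 3, 0, 3, 0, 2, 0, 2, 0, 2, 2, 0, 2, 0, 3, 0,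
    3, 0, 2, 0, 2, 0, 2, 0] [[1, 0, 1, 1, 1, 0], [0, 1, 0, 1, 0, 1, 0, 1, 1, 0, 1, 1, 1, 0, 1, 1, 1, 0, 1, 1,
    1, 0, 1, 1, 0, 1], [1, 0, 1, 0, 1, 1, 0, 1, 0, 1, 1, 0, 1, 1, 0, 1, 1, 1, 0, 1, 1, 0, 1, 0, 1]]),
  ([114, 116, 117], .base 0 [0, 2, 0, 2, 0, 2, 0, 2, 0, 3, 0, 3, 0, 3, 0, 2, 0, 3, 0, 2, 0, 2, 0, 2, 0, 2, 2,
    0, 2, 0, 3, 0, 3, 0, 2, 0, 2, 0, 2, 2, 0, 2, 0, 3, 0, 3, 0, 2, 0, 2, 0, 2, 2, 0, 2, 0, 3, 0, 3, 0, 2, 0, 2,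
    0, 2] [[1, 1, 1], [0, 1, 1, 1, 0, 1, 1, 0, 1, 1, 0, 1, 0, 1, 1, 0, 1, 1, 0, 1, 1, 0], [0, 1, 0, 1, 0, 1, 1,
    0, 1, 1, 1, 0, 1, 0, 1, 0, 1, 1, 1, 0, 1, 1, 1, 0, 1, 0, 1, 0, 1, 0]]),
  ([117, 121, 24], .base 0 [2, 0, 3, 0, 3, 0, 3, 0, 2, 0, 2, 0, 3, 0, 3, 0, 2, 0, 2, 0, 2, 0, 3, 2, 0, 2, 0, 3,
    0, 3, 0, 2, 0, 2, 0, 2, 2, 0, 2, 0, 3, 0, 3, 0, 2, 0, 2, 0, 2, 2, 0, 2, 0, 3, 0, 3, 0, 2, 0, 2, 0, 2, 0, 2,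
    0, 2, 0, 3, 0, 3, 0, 2, 0, 2, 0, 2, 0, 2, 0, 2, 0, 3, 0, 3, 0, 2, 0, 2, 0, 2, 2, 0, 2, 0, 3, 0, 3, 0, 2, 0,
    2, 0, 2] [[1, 1, 1, 0, 1, 0, 1, 1], [1, 1, 0, 1, 1, 1, 0, 1, 1, 0, 1, 0, 1, 1, 1, 0, 1, 1, 1, 0, 1, 1, 1,
    0], [0, 1, 0, 1, 1, 1, 0, 1, 1, 0, 1, 1, 0, 1, 1, 1, 0, 1]]),
  ([118, 118], .base 2 [0, 3, 0, 3, 0, 2, 0, 3, 0, 2, 0, 3, 0, 2, 0, 2] [[], []]),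
  ([112, 112], .base 2 [3, 0, 3, 0, 3, 0, 2, 0, 2, 0, 2, 0, 2] [[], []]),
  ([121, 121], .base 2 [2, 0, 2, 0, 3, 0, 2, 0, 2, 0, 2, 0, 2] [[], []]),
  ([110, 111, 24, 118, 112, 121, 24], .rew [(0, 1, [114, 113], 162, 2, true), (1, 2, [129], 163, 2, true), (2,
    1, [120, 118], 164, 0, false), (1, 2, [115], 165, 2, true), (1, 1, [116, 112], 166, 0, false), (0, 2,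
    [117], 167, 0, false), (0, 1, [24, 121], 168, 0, false), (3, 2, [], 169, 0, false), (2, 2, [], 170, 0,
    false), (1, 2, [], 171, 0, false), (0, 2, [], 47, 0, false)]),
  ([27, 130, 131], .base 0 [2, 0, 2, 0, 2, 0, 3, 0, 2, 0, 3, 0, 2, 0, 2, 2, 0, 2, 0, 3, 0, 3, 0, 2, 0, 2, 0, 2,
    2, 0, 2, 0, 3, 0, 3, 0, 2, 0, 2, 0, 2, 2, 0, 2, 0, 3, 0, 3, 0, 2, 0, 2, 0, 2, 0, 2, 0, 2, 0, 3, 0, 3, 0, 2,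
    0, 2, 0, 2, 2, 0, 2, 0, 3, 0, 3, 0, 2, 0, 2, 0, 2] [[1, 1, 1, 0, 1, 1], [1, 0, 1, 0, 1, 1, 0, 1, 1, 0, 1,
    0, 1, 0, 1, 1, 1, 0, 1, 0, 1], [0, 1, 1, 1, 0, 1, 1, 1, 0, 1, 1]]),
  ([131, 25, 33], .base 0 [3, 0, 2, 0, 2, 0, 2, 0, 2, 0, 2, 0, 3, 0, 3, 0, 3, 0, 3, 0, 3, 0, 2, 2, 0, 2, 0, 3,
    0, 3, 0, 2, 0, 2, 0, 2, 2, 0, 2, 0, 3, 0, 3, 0, 2, 0, 2, 0, 2, 2, 0, 2, 0, 3, 0, 3, 0, 2, 0, 2, 0, 2, 0, 2,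
    0, 2, 0, 3, 0, 3, 0, 2, 0, 2, 0, 2, 2, 0, 2, 0, 3, 0, 3, 0, 2, 0, 2, 0, 2] [[1, 1, 1, 0, 1, 1], [0, 1, 1,
    0, 1, 0, 1, 0, 1, 1, 0, 1, 1, 1, 0, 1, 0, 1, 0, 1, 0, 1, 0, 1, 0], [1, 1, 0, 1, 0, 1, 1, 1, 0, 1, 0, 1, 1,
    1, 0, 1, 1]]),
  ([25, 36, 31], .base 0 [0, 3, 0, 3, 0, 2, 0, 2, 0, 2, 0, 3, 0, 3, 0, 2, 0, 3, 0, 3, 0, 2, 2, 0, 2, 0, 3, 0,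
    3, 0, 2, 0, 2, 0, 2, 0, 2, 0, 2, 0, 3, 0, 3, 0, 2, 0, 2, 0, 2, 2, 0, 2, 0, 3, 0, 3, 0, 2, 0, 2, 0, 2, 2, 0,
    2, 0, 3, 0, 3, 0, 2, 0, 2, 0, 2, 0] [[1, 0, 1, 1, 1, 0], [0, 1, 0, 1, 0, 1, 0, 1, 1, 0, 1, 1, 1, 0, 1, 0,
    1, 1, 1, 0, 1, 1, 1, 0, 1, 1, 1], [0, 1, 0, 1, 0, 1, 1, 0, 1, 0, 1, 1, 1, 0, 1, 1, 0, 1, 1, 1, 0, 1, 1, 0,
    1, 1, 1, 0, 1]]),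
  ([130, 36, 26], .base 0 [3, 0, 2, 0, 2, 0, 2, 0, 3, 0, 2, 0, 3, 0, 3, 0, 3, 0, 2, 0, 2, 0, 3, 0, 2, 0, 2, 0,
    3, 0, 3, 0, 2, 0, 2, 0, 2, 2, 0, 2, 0, 3, 0, 3, 0, 2, 0, 2, 0, 2, 0, 2, 0, 2, 0, 3, 0, 3, 0, 2, 0, 2, 0, 2,
    0, 2, 0, 2, 0, 3, 0, 3, 0, 2, 0, 2, 0, 2, 2, 0, 2, 0, 3, 0, 3, 0, 2, 0, 2, 0, 2] [[0, 1, 1, 0, 1, 0, 1, 1],
    [1, 1, 0, 1, 1, 1, 0, 1, 1, 0, 1, 1, 0, 1, 1, 1, 0, 1, 1, 1, 0, 1, 0, 1], [0, 1, 1, 1, 0, 1, 0, 1, 0, 1, 0,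
    1, 0, 1, 1, 0, 1, 1, 1, 0, 1, 0, 1, 0, 1, 1]]),
  ([31, 30, 27], .base 0 [2, 0, 2, 0, 3, 0, 3, 0, 2, 0, 3, 0, 3, 0, 2, 0, 2, 0, 2, 0, 3, 0, 3, 0, 2, 0, 2, 0,
    2, 2, 0, 2, 0, 3, 0, 3, 0, 2, 0, 2, 0, 2, 0, 2, 0, 2, 0, 3, 0, 3, 0, 2, 0, 2, 0, 2, 2, 0, 2, 0, 3, 0, 3, 0,
    2, 0, 2, 0, 2] [[0, 1, 1, 0, 1, 1], [0, 1, 1, 0, 1, 1, 1, 0, 1, 1, 0, 1, 1, 1, 0, 1, 0], [1, 1, 0, 1, 1, 0,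
    1, 1, 0, 1, 0, 1, 1, 1, 0, 1, 1, 0, 1, 1, 1, 0]]),
  ([27, 33, 27, 33], .rew [(0, 1, [130, 131], 173, 2, true), (1, 2, [25], 174, 2, true), (1, 1, [36, 31], 175,
    2, true), (0, 2, [26], 176, 0, false), (1, 1, [30, 27], 177, 2, true), (0, 2, [33], 149, 0, false), (1, 2,
    [], 151, 0, false), (0, 2, [], 150, 0, false)]),
  ([27, 117, 42], .base 0 [2, 0, 2, 0, 2, 0, 3, 0, 2, 0, 3, 0, 2, 0, 2, 2, 0, 2, 0, 3, 0, 3, 0, 2, 0, 2, 0, 2,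
    0, 2, 0, 2, 0, 3, 0, 3, 0, 2, 0, 2, 0, 2, 0, 2, 0, 2, 0, 3, 0, 3, 0, 2, 0, 2, 0, 2, 2, 0, 2, 0, 3, 0, 3, 0,
    2, 0, 2, 0, 2, 0] [[1, 0, 1, 0, 1, 1, 0], [1, 0, 1, 0, 1, 0, 1, 1, 0, 1, 1, 0, 1, 1, 1, 0, 1, 1, 1, 0, 1,
    0, 1, 0, 1, 0], [1, 0, 1, 0, 1, 1, 1, 0, 1, 1, 1, 0, 1, 0, 1, 1, 0, 1, 0, 1, 0, 1, 0, 1, 0, 1, 1, 1]]),
  ([117, 117], .base 2 [2, 0, 3, 0, 3, 0, 3, 0, 2, 0, 2, 0, 3, 0, 3, 0, 2, 0, 2, 0, 2, 0, 3] [[], []]),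
  ([132, 132], .prodM),
  ([44, 117, 132, 44, 121], .base 1 [2, 0, 3, 0, 2, 0, 2, 0, 3, 0, 3, 0, 2, 0, 2, 0, 2, 0, 3, 2, 0, 2, 0, 3, 0,
    3, 0, 2, 0, 2, 0, 2, 2, 0, 2, 0, 3, 0, 3, 0, 2, 0, 2, 0, 2, 2, 0, 2, 0, 3, 0, 3, 0, 2, 0, 2, 0, 2, 0, 2, 0,
    2, 0, 3, 0, 3, 0, 2, 0, 2, 0, 2, 0, 2, 0, 2, 0, 3, 0, 3, 0, 2, 0, 2, 0, 2, 2, 0, 2, 0, 3, 0, 3, 0, 2, 0, 2,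
    0, 2, 0, 2, 0, 2, 0, 3, 0, 3, 0, 2, 0, 2, 0, 2, 0, 2, 0, 2, 0, 3, 0, 3, 0, 2, 0, 2, 0, 2, 0, 2, 0, 2, 0, 3,
    0, 3, 0, 2, 0, 2, 0, 2, 2, 0, 2, 0, 3, 0, 3, 0, 2, 0, 2, 0, 2, 2, 0, 2, 0, 3, 0, 3, 0, 2, 0, 2, 0, 2,
    0] [[1, 1, 1, 0, 1, 0, 1, 1, 0, 1, 0, 1, 0, 1, 1, 1, 0], [0, 1, 0, 1, 0, 1, 0, 1, 0, 1, 0, 1, 0, 1, 0, 1,
    1, 0, 1, 1, 1], [], [1, 1, 1, 0, 1, 0, 1, 1, 0, 1, 0, 1, 0, 1, 1, 1, 0], [0, 1, 1, 1, 0, 1, 0, 1, 0, 1, 0,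
    1, 1, 0, 1, 1, 0, 1, 0, 1, 1]]),
  ([44, 121, 132, 44, 117], .base 1 [2, 0, 3, 0, 2, 0, 2, 0, 3, 0, 3, 0, 2, 0, 2, 0, 2, 0, 3, 0, 2, 0, 2, 0, 3,
    0, 3, 0, 2, 0, 2, 0, 2, 2, 0, 2, 0, 3, 0, 3, 0, 2, 0, 2, 0, 2, 2, 0, 2, 0, 3, 0, 3, 0, 2, 0, 2, 0, 2, 0, 2,
    0, 2, 0, 3, 0, 3, 0, 2, 0, 2, 0, 2, 0, 2, 0, 2, 0, 3, 0, 3, 0, 2, 0, 2, 0, 2, 2, 0, 2, 0, 3, 0, 3, 0, 2, 0,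
    2, 0, 2, 0, 2, 0, 2, 0, 3, 0, 3, 0, 2, 0, 2, 0, 2, 0, 2, 0, 2, 0, 3, 0, 3, 0, 2, 0, 2, 0, 2, 0, 2, 0, 2, 0,
    3, 0, 3, 0, 2, 0, 2, 0, 2, 2, 0, 2, 0, 3, 0, 3, 0, 2, 0, 2, 0, 2, 2, 0, 2, 0, 3, 0, 3, 0, 2, 0, 2, 0, 2,
    0] [[0, 1, 1, 1, 0, 1, 0, 1, 1, 0, 1, 0, 1, 0, 1, 1, 1, 0], [0, 1, 1, 0, 1, 1, 0, 1, 1, 0, 1, 0, 1, 1, 0,
    1, 0, 1, 0, 1, 1, 0, 1, 0, 1], [], [0, 1, 1, 1, 0, 1, 0, 1, 1, 0, 1, 0, 1, 0, 1, 1, 1, 0], [0, 1, 0, 1, 1,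
    1, 0, 1, 1, 0, 1, 1, 1, 0, 1, 0, 1, 1, 0, 1, 1, 0, 1, 1, 0, 1, 1]]),
  ([132, 44, 132, 44], .conjM [0, 1, 0, 1, 1, 0, 1, 1, 1, 0, 1, 0, 1, 1, 0, 1, 1, 1]),
  ([117, 44, 132, 121, 44], .rew [(0, 5, [], 183, 0, true)]),
  ([133, 133], .prodM),
  ([32, 32], .base 2 [0, 2, 0, 3, 0, 2, 0, 3, 0, 2, 0, 3, 0, 3, 0, 3, 0, 2, 0, 2, 0, 2, 0, 3] [[], []]),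
  ([44, 32, 133, 44, 33], .base 1 [2, 0, 3, 0, 2, 0, 2, 0, 3, 0, 3, 0, 2, 0, 2, 0, 2, 0, 3, 2, 0, 2, 0, 3, 0,
    3, 0, 2, 0, 2, 0, 2, 2, 0, 2, 0, 3, 0, 3, 0, 2, 0, 2, 0, 2, 0, 2, 0, 2, 0, 3, 0, 3, 0, 2, 0, 2, 0, 2, 0, 2,
    0, 2, 0, 3, 0, 3, 0, 2, 0, 2, 0, 2, 2, 0, 2, 0, 3, 0, 3, 0, 2, 0, 2, 0, 2, 0, 2, 0, 2, 0, 3, 0, 3, 0, 2, 0,
    2, 0, 2, 0, 2, 0, 2, 0, 3, 0, 3, 0, 2, 0, 2, 0, 2, 2, 0, 2, 0, 3, 0, 3, 0, 2, 0, 2, 0, 2, 0, 2, 0, 2, 0, 3,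
    0, 3, 0, 2, 0, 2, 0, 2, 0] [[1, 1, 0, 1, 0, 1, 1, 0, 1, 0, 1, 1, 0, 1, 0], [1, 1, 1, 0, 1, 0, 1, 1, 1, 0,
    1, 1, 1, 0, 1, 1, 0, 1, 1, 1, 0, 1, 1, 0], [], [1, 1, 0, 1, 0, 1, 1, 0, 1, 0, 1, 1, 0, 1, 0], [0, 1, 1, 0,
    1, 1, 1, 0, 1, 1, 0, 1, 1, 0, 1, 1, 1, 0, 1, 1, 0, 1, 1, 0, 1, 1, 0]]),
  ([44, 33, 133, 44, 32], .base 1 [2, 0, 3, 0, 2, 0, 2, 0, 3, 0, 3, 0, 2, 0, 2, 0, 2, 0, 3, 0, 2, 0, 2, 0, 3,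
    0, 3, 0, 2, 0, 2, 0, 2, 2, 0, 2, 0, 3, 0, 3, 0, 2, 0, 2, 0, 2, 0, 2, 0, 2, 0, 3, 0, 3, 0, 2, 0, 2, 0, 2, 0,
    2, 0, 2, 0, 3, 0, 3, 0, 2, 0, 2, 0, 2, 2, 0, 2, 0, 3, 0, 3, 0, 2, 0, 2, 0, 2, 0, 2, 0, 2, 0, 3, 0, 3, 0, 2,
    0, 2, 0, 2, 0, 2, 0, 2, 0, 3, 0, 3, 0, 2, 0, 2, 0, 2, 2, 0, 2, 0, 3, 0, 3, 0, 2, 0, 2, 0, 2, 0, 2, 0, 2, 0,
    3, 0, 3, 0, 2, 0, 2, 0, 2, 0] [[0, 1, 1, 0, 1, 0, 1, 1, 0, 1, 0, 1, 1, 0, 1, 0], [1, 1, 0, 1, 0, 1, 1, 0,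
    1, 1, 0, 1, 0, 1, 0, 1, 1, 0, 1, 1, 0, 1, 0, 1, 1], [], [0, 1, 1, 0, 1, 0, 1, 1, 0, 1, 0, 1, 1, 0, 1, 0],
    [0, 1, 0, 1, 1, 1, 0, 1, 0, 1, 1, 0, 1, 0, 1, 0, 1, 0, 1, 0, 1, 1, 1, 0, 1, 0, 1, 1]]),
  ([133, 44, 133, 44], .conjM [1, 0, 1, 0, 1, 1, 1, 0, 1, 0, 1, 1, 0, 1, 1, 1, 0, 1, 0, 1, 1, 1, 0, 1, 1, 1]),
  ([33, 44, 133, 32, 44], .rew [(0, 5, [], 188, 0, true)]),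
  ([36, 112, 44], .base 0 [3, 0, 2, 0, 3, 2, 0, 2, 0, 3, 0, 3, 0, 2, 0, 2, 0, 2, 2, 0, 2, 0, 3, 0, 3, 0, 2, 0,
    2, 0, 2, 2, 0, 2, 0, 3, 0, 3, 0, 2, 0, 2, 0, 2, 0, 2, 0, 2, 0, 3, 0, 3, 0, 2, 0, 2, 0, 2, 0, 2, 0, 2, 0, 3,
    0, 3, 0, 2, 0, 2, 0, 2, 2, 0, 2, 0, 3, 0, 3, 0, 2, 0, 2, 0, 2] [[1, 1, 1, 0, 1, 0, 1, 1], [0, 1, 1, 1, 0,
    1, 0, 1, 1, 0, 1, 1, 1, 0, 1, 1, 0, 1, 1, 0, 1, 0, 1, 1], [0, 1, 0, 1, 1, 1, 0, 1, 1, 0, 1, 1, 0, 1, 1, 1,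
    0, 1]]),
  ([133, 121, 133, 121], .conjM [1, 0, 1, 1, 0, 1, 1, 0, 1, 1, 0, 1, 1, 0, 1, 1, 0, 1]),
  ([133, 132, 134], .prodM),
  ([134, 46, 134, 46], .conjM [0, 1, 0, 1, 1, 1, 0, 1, 0, 1, 0, 1, 1, 0, 1, 1, 0, 1, 1, 0, 1, 1, 1, 0, 1, 1]),
  ([134, 134], .prodM),
  ([46, 117, 134, 46, 121], .base 1 [0, 2, 0, 3, 0, 2, 0, 2, 0, 3, 0, 3, 0, 2, 0, 2, 0, 2, 0, 3, 2, 0, 2, 0, 3,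
    0, 3, 0, 2, 0, 2, 0, 2, 0, 2, 0, 2, 0, 3, 0, 3, 0, 2, 0, 2, 0, 2, 0, 2, 0, 2, 0, 3, 0, 3, 0, 2, 0, 2, 0, 2,
    2, 0, 2, 0, 3, 0, 3, 0, 2, 0, 2, 0, 2, 2, 0, 2, 0, 3, 0, 3, 0, 2, 0, 2, 0, 2, 0, 2, 0, 2, 0, 3, 0, 3, 0, 2,
    0, 2, 0, 2, 2, 0, 2, 0, 3, 0, 3, 0, 2, 0, 2, 0, 2, 0, 2, 0, 2, 0, 3, 0, 3, 0, 2, 0, 2, 0, 2, 2, 0, 2, 0, 3,
    0, 3, 0, 2, 0, 2, 0, 2, 2, 0, 2, 0, 3, 0, 3, 0, 2, 0, 2, 0, 2, 0] [[1, 0, 1, 0, 1, 1, 1, 0, 1, 1, 0, 1, 1,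
    1, 0], [0, 1, 0, 1, 1, 0, 1, 1, 0, 1, 1, 0, 1, 0, 1, 1, 1, 0, 1, 1, 0, 1, 1, 1, 0, 1, 1], [], [1, 0, 1, 0,
    1, 1, 1, 0, 1, 1, 0, 1, 1, 1, 0], [1, 0, 1, 1, 0, 1, 1, 0, 1, 1, 1, 0, 1, 1, 0, 1, 1, 0, 1, 0, 1, 0, 1,
    1]]),
  ([46, 121, 134, 46, 117], .base 1 [0, 2, 0, 3, 0, 2, 0, 2, 0, 3, 0, 3, 0, 2, 0, 2, 0, 2, 0, 3, 2, 0, 2, 0, 3,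
    0, 3, 0, 2, 0, 2, 0, 2, 0, 2, 0, 2, 0, 3, 0, 3, 0, 2, 0, 2, 0, 2, 0, 2, 0, 2, 0, 3, 0, 3, 0, 2, 0, 2, 0, 2,
    2, 0, 2, 0, 3, 0, 3, 0, 2, 0, 2, 0, 2, 2, 0, 2, 0, 3, 0, 3, 0, 2, 0, 2, 0, 2, 0, 2, 0, 2, 0, 3, 0, 3, 0, 2,
    0, 2, 0, 2, 2, 0, 2, 0, 3, 0, 3, 0, 2, 0, 2, 0, 2, 0, 2, 0, 2, 0, 3, 0, 3, 0, 2, 0, 2, 0, 2, 2, 0, 2, 0, 3,
    0, 3, 0, 2, 0, 2, 0, 2, 2, 0, 2, 0, 3, 0, 3, 0, 2, 0, 2, 0, 2, 0, 2, 0, 2, 0, 3, 0, 3, 0, 2, 0, 2, 0,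
    2] [[1, 0, 1, 0, 1, 1, 1, 0, 1, 1, 0, 1, 1, 1, 0, 1], [0, 1, 1, 1, 0, 1, 1, 0, 1, 1, 0, 1, 1, 0, 1, 1, 1,
    0, 1, 0, 1, 1, 0, 1, 1], [], [1, 0, 1, 0, 1, 1, 1, 0, 1, 1, 0, 1, 1, 1, 0, 1], [0, 1, 1, 1, 0, 1, 0, 1, 1,
    0, 1, 1, 0, 1, 1, 0, 1, 0, 1, 0, 1, 1]]),
  ([121, 46, 134, 117, 46], .rew [(0, 5, [], 197, 0, true)])
]

/-- Relations with proofs, part 5. -/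
def items1_5 : List (List ℕ × Prf) := [
  ([32, 120, 46], .base 0 [0, 2, 0, 3, 0, 2, 0, 3, 0, 2, 0, 3, 0, 3, 0, 3, 0, 2, 0, 2, 0, 2, 0, 3, 2, 0, 2, 0,
    3, 0, 3, 0, 2, 0, 2, 0, 2, 2, 0, 2, 0, 3, 0, 3, 0, 2, 0, 2, 0, 2, 0, 2, 0, 2, 0, 3, 0, 3, 0, 2, 0, 2, 0, 2,
    0, 2, 0, 2, 0, 3, 0, 3, 0, 2, 0, 2, 0, 2, 2, 0, 2, 0, 3, 0, 3, 0, 2, 0, 2, 0, 2, 2, 0, 2, 0, 3, 0, 3, 0, 2,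
    0, 2, 0, 2, 0] [[1, 1, 0, 1, 0, 1, 1, 1, 0], [1, 1, 1, 0, 1, 1, 0, 1, 1, 0, 1, 1, 1, 0, 1, 0, 1, 0, 1, 0,
    1, 1, 1, 0], [1, 0, 1, 1, 1, 0, 1, 0, 1, 1, 0, 1, 1, 0, 1, 1, 1]]),
  ([112, 24, 113], .base 0 [3, 0, 3, 0, 3, 0, 2, 0, 2, 0, 2, 0, 2, 2, 0, 2, 0, 3, 0, 3, 0, 2, 0, 2, 0, 2, 2, 0,
    2, 0, 3, 0, 3, 0, 2, 0, 2, 0, 2, 0, 2, 0, 2, 0, 3, 0, 3, 0, 2, 0, 2, 0, 2, 0, 2, 0, 2, 0, 3, 0, 3, 0, 2, 0,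
    2, 0, 2, 2, 0, 2, 0, 3, 0, 3, 0, 2, 0, 2, 0, 2] [[1, 1, 0, 1, 0, 1, 1], [0, 1, 1, 1, 0, 1, 0, 1, 1, 0, 1,
    1, 1, 0, 1, 1, 0, 1, 1, 0, 1, 0, 1, 1], [1, 1, 1, 0, 1, 0, 1, 1, 1, 0, 1, 1, 0, 1, 1, 0, 1, 1, 1, 0, 1]]),
  ([118, 110, 135], .base 0 [0, 3, 0, 3, 0, 2, 0, 3, 0, 2, 0, 3, 0, 2, 0, 2, 0, 2, 0, 2, 0, 3, 0, 3, 0, 2, 0,
    2, 0, 2, 0, 2, 0, 2, 0, 3, 0, 3, 0, 2, 0, 2, 0, 2, 0, 2, 0, 2, 0, 3, 0, 3, 0, 2, 0, 2, 0, 2, 2, 0, 2, 0, 3,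
    0, 3, 0, 2, 0, 2, 0, 2, 2, 0, 2, 0, 3, 0, 3, 0, 2, 0, 2, 0, 2, 0] [[0, 1, 0, 1, 0, 1, 1, 1, 0], [0, 1, 1,
    0, 1, 1, 1, 0, 1, 1, 0, 1, 1, 1, 0, 1, 0, 1, 0, 1, 0, 1, 0, 1, 0, 1, 0, 1], [0, 1, 1, 0, 1, 1, 1, 0, 1, 1,
    1, 0, 1, 0, 1, 1]]),
  ([135, 112, 119], .base 0 [0, 2, 0, 3, 0, 3, 0, 3, 0, 3, 0, 3, 0, 2, 0, 3, 0, 2, 0, 2, 0, 3, 0, 3, 0, 2, 2,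
    0, 2, 0, 3, 0, 3, 0, 2, 0, 2, 0, 2, 2, 0, 2, 0, 3, 0, 3, 0, 2, 0, 2, 0, 2, 2, 0, 2, 0, 3, 0, 3, 0, 2, 0, 2,
    0, 2] [[1, 1, 1], [1, 1, 1, 0, 1, 1, 1, 0, 1, 0, 1, 1, 0, 1, 1, 0, 1, 0, 1, 0, 1, 1, 0, 1, 0, 1, 0], [1, 1,
    0, 1, 1, 1, 0, 1, 0, 1, 0, 1, 0, 1, 1, 0, 1, 1, 0, 1, 1, 1, 0, 1, 0, 1, 1]]),
  ([119, 120, 114], .base 0 [0, 3, 0, 2, 0, 2, 0, 3, 0, 3, 0, 2, 0, 2, 0, 2, 0, 3, 0, 2, 0, 2, 0, 2, 0, 2, 0,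
    2, 2, 0, 2, 0, 3, 0, 3, 0, 2, 0, 2, 0, 2, 2, 0, 2, 0, 3, 0, 3, 0, 2, 0, 2, 0, 2, 2, 0, 2, 0, 3, 0, 3, 0, 2,
    0, 2, 0, 2] [[1, 1, 1], [1, 0, 1, 0, 1, 0, 1, 0, 1, 0, 1, 0, 1, 0, 1, 0, 1, 1, 0, 1, 0, 1, 0, 1, 0, 1, 1,
    1, 0], [0, 1, 0, 1, 0, 1, 0, 1, 1, 0, 1, 0, 1, 0, 1, 0, 1, 1, 0, 1, 1, 0, 1, 0, 1]]),
  ([120, 120], .base 2 [0, 2, 0, 3, 0, 2, 0, 3, 0, 2, 0, 2, 0, 3, 0, 2, 0, 3] [[], []]),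
  ([120, 112, 120, 112], .rew [(0, 1, [24, 118], 138, 2, true), (1, 1, [110, 135], 202, 2, true), (2, 2, [119],
    203, 0, false), (2, 1, [114, 120], 204, 0, false), (1, 2, [113], 162, 0, false), (0, 2, [112], 132, 2,
    true), (1, 2, [], 205, 0, false), (0, 2, [], 170, 0, false)]),
  ([25, 24, 26, 41, 42, 43, 110, 111, 24], .rew [(0, 3, [24, 36, 27, 33], 153, 0, false), (4, 3, [42, 44, 46],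
    161, 0, false), (7, 3, [24, 121, 112, 118], 172, 0, false), (2, 2, [33, 27], 178, 0, false), (3, 2, [117],
    179, 2, true), (3, 2, [44, 121, 132], 185, 0, false), (2, 2, [44, 32, 133], 191, 0, false), (1, 2, [112],
    192, 2, true), (3, 2, [121, 133], 193, 0, false), (4, 2, [134], 194, 0, false), (4, 2, [46, 134], 195, 0,
    false), (3, 2, [46, 117, 134], 199, 0, false), (2, 2, [120], 200, 2, true), (4, 2, [], 196, 0, false), (3,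
    2, [121], 168, 2, true), (3, 1, [24, 117], 168, 1, true), (2, 2, [118], 138, 0, false), (2, 1, [24, 120],
    138, 2, false), (1, 2, [113], 201, 0, false), (1, 1, [24, 112], 201, 2, false), (0, 2, [], 47, 0, false),
    (2, 2, [24], 168, 0, false), (1, 2, [118], 138, 0, false), (1, 1, [24, 120], 138, 2, false), (0, 2, [113],
    201, 0, false), (0, 1, [24, 112], 201, 2, false), (2, 2, [112, 120], 206, 0, false), (1, 2, [], 170, 0,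
    false), (1, 2, [24], 138, 2, true), (0, 2, [], 47, 0, false)]),
  ([38, 39, 40, 47, 48, 49, 122, 123, 124], .rew [(0, 1, [25], 52, 0, false), (1, 1, [24], 53, 0, false), (2,
    1, [26], 54, 0, false), (3, 1, [41], 63, 0, false), (4, 1, [42], 64, 0, false), (5, 1, [43], 65, 0, false),
    (6, 1, [110], 144, 0, false), (7, 1, [111], 145, 0, false), (8, 1, [24], 146, 0, false), (0, 9, [], 207, 0,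
    false)])
]

/-- All the relations. -/
def items1 : List (List ℕ × Prf) :=
  items1_0 ++ items1_1 ++ items1_2 ++ items1_3 ++ items1_4 ++ items1_5

end CfsgLib.Sporadic.J4Inj
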