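import Cfsg.Agent.Lib.Sporadic.J4Inj.Nodes

set_option autoImplicit false
set_option maxRecDepth 20000

/-!
# Data: traced words of the closure identities (owner: helper21)
-/

namespace CfsgLib.Sporadic.J4Inj

/-- Traced words, part 0. -/
def tgt0 : List ((List ℕ × List (ℕ × List ℕ)) × (List ℕ × List (ℕ × List ℕ)) × ℕ) := [
  (([0], []),
    ([0], []), 10576),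
  (([2], []),
    ([2], []), 10576),
  (([6], []),
    ([6], []), 10576),
  (([7], []),
    ([7], []), 10576),
  (([8], []),
    ([8], []), 10576),
  (([9], []),
    ([9], []), 10576),
  (([10], []),
    ([10], []), 10576),
  (([11], []),
    ([11], []), 10576),
  (([12], []),
    ([12], []), 10576),
  (([13], []),
    ([13], []), 10576),
  (([14], []),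
    ([14], []), 10576),
  (([15], []),
    ([15], []), 10576),
  (([16], []),
    ([16], []), 10576),
  (([], [(2732, [])]),
    ([], [(2732, [])]), 10576),
  (([7, 8, 10, 13, 15, 0, 3, 0, 2, 0, 2, 0, 2, 0, 3, 0, 3, 0, 3, 0, 3, 0, 2, 0, 2, 0, 2, 0, 2, 0, 2, 0, 3, 0, 3, 0, 2, 0, 2, 0, 2, 0, 3, 0, 2, 0, 3, 0, 3, 0, 3, 0, 2, 0, 3, 0, 2, 0, 2, 0, 3, 0], [(2736, [])]),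
    ([], [(2732, [7, 10, 2, 0, 3, 0, 2, 0, 2, 0, 3, 0, 2, 0, 2, 0, 2, 0, 2, 0, 2, 0, 2, 0, 3, 0, 3, 0, 3, 0, 3, 0, 3, 0, 2, 0, 3, 0, 2, 0, 3, 0, 2, 0, 2, 0, 3, 0, 2, 0, 2, 0, 2, 0])]), 3013),
  (([8, 9, 10, 12, 13, 14, 16, 2, 0, 2, 0, 2, 0, 3, 0, 2, 0, 3, 0, 2, 0, 3, 0, 2, 0, 3, 0, 3, 0, 3, 0, 3, 0, 3, 0, 2, 0, 3, 0, 3, 0, 2, 0, 3, 0, 2, 0, 2, 0, 3, 0, 2, 0, 2, 0, 3], [(3019, [])]),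
    ([], [(2732, [9, 10, 12, 14, 15, 0, 2, 0, 3, 0, 3, 0, 2, 0, 3, 0, 2, 0, 3, 0, 2, 0, 3, 0, 3, 0, 3, 0, 2, 0, 3, 0, 3, 0, 3, 0, 3, 0, 3, 0, 2, 0, 3, 0, 3, 0, 3, 0, 2, 0, 2, 0, 3, 0, 3, 0, 3, 0, 3, 0, 3])]), 3035),
  (([8], [(3037, [])]),
    ([], [(2732, [8, 2, 0, 2, 0, 2, 0, 2, 0, 3, 0, 2, 0, 2, 0, 3, 0, 3, 0, 3, 0, 2, 0, 3, 0, 2, 0, 2, 0, 2, 0, 3, 0, 2, 0, 2, 0, 3, 0, 3, 0, 3, 0, 3, 0, 3, 0, 2, 0, 3, 0, 2])]), 3045),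
  (([9], [(3046, [])]),
    ([], [(2732, [9, 2, 0, 2, 0, 2, 0, 2, 0, 3, 0, 2, 0, 2, 0, 3, 0, 3, 0, 3, 0, 2, 0, 3, 0, 2, 0, 2, 0, 2, 0, 3, 0, 2, 0, 2, 0, 3, 0, 3, 0, 3, 0, 2, 0, 2])]), 3055),
  (([7, 10], [(3056, [])]),
    ([], [(2732, [7, 8, 10, 13, 15, 0, 3, 0, 2, 0, 2, 0, 3, 0, 2, 0, 3, 0, 3, 0, 3, 0, 3, 0, 3, 0, 3, 0, 3, 0, 2, 0, 3, 0, 3, 0, 3, 0, 2, 0, 2, 0, 2, 0, 2, 0, 2, 0, 3, 0, 2, 0, 3, 0, 3, 0, 2, 0, 2, 0, 2, 0, 3])]), 3058),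
  (([11], [(3060, [])]),
    ([], [(2732, [11, 16, 2, 0, 3, 0, 2, 0, 2, 0, 2, 0, 2, 0, 3, 0, 2, 0, 3, 0, 3, 0, 2, 0, 2, 0, 3, 0, 2, 0, 3, 0, 2, 0, 3, 0, 2, 0, 2, 0, 2, 0, 3, 0, 2, 0, 3, 0, 2])]), 3070),
  (([6, 7, 12], [(3074, [])]),
    ([], [(2732, [6, 7, 12, 0, 3, 0, 3, 0, 2, 0, 3, 0, 3, 0, 2, 0, 3, 0, 3, 0, 3, 0, 2, 0, 3, 0, 2, 0, 3, 0, 2, 0, 3, 0, 3, 0, 2, 0, 3, 0, 2, 0, 2, 0, 3, 0, 3, 0, 3, 0, 2])]), 3084),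
  (([7, 13], [(3087, [])]),
    ([], [(2732, [7, 13, 0, 2, 0, 2, 0, 2, 0, 3, 0, 2, 0, 2, 0, 2, 0, 3, 0, 3, 0, 2, 0, 3, 0, 3, 0, 3, 0, 3, 0, 3, 0, 2, 0, 3, 0, 3, 0, 3, 0, 3, 0, 2, 0, 2, 0, 2, 0, 2, 0, 2, 0, 2])]), 3093)
]

/-- Traced words, part 1. -/
def tgt1 : List ((List ℕ × List (ℕ × List ℕ)) × (List ℕ × List (ℕ × List ℕ)) × ℕ) := [
  (([6, 7, 14], [(3095, [])]),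
    ([], [(2732, [8, 9, 3, 0, 2, 0, 3, 0, 2, 0, 3, 0, 2])]), 3103),
  (([7, 15], [(3106, [])]),
    ([], [(2732, [7, 15, 3, 0, 2, 0, 2, 0, 3, 0, 2, 0, 2, 0, 3, 0, 3, 0, 3, 0, 3, 0, 3, 0, 2, 0, 2, 0, 2, 0, 2, 0, 2, 0, 3, 0, 3, 0, 2, 0, 2, 0, 2, 0, 3, 0, 2])]), 3112),
  (([16], [(3113, [])]),
    ([], [(2732, [16])]), 10576),
  (([], [(2732, []), (3114, [])]),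
    ([], []), 10576),
  (([], [(2732, [3]), (3122, [])]),
    ([6, 8, 9, 12, 13, 3], [(3126, [2]), (3136, [6, 8, 9, 12, 13, 2, 0, 2, 0, 2, 0, 2, 0, 3, 0, 3, 0, 2, 0, 3, 0, 3, 0, 3, 0, 2, 0, 2, 0, 2, 0, 2, 0, 3, 0, 2, 0, 3, 0, 3, 0, 2, 0, 2, 0, 3, 0, 2, 0, 3, 0, 2])]), 3353),
  (([], [(2732, [6]), (3461, [])]),
    ([6], [(3462, [6, 8, 13, 15, 16, 2, 0, 2, 0, 2, 0, 3, 0, 3, 0, 2, 0, 3, 0, 3, 0, 3, 0, 2, 0, 3, 0, 2, 0, 3, 0, 2, 0, 3, 0, 3, 0, 2, 0, 3, 0, 2, 0, 2, 0, 3, 0, 3, 0, 3, 0, 2, 0, 3, 0, 2, 0, 3])]), 3469),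
  (([], [(2732, [3, 1, 3]), (3470, [])]),
    ([8, 9, 12, 13, 14, 0, 2, 0, 2, 0, 3, 0, 2, 0, 3, 0, 3, 0, 3, 0, 2, 0, 2, 0, 3, 0, 3, 0, 3, 0, 3, 0, 2, 0], [(3497, [2, 0, 2]), (3506, [8, 9, 12, 13, 14, 2, 0, 3, 0, 3, 0, 2, 0, 3, 0, 3, 0, 3, 0, 3, 0, 3, 0, 2, 0, 3, 0, 2, 0, 3, 0, 2, 0, 3, 0, 2, 0, 3, 0, 2, 0, 2, 0, 3, 0, 3, 0, 2, 0, 3, 0, 2, 0, 2, 0, 2, 0, 3, 0, 3])]), 3554),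
  (([], [(2732, [3, 1, 3, 3]), (2931, [])]),
    ([6, 8, 10, 14, 2, 0, 2, 0, 2, 0, 2, 0, 3, 0, 2, 0, 2, 0, 3, 0, 3, 0, 3, 0, 3], [(3579, [9, 10, 12, 13, 14, 16, 2, 0, 2, 0, 3, 0, 2, 0, 3, 0, 2, 0, 3, 0, 2, 0, 2, 0, 2, 0, 3, 0, 2, 0, 2, 0, 3, 0, 3, 0, 3, 0, 2, 0, 3, 0, 3, 0, 2, 0, 3, 0, 2, 0, 2, 0, 3, 0, 2, 0, 2, 0, 2])]), 3586),
  (([], [(2732, [3, 1, 3, 3, 1, 3]), (3592, [])]),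
    ([7, 12, 15, 3, 0, 2, 0, 2, 0, 2, 0, 3, 0, 2, 0, 3, 0, 3, 0, 3, 0, 2], [(3614, [8, 9, 10, 11, 12, 14, 15, 16, 0, 3, 0, 2, 0, 3, 0, 2, 0, 3, 0, 3, 0, 3, 0, 2, 0, 2, 0, 2, 0, 3, 0, 3, 0, 2, 0, 2, 0, 3, 0, 2, 0, 3, 0, 3, 0, 3, 0, 3, 0, 3, 0, 2, 0, 3, 0, 3, 0, 3, 0, 3, 0, 2])]), 3622),
  (([], [(2732, [3, 1, 3, 3, 1, 6, 3]), (3630, [])]),
    ([6, 7, 11, 3, 0, 2, 0, 3], [(3634, [2, 6, 0, 2, 2, 0, 2]), (3640, [7, 9, 11, 12, 14, 16, 0, 3, 0, 2, 0, 2, 0, 3, 0, 3, 0, 2, 0, 2, 0, 2, 0, 2, 0, 2, 0, 2, 0, 3, 0, 3, 0, 2, 0, 3, 0, 2, 0, 3, 0, 2, 0, 3, 0, 2, 0, 3, 0, 3, 0, 2, 0, 3])]), 3786),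
  (([6, 7, 12, 0, 3, 0, 2, 0, 3, 0, 2, 0, 3, 0, 3, 0, 3, 0, 2, 0, 2, 0, 2, 0, 3, 0, 3, 0, 2, 0, 2, 0, 3, 0, 3, 0, 3, 0, 2, 0, 2, 0, 2, 0, 3, 0, 2, 0, 3, 0, 2, 0], [(3787, [2, 0, 2]), (3794, [])]),
    ([], [(2732, [2, 0, 2]), (3187, [7, 8, 9, 15, 16, 0, 2, 0, 3, 0, 2, 0, 2, 0, 3, 0, 3, 0, 3, 0, 2, 0, 3, 0, 2, 0, 3, 0, 3, 0, 3, 0, 2, 0, 2, 0, 2, 0, 3, 0, 2, 0, 3, 0, 2, 0, 2, 0, 2, 0, 3, 0, 3, 0, 2, 0, 3, 0])]), 3795),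
  (([6, 8, 10, 11, 15, 16, 2, 0, 3, 0, 2, 0, 2, 0, 3, 0, 2, 0, 2, 0, 2, 0, 3, 0, 3, 0, 3, 0, 3, 0, 2, 0, 3, 0, 3, 0, 3, 0, 3, 0, 2, 0, 3, 0, 3, 0, 2, 0, 3, 0, 3], [(3822, [2, 0, 2]), (3827, [])]),
    ([], [(2732, [2, 0, 2]), (3187, [6, 14, 16, 0, 3, 0, 2, 0, 2, 0, 3, 0, 3, 0, 2, 0, 3, 0, 3, 0, 3, 0, 2, 0, 3, 0, 2, 0, 3, 0, 3, 0, 3, 0, 3, 0, 3, 0, 2, 0, 2, 0, 2, 0, 3, 0, 3, 0, 3, 0, 2, 0, 2, 0, 2])]), 3832),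
  (([6, 7, 9, 13, 14, 15], [(3833, [2, 0, 2]), (3844, [])]),
    ([], [(2732, [2, 0, 2]), (3187, [6, 7, 10, 12, 13, 16, 0, 2, 0, 3, 0, 2, 0, 3, 0, 3, 0, 2, 0, 3, 0, 2, 0, 2, 0, 3, 0, 2, 0, 3, 0, 2, 0, 3, 0, 2, 0, 3, 0, 2, 0, 2, 0, 3, 0, 3, 0, 2, 0, 2, 0, 3, 0, 3, 0, 3, 0, 2])]), 3855),
  (([], [(2732, []), (3114, [2, 0, 2]), (3856, [])]),
    ([6, 9, 10, 14, 2, 0, 2], [(3861, [6, 7, 8, 9, 10, 11, 13, 14, 16, 0, 2, 0, 2, 0, 3, 0, 3, 0, 2, 0, 2, 0, 2, 0, 3, 0, 2, 0, 3, 0, 2, 0, 3, 0, 2, 0, 3, 0, 3, 0, 3, 0, 2, 0, 2, 0, 3, 0, 3, 0])]), 3869),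
  (([], [(2732, [3]), (3870, [2, 0, 2]), (3881, [])]),
    ([6, 8, 9, 11, 13, 14, 15, 16, 0, 2, 0, 3, 0, 3, 0, 2, 0, 2, 0, 2, 0, 2, 0, 2, 0, 2, 0, 2, 0, 2, 0, 3, 0, 3, 0, 3, 0, 3, 0, 3, 0, 2, 0, 3, 0], [(3894, [2]), (3896, [0, 2]), (3899, [10, 11, 12, 13, 15, 16, 0, 2, 0, 3, 0, 2, 0, 2, 0, 2, 0, 2, 0, 3, 0, 2, 0, 3, 0, 3, 0, 2, 0, 2, 0, 2, 0, 2, 0, 3, 0, 3, 0, 2, 0, 3, 0, 3, 0, 3, 0, 3, 0, 3])]), 4077),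
  (([], [(2732, [6]), (3461, [2, 0, 2]), (4087, [])]),
    ([6, 8, 9, 11, 12, 13, 15, 16, 2, 0, 3, 0, 2, 0, 2, 0, 3, 0, 3, 0, 3, 0, 3, 0, 2, 0, 3, 0, 3, 0, 3, 0, 2, 0, 2, 0, 3, 0, 3, 0, 3, 0, 3, 0, 2, 0], [(4102, [2, 0, 2]), (4109, [6, 9, 11, 12, 14, 2, 0, 3, 0, 2, 0, 3, 0, 3, 0, 3, 0, 2, 0, 3, 0, 2, 0, 3, 0, 3, 0, 2, 0, 3, 0, 2, 0, 3, 0, 3, 0, 3, 0, 3, 0, 2, 0, 3, 0, 2, 0, 2, 0, 3, 0, 3, 0, 2, 0, 3, 0, 3, 0])]), 4114),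
  (([], [(2732, [3, 1]), (4115, [2, 0, 2]), (4118, [])]),
    ([7, 11, 16, 0, 3, 0, 3, 0, 3, 0, 3, 0, 2, 0, 2, 0, 3, 0, 2, 0, 3, 0, 2, 0, 3, 0, 2, 0, 2, 0, 3, 0, 3, 0, 3, 0, 3, 0, 2, 0, 2, 0, 3, 0, 3, 0, 3, 0, 3, 0, 2, 0, 3], [(4140, [2]), (4145, [0, 2]), (4147, [6, 8, 9, 11, 12, 13, 14, 15, 16, 3, 0, 2, 0, 2, 0, 2, 0, 2, 0, 2, 0, 3, 0, 3, 0, 3, 0, 3, 0, 2, 0, 2, 0, 2, 0, 3, 0, 3, 0, 3, 0, 3, 0, 3, 0, 2, 0, 3, 0, 2, 0, 3, 0, 3, 0, 3, 0, 3, 0, 3, 0, 3])]), 4168),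
  (([], [(2732, [3, 3]), (2829, [2, 0, 2]), (3320, [])]),
    ([6, 8, 9, 12, 13, 16, 2, 0, 2, 0, 2, 0, 3, 0, 3, 0, 3, 0, 3, 0, 2, 0, 3, 0, 2, 0, 2, 0, 2, 0, 2, 0, 3, 0, 2, 0, 2, 0, 2, 0, 2, 0, 2, 0, 3, 0, 2, 0, 2, 0, 2, 0, 2, 0, 3, 0, 3], [(4183, [2, 0, 2]), (4191, [6, 7, 8, 9, 11, 13, 14, 15, 2, 0, 2, 0, 2, 0, 2, 0, 3, 0, 3, 0, 3, 0, 2, 0, 2, 0, 3, 0, 3, 0, 2, 0, 2, 0, 2, 0, 3, 0, 3, 0, 2, 0, 2, 0, 3, 0, 3, 0, 3, 0, 2, 0, 2, 0, 2, 0, 3, 0, 2, 0, 3, 0])]), 4196),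
  (([], [(2732, [3, 1, 3]), (4197, [2, 0, 2]), (4232, [])]),
    ([7, 10, 12, 13, 15, 0, 2, 0, 3, 0, 2, 0, 3, 0, 2, 0, 2, 0, 2, 0, 3, 0, 3, 0, 2, 0, 3, 0, 3, 0, 3, 0, 3, 0, 3, 0, 3, 0, 3, 0, 3, 0, 2, 0, 2, 0, 3, 0, 3, 0, 3, 0, 3, 0, 2, 0], [(4253, [2, 0, 2]), (4262, [7, 9, 12, 16, 3, 0, 2, 0, 2, 0, 2, 0, 3, 0, 3, 0, 3, 0, 3, 0, 2, 0, 2, 0, 3, 0, 3, 0, 2, 0, 3, 0, 3, 0, 3, 0, 3, 0, 2, 0, 2, 0, 2, 0, 2, 0, 3, 0, 3, 0, 2, 0, 3, 0, 2, 0, 2, 0])]), 4269),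
  (([], [(2732, [3, 3, 1]), (4270, [2, 0, 2]), (5387, [])]),
    ([6, 7, 8, 9, 10, 11, 12, 13, 14, 15, 16, 2, 0, 2, 0, 3, 0, 3, 0, 2, 0, 3, 0, 3, 0, 2, 0, 3, 0, 2, 0, 3, 0, 3, 0, 3, 0, 2, 0, 3, 0, 2, 0, 3, 0, 3, 0, 2, 0, 2, 0, 3, 0, 2, 0, 3, 0], [(5413, [2]), (5422, [0, 2]), (5425, [6, 7, 8, 10, 12, 15, 16, 2, 0, 2, 0, 2, 0, 3, 0, 3, 0, 2, 0, 2, 0, 2, 0, 2, 0, 2, 0, 2, 0, 3, 0, 2, 0, 2, 0, 2, 0, 2, 0, 2, 0, 3, 0, 2, 0, 2, 0, 2, 0, 2, 0, 3, 0, 3, 0, 3, 0, 3])]), 5431),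
  (([], [(2732, [6, 3, 1]), (5440, [2, 0, 2]), (5461, [])]),
    ([6, 10, 16, 0, 3, 0, 2, 0, 2, 0, 2, 0, 2, 0, 2, 0, 2, 0, 3, 0, 2, 0, 2, 0, 3, 0, 3, 0, 2, 0, 3, 0, 2, 0, 3, 0, 2, 0, 3, 0, 3, 0, 3, 0, 3], [(5486, [2]), (5492, [2]), (5495, [6, 8, 15, 2, 0, 3, 0, 3, 0, 3, 0, 3, 0, 2, 0, 3, 0, 3, 0, 2, 0, 3, 0, 2, 0, 2, 0, 2, 0, 2, 0, 2, 0, 3, 0, 3, 0, 2, 0, 3, 0, 2, 0, 2, 0, 3, 0, 2, 0, 2, 0, 3])]), 5513),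
  (([], [(2732, [3, 1, 3, 3]), (2931, [2, 0, 2]), (5521, [])]),
    ([8, 9, 11, 12, 13, 15, 16, 3, 0, 2, 0, 2, 0, 2, 0, 2, 0, 2, 0, 3, 0, 3, 0, 3, 0, 3, 0, 3, 0, 3, 0, 3, 0, 2, 0, 2, 0, 3, 0, 3, 0, 2, 0, 2, 0], [(5539, [2, 0, 2]), (5546, [6, 9, 11, 13, 14, 16, 0, 3, 0, 3, 0, 3, 0, 2, 0, 2, 0, 2, 0, 2, 0, 2, 0, 3, 0, 3, 0, 3, 0, 2, 0, 2, 0, 2, 0, 2, 0, 3, 0, 2, 0, 3, 0, 3, 0, 2, 0, 2, 0, 2, 0, 2, 0, 2, 0, 3, 0])]), 5550)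
]

/-- Traced words, part 2. -/
def tgt2 : List ((List ℕ × List (ℕ × List ℕ)) × (List ℕ × List (ℕ × List ℕ)) × ℕ) := [
  (([], [(2732, [3, 1, 6, 3]), (5560, [2, 0, 2]), (5564, [])]),
    ([8, 9, 10, 12, 13, 16, 2, 0, 3, 0, 2, 0, 2, 0, 2, 0, 2, 0, 2, 0, 2, 0, 3, 0, 2, 0, 3, 0, 3, 0, 3, 0, 3, 0, 2, 0, 3, 0, 3, 0, 3, 0, 2, 0, 2, 0, 3, 0, 2, 0, 3, 0, 2, 0, 2, 0, 3], [(5581, [2]), (5588, [2]), (5589, [6, 7, 10, 11, 13, 15, 16, 2, 0, 2, 0, 2, 0, 2, 0, 2, 0, 2, 0, 3, 0, 2, 0, 3, 0, 2, 0, 3, 0, 3, 0, 3, 0, 2, 0, 2, 0, 2, 0, 2, 0, 2, 0, 2, 0, 2, 0, 3, 0, 2, 0, 3, 0, 3, 0, 3, 0, 2, 0, 3])]), 5596),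
  (([], [(2732, [3, 3, 1, 3]), (5600, [2, 0, 2]), (5609, [])]),
    ([8, 11, 16, 3, 0, 3, 0, 2, 0, 3, 0, 2, 0, 3, 0, 2, 0, 3, 0, 2, 0, 2, 0, 3, 0, 3, 0, 3, 0, 3, 0, 3, 0, 3, 0, 3, 0, 3, 0, 2, 0, 2, 0, 3, 0, 3, 0, 3, 0, 3, 0, 2, 0], [(5640, [2, 0, 2]), (5646, [7, 8, 10, 11, 12, 13, 15, 16, 0, 3, 0, 2, 0, 2, 0, 2, 0, 2, 0, 2, 0, 3, 0, 2, 0, 3, 0, 2, 0, 3, 0, 2, 0, 2, 0, 2, 0, 2, 0, 3, 0, 2, 0, 3, 0, 2, 0, 3, 0, 2, 0, 2, 0, 2, 0, 3, 0, 3, 0, 3, 0, 2, 0])]), 5652),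
  (([], [(2732, [3, 1, 6, 3, 3]), (5660, [2, 0, 2]), (5670, [])]),
    ([6, 9, 11, 12, 13, 14, 0, 2, 0, 2, 0, 2, 0, 2, 0, 3, 0, 3, 0, 3, 0, 2, 0, 2, 0, 3, 0, 3, 0, 3, 0, 2, 0, 2, 0, 3, 0, 3, 0, 3, 0, 2, 0, 2, 0, 3, 0, 3, 0, 3, 0, 3, 0, 2], [(5685, [2]), (5694, [11, 14, 15, 0, 3, 0, 3, 0, 2, 0, 3, 0, 3, 0, 3, 0, 3, 0, 3, 0, 2, 0, 2, 0, 2, 0, 3, 0, 3, 0, 3, 0, 3, 0, 2, 0, 2, 0, 2, 0, 2, 0, 2, 0, 3, 0, 2, 0, 2, 0, 2, 0, 3, 0, 2, 0, 3])]), 5698),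
  (([], [(2732, [3, 1, 3, 3, 1, 3]), (5699, [2, 0, 2]), (5707, [])]),
    ([7, 10, 11, 12, 15, 0, 2, 0, 3, 0, 3, 0, 3, 0, 3, 0, 2, 0, 3, 0, 3, 0, 3, 0, 3, 0, 3, 0, 3, 0, 3, 0, 2, 0, 2, 0, 2, 0, 2, 0, 2, 0, 2, 0, 3, 0, 2, 0, 2, 0, 3, 0, 2, 0, 3], [(5724, [2, 0, 2]), (5731, [6, 8, 9, 10, 11, 12, 14, 2, 0, 2, 0, 3, 0, 3, 0, 2, 0, 2, 0, 2, 0, 3, 0, 3, 0, 2, 0, 3, 0, 2, 0, 2, 0, 2, 0, 3, 0, 2, 0, 3, 0, 2, 0, 3, 0, 3, 0, 2, 0, 3, 0, 2, 0, 3, 0, 3, 0, 3, 0, 3])]), 5736),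
  (([], [(2732, [3, 1, 3, 3, 1, 6, 3]), (5737, [2, 0, 2]), (6178, [])]),
    ([6, 8, 14, 0, 2, 0, 3, 0, 2, 0, 2, 0, 2, 0, 3, 0, 3, 0, 3, 0, 3, 0, 3, 0, 2, 0, 3, 0, 3, 0, 2, 0, 3, 0, 2, 0, 2, 0, 2, 0, 3, 0, 2, 0, 3, 0, 2, 0, 2, 0, 3], [(6190, [2]), (6198, [2]), (6200, [6, 7, 11, 12, 15, 2, 0, 2, 0, 3, 0, 2, 0, 2, 0, 2, 0, 3, 0, 2, 0, 3, 0, 2, 0, 3, 0, 2, 0, 2, 0, 2, 0, 3, 0, 3, 0, 2, 0, 3, 0, 2, 0, 2, 0, 3, 0, 3, 0, 3, 0, 2, 0])]), 6204),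
  (([], [(2732, [3, 3, 1, 3, 1, 3, 1, 3, 3, 1, 3]), (6210, [2, 0, 2]), (6217, [])]),
    ([6, 7, 8, 9, 13, 15, 0, 2, 0, 3, 0, 3, 0, 3, 0, 3, 0, 3, 0, 3, 0, 2, 0, 3, 0, 3, 0, 2, 0, 2, 0, 2, 0, 3, 0, 3, 0, 3, 0, 3, 0, 3, 0, 3, 0, 2, 0, 2, 0, 3, 0, 3, 0, 3, 0, 3, 0, 2, 0], [(6236, [2, 0, 2]), (6243, [6, 7, 8, 10, 12, 14, 15, 2, 0, 2, 0, 2, 0, 2, 0, 3, 0, 2, 0, 2, 0, 2, 0, 2, 0, 2, 0, 3, 0, 3, 0, 3, 0, 2, 0, 3, 0, 2, 0, 3, 0, 3, 0, 3, 0, 2, 0, 2, 0, 2, 0, 2, 0, 3, 0, 3, 0, 3, 0, 2])]), 6245),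
  (([], [(2732, [3, 3, 1, 3, 1, 3, 1, 3, 3, 1, 3, 6]), (6252, [2, 0, 2]), (6261, [])]),
    ([7, 8, 9, 13, 15, 16, 0, 2, 0, 3, 0, 3, 0, 2, 0, 3, 0, 2, 0, 3, 0, 3, 0, 3, 0, 3, 0, 3, 0, 2, 0, 2, 0, 3, 0, 2, 0, 3, 0, 2, 0, 2, 0, 3], [(6284, [2]), (6288, [2]), (6290, [6, 7, 8, 10, 16, 0, 2, 0, 2, 0, 2, 0, 3, 0, 2, 0, 3, 0, 2, 0, 3, 0, 2, 0, 2, 0, 3, 0, 3, 0, 2, 0, 2, 0, 3, 0, 2, 0, 2, 0, 2, 0, 3, 0, 2, 0, 3, 0, 3, 0, 2, 0, 2, 0, 2, 0, 2, 0, 2])]), 6295),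
  (([], [(2732, [3, 3, 1, 3, 1, 3, 6, 1, 3, 3, 1, 3, 6]), (6339, [2, 0, 2]), (6345, [])]),
    ([7, 8, 15, 16, 0, 2, 0, 3, 0, 3, 0, 2, 0, 2, 0, 2, 0, 2, 0, 2, 0, 2, 0, 3, 0, 3, 0, 3, 0, 2, 0, 3, 0, 2, 0, 2, 0, 2, 0, 2, 0, 2, 0, 2, 0, 2, 0, 2, 0, 3, 0, 2, 0, 2, 0, 3, 0, 2], [(6360, [2]), (6365, [7, 8, 12, 13, 14, 15, 2, 0, 2, 0, 3, 0, 2, 0, 3, 0, 2, 0, 3, 0, 3, 0, 3, 0, 2, 0, 2, 0, 2, 0, 2, 0, 3, 0, 2, 0, 2, 0, 2, 0, 2, 0, 2, 0, 2, 0, 2, 0, 3, 0, 2, 0, 3, 0, 3])]), 6376),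
  (([], [(2732, [3, 1, 3, 1, 3, 1, 3, 1, 3, 3, 1, 3, 1, 3]), (6382, [2, 0, 2]), (6388, [])]),
    ([8, 10, 11, 13, 2, 0, 3, 0, 3, 0, 2, 0, 3, 0, 2, 0, 3, 0, 2, 0, 3, 0, 2, 0, 2, 0, 3, 0, 3, 0, 3, 0, 3, 0, 3, 0, 2, 0, 3, 0, 3, 0, 2, 0, 3, 0, 2, 0, 3, 0, 2, 0, 2, 0, 2, 0, 3, 0, 3, 0], [(6404, [2]), (6411, [6, 8, 14, 15, 0, 3, 0, 2, 0, 3, 0, 3, 0, 2, 0, 3, 0, 2, 0, 3, 0, 3, 0, 3, 0, 3, 0, 2, 0, 2, 0, 3, 0, 3, 0, 3, 0, 2, 0, 2, 0, 2, 0, 2, 0, 3, 0, 2, 0, 3, 0, 3, 0, 3, 0, 2])]), 6417),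
  (([], [(2732, [3, 1, 3, 1, 3, 1, 3, 1, 3, 3, 1, 3, 1, 3, 6]), (6423, [2, 0, 2]), (6429, [])]),
    ([7, 10, 11, 12, 13, 14, 15, 16, 2, 0, 2, 0, 2, 0, 3, 0, 2, 0, 3, 0, 2, 0, 2, 0, 2, 0, 3, 0, 2, 0, 3, 0, 3, 0, 3, 0, 3, 0, 3, 0, 3, 0, 2, 0, 2, 0, 3, 0, 3, 0, 3, 0, 3, 0, 2, 0], [(6437, [2, 0, 2]), (6445, [6, 8, 10, 11, 13, 0, 3, 0, 2, 0, 2, 0, 2, 0, 3, 0, 2, 0, 3, 0, 2, 0, 2, 0, 3, 0, 3, 0, 3, 0, 3, 0, 3, 0, 3, 0, 2, 0, 2, 0, 2, 0, 2, 0, 2, 0, 3, 0, 3, 0, 3, 0, 3, 0, 2, 0, 3, 0])]), 6447),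
  (([6, 7, 8, 9, 12, 13, 15, 0, 2, 0, 2, 0, 2, 0, 3, 0, 2, 0, 3, 0, 2, 0, 3, 0, 3, 0, 3, 0, 3, 0, 3, 0, 3, 0, 2, 0, 3, 0, 3, 0, 3, 0, 3, 0, 3, 0, 3, 0, 2, 0, 2, 0, 3, 0, 2, 0, 2, 0, 2], [(6476, [2]), (6484, [])]),
    ([], [(2732, [2]), (2829, [6, 7, 10, 11, 12, 13, 16, 2, 0, 3, 0, 2, 0, 2, 0, 2, 0, 3, 0, 3, 0, 3, 0, 3, 0, 2, 0, 3, 0, 3, 0, 3, 0, 2, 0, 3, 0, 3, 0, 2, 0, 2, 0, 2, 0, 2, 0, 3, 0, 2, 0, 2])]), 6496),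
  (([6, 9, 10, 11, 15, 2, 0, 2, 0, 3, 0, 2, 0, 3, 0, 3, 0, 2, 0, 2, 0, 2, 0, 2, 0, 2, 0, 3, 0, 3, 0, 3, 0, 2, 0, 3, 0, 3, 0, 2, 0, 2, 0, 2, 0, 3, 0, 2, 0, 2, 0, 3, 0], [(6514, [2]), (6522, [])]),
    ([], [(2732, [2]), (2829, [8, 9, 10, 13, 14, 16, 3, 0, 3, 0, 3, 0, 3, 0, 3, 0, 2, 0, 3, 0, 3, 0, 3, 0, 2, 0, 2, 0, 2, 0, 3, 0, 2, 0, 3, 0, 3, 0, 2, 0, 3, 0, 2, 0, 3, 0, 3, 0, 3, 0, 3, 0, 2, 0])]), 6529),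
  (([6, 9, 11, 12, 13], [(6532, [2]), (2829, [])]),
    ([], [(2732, [2]), (2829, [7, 8, 9, 10, 12, 14, 16, 2, 0, 3, 0, 2, 0, 3, 0, 2, 0, 2, 0, 3, 0, 2, 0, 2, 0, 2, 0, 3, 0, 3, 0, 3, 0, 2, 0, 3, 0, 3, 0, 2, 0, 3, 0, 2, 0, 2, 0, 2, 0, 3, 0, 2])]), 6535),
  (([6, 7, 8, 9, 14], [(6536, [2]), (6539, [])]),
    ([], [(2732, [2]), (2829, [7, 9, 12, 13, 14, 0, 3, 0, 2, 0, 3, 0, 2, 0, 3, 0, 2, 0, 3, 0, 2, 0, 3, 0, 2, 0, 3, 0, 2])]), 6541),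
  (([6, 9, 11, 12, 15], [(6544, [2]), (6551, [])]),
    ([], [(2732, [2]), (2829, [8, 13, 15, 16, 2, 0, 2, 0, 2, 0, 3, 0, 2, 0, 3, 0, 2, 0, 2, 0, 2, 0, 2, 0, 3, 0, 3, 0, 2, 0, 2, 0, 3, 0, 3, 0, 3, 0, 3, 0, 2, 0, 3, 0, 2, 0, 3, 0, 3, 0, 3])]), 6553),
  (([16], [(6554, [2]), (6555, [])]),
    ([], [(2732, [2]), (2829, [7, 8, 9, 10, 12, 14, 0, 2, 0, 2, 0, 2, 0, 3, 0, 2, 0, 2, 0, 2, 0, 3, 0, 3, 0, 2, 0, 3, 0, 2, 0, 3, 0, 3, 0, 3, 0, 3, 0, 2, 0, 2, 0, 2, 0, 3, 0, 3, 0, 3, 0, 3, 0, 2, 0, 2])]), 6557),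
  (([], [(2732, []), (3114, [2]), (6558, [])]),
    ([6, 7, 10, 13, 14, 2], [(6561, [6, 8, 9, 12, 13, 16, 2, 0, 3, 0, 2, 0, 2, 0, 2, 0, 3, 0, 3, 0, 3, 0, 3, 0, 2, 0, 2, 0, 2, 0, 2, 0, 3, 0, 2, 0, 3, 0, 3, 0, 2, 0, 3, 0, 2, 0, 3, 0, 3, 0, 2])]), 6573),
  (([], [(2732, [6]), (3461, [2]), (6581, [])]),
    ([6], [(6582, [2]), (2829, [6, 8, 9, 14, 15, 0, 2, 0, 2, 0, 3, 0, 3, 0, 2, 0, 3, 0, 2, 0, 2, 0, 3, 0, 2, 0, 3, 0, 2, 0, 3, 0, 3, 0, 2, 0, 3, 0, 2, 0, 2, 0, 3, 0, 2, 0, 2, 0])]), 6587),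
  (([], [(2732, [3, 1]), (6588, [2]), (6591, [])]),
    ([8, 9, 10, 11, 16, 0, 2, 0, 3, 0, 2, 0, 2, 0, 3, 0, 3, 0, 2, 0, 3, 0, 3, 0, 2, 0, 2, 0, 2, 0, 3, 0, 3, 0, 2, 0, 3, 0, 3, 0, 3, 0, 3, 0, 3, 0, 2], [(6603, [2]), (6611, [10, 14, 15, 16, 0, 2, 0, 2, 0, 3, 0, 2, 0, 2, 0, 2, 0, 2, 0, 3, 0, 2, 0, 3, 0, 2, 0, 2, 0, 3, 0, 2, 0, 2, 0, 2, 0, 2, 0, 2, 0, 2, 0, 2, 0, 3, 0, 2, 0, 3, 0, 2, 0])]), 6618),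
  (([], [(2732, [3, 3]), (2829, [2]), (3231, [])]),
    ([], [(2732, [2]), (2829, [2]), (3231, [])]), 10576),
  (([], [(2732, [6, 3]), (6619, [2]), (6640, [])]),
    ([6, 8, 10, 12, 13, 14, 0, 3, 0, 3, 0, 2, 0, 2, 0, 3, 0, 2, 0, 2, 0, 2, 0, 3, 0, 3, 0, 3, 0, 2, 0, 2, 0, 2, 0, 2, 0, 3, 0, 2, 0, 3, 0, 2, 0, 2, 0, 2, 0, 2, 0, 3, 0, 3, 0, 2], [(6650, [2]), (6657, [6, 8, 10, 12, 14, 0, 2, 0, 2, 0, 3, 0, 2, 0, 2, 0, 2, 0, 3, 0, 3, 0, 2, 0, 2, 0, 2, 0, 3, 0, 3, 0, 2, 0, 3, 0, 3, 0, 2, 0, 3, 0, 2, 0, 3, 0, 3, 0, 2, 0, 3, 0, 2, 0, 3, 0, 3, 0, 3])]), 6662),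
  (([], [(2732, [3, 1, 3]), (6663, [2]), (6668, [])]),
    ([6, 10, 11, 13, 14, 2, 0, 2, 0, 2, 0, 2, 0, 2, 0, 2, 0, 2, 0, 3, 0, 2, 0, 3, 0, 3, 0, 2, 0, 2, 0, 2, 0, 2, 0, 3, 0, 3, 0, 3, 0, 3, 0, 3, 0, 2, 0, 3, 0], [(6677, [2]), (6685, [0, 2]), (6688, [6, 8, 11, 12, 14, 15, 16, 2, 0, 2, 0, 3, 0, 2, 0, 3, 0, 2, 0, 3, 0, 2, 0, 2, 0, 2, 0, 2, 0, 3, 0, 3, 0, 3, 0, 2, 0, 3, 0, 2, 0, 3, 0, 3, 0, 2, 0, 2, 0, 3, 0, 3, 0, 3, 0, 3, 0])]), 6704)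
]

/-- Traced words, part 3. -/
def tgt3 : List ((List ℕ × List (ℕ × List ℕ)) × (List ℕ × List (ℕ × List ℕ)) × ℕ) := [
  (([], [(2732, [3, 1, 6]), (6710, [2]), (6714, [])]),
    ([6, 9, 10, 11, 12, 13, 14, 15, 16, 3, 0, 3, 0, 2, 0, 3], [(6720, [2, 6, 0, 2, 2, 0, 2]), (6723, [10, 11, 13, 14, 16, 0, 3, 0, 3, 0, 3, 0, 2, 0, 3, 0, 2, 0, 3, 0, 3, 0, 2, 0, 3, 0, 2, 0, 3, 0, 2, 0, 2, 0, 3, 0, 3, 0, 3, 0, 3, 0, 2, 0, 2, 0, 2, 0, 3, 0, 3, 0, 3, 0, 3, 0, 3])]), 6736),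
  (([], [(2732, [3, 1, 3, 3]), (2931, [2]), (6744, [])]),
    ([6, 9, 10, 15, 2, 0, 3, 0, 2, 0, 2, 0, 3, 0, 2, 0, 2, 0, 2, 0, 3, 0, 3, 0, 3, 0, 2, 0, 2, 0, 3, 0, 3, 0, 3, 0, 3, 0, 3, 0, 3, 0, 3, 0, 2, 0, 2, 0, 3, 0, 3, 0, 3, 0, 3, 0, 2, 0], [(6768, [2, 0, 2]), (6777, [6, 9, 11, 13, 16, 2, 0, 3, 0, 3, 0, 3, 0, 3, 0, 3, 0, 2, 0, 2, 0, 3, 0, 2, 0, 3, 0, 3, 0, 3, 0, 2, 0, 2, 0, 2, 0, 2, 0, 2, 0, 2, 0, 3, 0, 2, 0, 3, 0, 2, 0, 3, 0, 3, 0, 2])]), 6778),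
  (([], [(2732, [3, 3, 1, 3]), (6779, [2]), (6785, [])]),
    ([9, 11, 12, 14, 15, 0, 2, 0, 2, 0, 2, 0, 3, 0, 2, 0, 3, 0, 2, 0, 2, 0, 3, 0, 3, 0, 3, 0, 2, 0, 2, 0, 3, 0, 3, 0, 3, 0, 2, 0, 2, 0, 3, 0, 3, 0, 3, 0, 3, 0, 2], [(6823, [2]), (6831, [9, 14, 2, 0, 3, 0, 3, 0, 3, 0, 2, 0, 3, 0, 2, 0, 3, 0, 2, 0, 2, 0, 2, 0, 3, 0, 3, 0, 3, 0, 3, 0, 2, 0, 2, 0, 3, 0])]), 6836),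
  (([], [(2732, [3, 3, 6, 1, 3]), (6844, [2]), (6854, [])]),
    ([6, 7, 9, 10, 11, 16, 3, 0, 2, 0, 2, 0, 3, 0, 2, 0, 2, 0, 2, 0, 3, 0, 3, 0, 3, 0, 3, 0, 3, 0, 3, 0, 3, 0, 2, 0, 2, 0, 3, 0, 3, 0, 2, 0, 2, 0], [(6871, [2, 0, 2]), (6880, [7, 9, 11, 12, 15, 16, 2, 0, 2, 0, 3, 0, 3, 0, 3, 0, 2, 0, 3, 0, 3, 0, 3, 0, 2, 0, 3, 0, 2, 0, 2, 0, 2, 0, 2, 0, 2, 0, 2, 0, 3, 0, 2, 0, 2, 0, 3, 0, 3, 0, 3, 0, 2, 0])]), 6884),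
  (([], [(2732, [3, 1, 3, 3, 1, 3, 3]), (6893, [2]), (6895, [])]),
    ([7, 8, 9, 10, 12, 14, 16, 0, 3, 0, 2, 0, 3, 0, 3, 0, 2, 0, 2, 0, 2, 0, 2, 0, 3, 0, 2, 0, 2, 0, 2, 0, 3, 0, 3, 0, 3, 0, 3, 0, 3, 0, 3, 0, 2, 0, 2, 0, 3, 0, 2, 0, 3, 0, 2, 0], [(6900, [2, 0, 2]), (6907, [6, 7, 9, 10, 12, 13, 16, 3, 0, 3, 0, 3, 0, 3, 0, 2, 0, 2, 0, 2, 0, 3, 0, 3, 0, 2, 0, 2, 0, 2, 0, 2, 0, 3, 0, 3, 0, 3, 0, 2, 0, 3, 0, 2, 0, 3, 0, 3, 0, 2, 0, 2, 0, 2, 0, 3, 0, 3, 0, 3])]), 6910),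
  (([], [(2732, [3, 1, 3, 3, 1, 3, 3, 6]), (6919, [2]), (6924, [])]),
    ([6, 7, 10, 13, 14, 2, 0, 3, 0, 2, 0, 2, 0, 2, 0, 2, 0, 3, 0, 3, 0, 2, 0, 3, 0, 3, 0, 3, 0, 2, 0, 2, 0, 3, 0, 2, 0, 3, 0, 2, 0, 2, 0, 3], [(6935, [2]), (6942, [2]), (6944, [10, 11, 13, 14, 15, 16, 2, 0, 3, 0, 2, 0, 2, 0, 3, 0, 2, 0, 3, 0, 3, 0, 3, 0, 3, 0, 3, 0, 2, 0, 3, 0, 2, 0, 3, 0, 3, 0, 3, 0, 2, 0, 3, 0, 2, 0, 2, 0, 3, 0, 2])]), 6948),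
  (([], [(2732, [3, 3, 1, 3, 1, 3, 1, 3, 3, 1, 3, 1, 3]), (6950, [2]), (6964, [])]),
    ([9, 10, 11, 0, 2, 0, 3, 0, 3, 0, 2, 0, 3, 0, 2, 0, 2, 0, 2, 0, 2, 0, 3, 0, 3, 0, 3, 0, 2, 0, 2, 0, 2, 0, 2, 0, 2, 0, 2, 0, 2, 0, 3, 0, 3, 0, 3, 0, 3, 0, 2, 0, 3, 0, 2, 0, 2], [(6975, [2]), (6982, [6, 7, 10, 13, 14, 16, 0, 2, 0, 2, 0, 2, 0, 2, 0, 2, 0, 2, 0, 3, 0, 3, 0, 3, 0, 2, 0, 2, 0, 2, 0, 2, 0, 3, 0, 3, 0, 3, 0, 3, 0, 2, 0, 2, 0, 2, 0, 3, 0, 3, 0, 2, 0, 2, 0, 2])]), 6988),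
  (([], [(2732, [3, 3, 1, 3, 1, 3, 1, 3, 3, 1, 3, 1, 6, 3]), (6996, [2]), (7045, [])]),
    ([7, 10, 15, 0, 3, 0, 2, 0, 3, 0, 3, 0, 2, 0, 2, 0, 2, 0, 3, 0, 3, 0, 2, 0, 2, 0, 3, 0, 2, 0, 2, 0, 2, 0, 2, 0, 2, 0, 2, 0, 3], [(7051, [2]), (7058, [2]), (7059, [6, 8, 9, 10, 11, 13, 14, 2, 0, 2, 0, 2, 0, 3, 0, 3, 0, 2, 0, 2, 0, 2, 0, 2, 0, 3, 0, 2, 0, 2, 0, 3, 0, 3, 0, 2, 0, 3, 0, 2, 0, 3, 0, 2, 0, 2, 0, 3, 0, 3, 0, 2, 0, 3, 0, 2, 0])]), 7063),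
  (([], [(2732, [3, 1, 3, 3, 1, 3, 3, 1, 3, 1, 3, 1, 3, 3, 1, 3, 1, 3]), (7069, [2]), (7075, [])]),
    ([6, 7, 10, 12, 15, 2, 0, 3, 0, 3, 0, 2, 0, 2, 0, 2, 0, 2, 0, 3, 0, 3, 0, 3, 0, 2, 0, 2, 0, 2, 0, 2, 0, 3, 0, 3, 0, 3, 0, 2, 0, 2, 0, 3, 0, 2, 0, 3, 0, 2, 0, 2, 0, 3], [(7082, [2]), (7089, [2]), (7091, [6, 7, 9, 12, 13, 16, 0, 3, 0, 2, 0, 2, 0, 3, 0, 2, 0, 3, 0, 2, 0, 3, 0, 2, 0, 3, 0, 2, 0, 3, 0, 2, 0, 2, 0, 2, 0, 2, 0, 3, 0, 2, 0, 3, 0, 2, 0])]), 7096),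
  (([], [(2732, [3, 1, 3, 1, 3, 3, 1, 3, 1, 3, 3, 1, 3, 3, 1, 3, 1, 3, 3, 1, 3, 3, 1]), (7100, [2]), (7109, [])]),
    ([8, 10, 11, 12, 13, 14, 2, 0, 2, 0, 2, 0, 2, 0, 2, 0, 3, 0, 2, 0, 3, 0, 3, 0, 3, 0, 3, 0, 2, 0, 2, 0, 3, 0, 3, 0, 3, 0, 2, 0, 2, 0, 3, 0, 3, 0, 3, 0, 3, 0, 2], [(7123, [2]), (7124, [8, 9, 12, 14, 16, 3, 0, 2, 0, 3, 0, 3, 0, 3, 0, 3, 0, 3, 0, 3, 0, 3, 0, 2, 0, 2, 0, 3, 0, 2, 0, 3, 0, 2, 0, 3, 0, 3, 0, 2, 0, 2, 0, 3, 0, 3, 0, 2, 0, 3, 0, 3, 0, 2, 0])]), 7129),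
  (([], [(2732, [3, 1, 3, 1, 3, 3, 1, 3, 1, 3, 3, 1, 3, 3, 1, 3, 1, 3, 3, 1, 3, 6, 3, 1]), (7136, [2]), (7154, [])]),
    ([7, 8, 9, 10, 11, 14, 15, 0, 2, 0, 3, 0, 2, 0, 2, 0, 2, 0, 2, 0, 3], [(7159, [2, 6, 0, 2, 2, 0, 2]), (7160, [10, 13, 14, 3, 0, 2, 0, 3, 0, 3, 0, 3, 0, 2, 0, 3, 0, 2, 0, 3, 0, 3, 0, 3, 0, 3, 0, 2, 0, 3, 0, 2, 0, 2, 0, 2, 0, 2, 0, 3, 0, 3, 0, 3, 0, 2, 0, 2, 0, 2, 0, 3, 0, 3, 0, 2, 0])]), 7167),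
  (([7, 8, 11, 13, 14, 16, 0, 2, 0, 3, 0, 3, 0, 2, 0, 3, 0, 3, 0, 2, 0, 3, 0, 2, 0, 3, 0, 2, 0, 3, 0, 2, 0, 2, 0, 2, 0, 2, 0, 2, 0, 3, 0, 2, 0, 3, 0, 2, 0, 2, 0, 2, 0, 2, 0, 2, 0, 2], [(7171, [2]), (7175, [2]), (7177, [])]),
    ([], [(2732, [2]), (2829, [2]), (3231, [6, 9, 12, 13, 14, 15, 16, 0, 2, 0, 3, 0, 2, 0, 2, 0, 2, 0, 2, 0, 3, 0, 3, 0, 2, 0, 2, 0, 2, 0, 2, 0, 3, 0, 2, 0, 3, 0, 3, 0, 2, 0, 3, 0, 2, 0, 3, 0, 2, 0, 3, 0, 2, 0])]), 7180),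
  (([6, 7, 10, 12, 0, 2, 0, 3, 0, 3, 0, 3, 0, 2, 0, 3, 0, 2, 0, 3, 0, 2, 0, 2, 0, 3, 0, 3, 0, 3, 0, 3, 0, 2, 0, 2, 0, 3, 0, 2, 0, 3, 0, 2, 0, 2, 0, 3, 0, 3, 0, 2, 0, 2, 0, 2, 0, 2, 0], [(7196, [2]), (7203, [2]), (7205, [])]),
    ([], [(2732, [2]), (2829, [2]), (3231, [6, 7, 8, 10, 11, 13, 14, 16, 2, 0, 2, 0, 2, 0, 3, 0, 3, 0, 3, 0, 3, 0, 3, 0, 3, 0, 2, 0, 2, 0, 3, 0, 3, 0, 3, 0, 3, 0, 2, 0, 2, 0, 2, 0, 3, 0, 3, 0, 3, 0, 3, 0, 2, 0, 3, 0, 2, 0, 3])]), 7210),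
  (([], [(2732, []), (3114, [2]), (7211, [2]), (2829, [])]),
    ([8, 10, 11, 14, 2], [(7215, [2]), (7216, [7, 9, 12, 13, 14, 16, 0, 3, 0, 3, 0, 3, 0, 2, 0, 2, 0, 2, 0, 2, 0, 2, 0, 3, 0, 3, 0, 2, 0, 3, 0, 2, 0, 3, 0, 2, 0, 2, 0, 3, 0, 3, 0, 3, 0, 3, 0, 3, 0, 2, 0, 2, 0, 2, 0])]), 7220),
  (([], [(2732, [3]), (7221, [2]), (7224, [2]), (7230, [])]),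
    ([6, 7, 8, 9, 12, 13, 14, 16, 3, 0, 2, 0, 3, 0, 3, 0, 3, 0, 3, 0, 3, 0, 3, 0, 3, 0, 3, 0, 2, 0, 2, 0, 3, 0, 3, 0, 3, 0, 3, 0, 2, 0], [(7233, [2, 0, 2]), (7242, [6, 9, 11, 13, 16, 0, 3, 0, 3, 0, 2, 0, 2, 0, 3, 0, 3, 0, 2, 0, 2, 0, 3, 0, 2, 0, 3, 0, 3, 0, 3, 0, 3, 0, 3, 0, 3, 0, 3, 0, 2, 0, 2, 0, 3, 0, 2, 0, 3, 0, 3, 0, 3, 0, 2, 0, 2, 0, 3])]), 7247),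
  (([], [(2732, [6]), (3461, [2]), (7248, [2]), (7274, [])]),
    ([6, 12, 14, 3, 0, 3, 0, 2, 0, 2, 0, 2, 0, 2, 0, 3, 0, 2, 0, 2, 0, 2, 0, 3, 0, 3, 0, 2, 0, 3, 0, 3, 0, 3, 0, 2, 0, 2, 0, 3, 0, 2, 0, 3, 0, 2, 0, 2, 0, 3], [(7278, [2]), (7284, [2]), (7285, [6, 8, 12, 13, 14, 2, 0, 2, 0, 3, 0, 3, 0, 3, 0, 3, 0, 3, 0, 3, 0, 2, 0, 2, 0, 3, 0, 3, 0, 3, 0, 2, 0, 3, 0, 2, 0, 3, 0, 3, 0, 3, 0, 2, 0, 2, 0, 2, 0, 2, 0, 3, 0, 3, 0, 2, 0])]), 7288),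
  (([], [(2732, [3, 1]), (7289, [2]), (7290, [2]), (7293, [])]),
    ([6, 8, 9, 11, 12, 14, 2, 0, 2, 0, 3, 0, 2, 0, 2, 0, 2, 0, 2, 0, 2, 0, 2, 0, 2, 0, 2, 0, 2, 0, 3, 0, 2, 0, 3, 0, 2, 0, 3, 0, 2, 0, 2, 0, 3, 0, 3, 0, 3, 0, 3, 0, 3, 0, 2, 0, 3, 0], [(7314, [2]), (7322, [0, 2]), (3880, [8, 9, 10, 11, 13, 14, 15, 0, 2, 0, 2, 0, 2, 0, 3, 0, 3, 0, 3, 0, 3, 0, 3, 0, 3, 0, 2, 0, 2, 0, 2, 0, 3, 0, 2, 0, 3, 0, 2, 0, 3, 0, 2, 0, 3, 0, 3, 0, 2, 0, 2])]), 7330),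
  (([], [(2732, [3, 6]), (7335, [2]), (7358, [2]), (7385, [])]),
    ([6, 7, 13, 14, 0, 2, 0, 3, 0, 2, 0, 3, 0, 3, 0, 2, 0, 3, 0, 2, 0, 3, 0, 3, 0, 3, 0, 3, 0, 3, 0, 2, 0, 2, 0, 3, 0, 2, 0, 3, 0, 2, 0, 2, 0, 3], [(7395, [2]), (7401, [2]), (7402, [6, 7, 8, 9, 10, 11, 13, 15, 16, 2, 0, 3, 0, 2, 0, 2, 0, 2, 0, 3, 0, 2, 0, 3, 0, 3, 0, 2, 0, 2, 0, 3, 0, 3, 0, 3, 0, 3, 0, 2, 0, 3, 0, 3, 0, 3, 0, 3, 0, 3, 0, 3, 0, 3, 0, 3, 0, 2])]), 7408),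
  (([], [(2732, [3, 1, 3]), (7409, [2]), (7410, [2]), (7446, [])]),
    ([6, 8, 9, 10, 11, 13, 0, 2, 0, 3, 0, 3, 0, 2, 0, 2, 0, 3, 0, 3, 0, 2, 0, 3, 0, 2, 0, 2, 0, 3, 0, 2, 0, 2, 0, 2, 0, 3, 0, 2, 0, 2], [(7455, [2]), (7458, [2]), (7459, [6, 10, 12, 14, 15, 3, 0, 3, 0, 3, 0, 2, 0, 3, 0, 2, 0, 3, 0, 3, 0, 3, 0, 3, 0, 3, 0, 3, 0, 2, 0, 3, 0, 3, 0, 3, 0, 3, 0, 2, 0, 3, 0, 3, 0, 2, 0, 3, 0, 2, 0, 3, 0, 3, 0, 2, 0, 3, 0, 2])]), 7464),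
  (([], [(2732, [3, 3, 6]), (7472, [2]), (7479, [2]), (7570, [])]),
    ([7, 8, 9, 15, 16, 3, 0, 2, 0, 3, 0, 3, 0, 2, 0, 2, 0, 3, 0, 3, 0, 2, 0, 3, 0, 3, 0, 3, 0, 3, 0, 2, 0, 2, 0, 3, 0, 2, 0, 3, 0, 2, 0, 2, 0, 3], [(7584, [2]), (7588, [2]), (7589, [6, 7, 9, 10, 13, 14, 16, 2, 0, 3, 0, 3, 0, 2, 0, 2, 0, 2, 0, 3, 0, 2, 0, 2, 0, 2, 0, 3, 0, 2, 0, 3, 0, 3, 0, 3, 0, 3, 0, 2, 0, 2, 0, 3, 0, 2, 0, 2, 0, 2, 0, 3, 0, 2, 0, 2, 0, 3, 0, 2, 0, 3])]), 7593),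
  (([], [(2732, [6, 3, 1]), (7594, [2]), (7710, [2]), (7722, [])]),
    ([6, 7, 8, 9, 12, 15, 0, 3, 0, 3, 0, 3, 0, 3, 0, 3, 0, 2, 0, 2, 0, 3, 0, 2, 0, 3, 0, 3, 0, 3, 0, 3, 0, 2, 0], [(7738, [2, 0, 2]), (7739, [7, 8, 9, 16, 3, 0, 3, 0, 2, 0, 3, 0, 3, 0, 3, 0, 3, 0, 2, 0, 3, 0, 3, 0, 3, 0, 3, 0, 2, 0, 2, 0, 2, 0, 3, 0, 3, 0, 3, 0, 3, 0, 3, 0, 2, 0, 3, 0, 2, 0, 3, 0])]), 7744),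
  (([], [(2732, [3, 1, 3, 3]), (2931, [2]), (7745, [2]), (7747, [])]),
    ([11, 12, 14, 15, 0, 2, 0, 2, 0, 2, 0, 3, 0, 2, 0, 3, 0, 2, 0, 2, 0, 3, 0, 3, 0, 3, 0, 3, 0, 3, 0, 2, 0, 3, 0], [(7761, [2]), (7767, [0, 2]), (7770, [6, 10, 11, 14, 16, 0, 2, 0, 2, 0, 2, 0, 3, 0, 2, 0, 2, 0, 3, 0, 3, 0, 3, 0, 3, 0, 3, 0, 3, 0, 2, 0, 2, 0, 2, 0, 3, 0, 3, 0, 3, 0, 2, 0, 2, 0, 3, 0, 3, 0, 3, 0, 3])]), 7781)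
]

/-- Traced words, part 4. -/
def tgt4 : List ((List ℕ × List (ℕ × List ℕ)) × (List ℕ × List (ℕ × List ℕ)) × ℕ) := [
  (([], [(2732, [3, 1, 6, 3, 3]), (7782, [2]), (7790, [2]), (7792, [])]),
    ([6, 9, 10, 15, 16, 3, 0, 3, 0, 3, 0, 2, 0, 3, 0, 2, 0, 3, 0, 2, 0, 2, 0, 3, 0, 3, 0, 2, 0, 3, 0, 3, 0, 3, 0, 2, 0, 2, 0, 3, 0, 2, 0, 3, 0, 2, 0, 2, 0, 3], [(7812, [2]), (7815, [2]), (7816, [7, 8, 10, 11, 14, 15, 0, 3, 0, 2, 0, 2, 0, 2, 0, 3, 0, 2, 0, 2, 0, 3, 0, 2, 0, 2, 0, 2, 0, 3, 0, 3, 0, 3, 0, 3, 0, 2, 0, 2, 0, 3, 0, 2, 0, 2, 0, 2, 0, 2, 0, 2, 0, 2, 0, 3, 0, 3])]), 7820),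
  (([], [(2732, [3, 3, 1, 3, 1]), (7821, [2]), (7827, [2]), (7828, [])]),
    ([9, 15, 16, 0, 3, 0, 3, 0, 2, 0, 2, 0, 3, 0, 3, 0, 2, 0, 2, 0, 2, 0, 2, 0, 3, 0, 2, 0, 3, 0, 2, 0, 3, 0, 2, 0, 2, 0, 3, 0, 3, 0, 3, 0, 3, 0, 3], [(7842, [2]), (7847, [2]), (7848, [11, 14, 15, 2, 0, 2, 0, 2, 0, 3, 0, 2, 0, 2, 0, 2, 0, 2, 0, 3, 0, 3, 0, 2, 0, 3, 0, 2, 0, 3, 0, 2, 0, 3, 0, 2, 0, 3, 0, 3, 0, 2, 0, 3, 0, 2, 0, 2, 0, 3, 0, 2, 0, 2, 0, 2, 0, 2])]), 7853),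
  (([], [(2732, [3, 3, 1, 3, 1, 6]), (7857, [2]), (7863, [2]), (7870, [])]),
    ([6, 7, 8, 11, 14, 15, 0, 2, 0, 3, 0, 3, 0, 2, 0, 2, 0, 3, 0, 2, 0, 2, 0, 2, 0, 3, 0, 3, 0, 3, 0, 2, 0, 2, 0, 3, 0, 3, 0, 3, 0, 3, 0, 2, 0], [(7876, [2, 0, 2]), (7883, [8, 9, 10, 13, 16, 0, 2, 0, 2, 0, 3, 0, 2, 0, 2, 0, 2, 0, 3, 0, 3, 0, 2, 0, 2, 0, 2, 0, 2, 0, 2, 0, 3, 0, 3, 0, 3, 0, 3, 0, 2, 0, 2, 0, 3, 0, 3, 0, 3, 0, 3, 0, 2, 0, 3, 0, 3, 0, 2, 0])]), 7887),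
  (([], [(2732, [3, 3, 1, 3, 3, 1]), (7888, [2]), (8140, [2]), (8167, [])]),
    ([6, 7, 8, 10, 11, 13, 15, 16, 0, 2, 0, 2, 0, 3, 0, 3, 0, 3, 0, 3, 0, 3, 0, 2, 0, 3, 0, 2, 0, 3, 0, 2, 0, 2, 0, 3, 0, 3, 0, 3, 0, 3, 0, 3, 0, 2, 0, 3, 0], [(8177, [2]), (8184, [0, 2]), (8187, [7, 8, 9, 11, 15, 0, 3, 0, 3, 0, 2, 0, 3, 0, 3, 0, 3, 0, 3, 0, 3, 0, 2, 0, 2, 0, 2, 0, 3, 0, 2, 0, 2, 0, 3, 0, 2, 0, 3, 0, 2, 0, 3, 0, 2, 0, 3, 0, 3, 0, 3, 0, 2, 0, 2, 0, 3, 0, 2, 0])]), 3995),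
  (([], [(2732, [3, 3, 6, 1, 3, 1, 6]), (8195, [2]), (8201, [2]), (8222, [])]),
    ([6, 7, 11, 12, 13, 14, 16, 0, 3, 0, 2, 0, 2, 0, 2, 0, 3, 0, 2, 0, 2, 0, 3, 0, 2, 0, 3, 0, 2, 0, 3, 0, 3, 0, 2], [(8242, [2]), (8243, [7, 10, 11, 12, 14, 3, 0, 3, 0, 3, 0, 3, 0, 3, 0, 3, 0, 2, 0, 2, 0, 3, 0, 3, 0, 3, 0, 2, 0, 2, 0, 2, 0, 2, 0, 3, 0, 3, 0, 2, 0, 2, 0, 2, 0, 3, 0, 2, 0, 3, 0, 2, 0, 3])]), 8246),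
  (([], [(2732, [3, 1, 3, 1, 3, 3, 1, 3, 1, 3, 3, 1, 3, 1, 3, 1]), (8249, [2]), (8251, [2]), (8259, [])]),
    ([7, 8, 10, 11, 12, 16, 3, 0, 3, 0, 2, 0, 2, 0, 3, 0, 2, 0, 3, 0, 3, 0, 3, 0, 3, 0, 3, 0, 3, 0, 3, 0, 3, 0, 2, 0, 2, 0, 3, 0, 3, 0, 3, 0, 3, 0, 2, 0, 3, 0, 2, 0], [(8271, [2, 0, 2]), (8279, [7, 8, 9, 12, 13, 15, 16, 3, 0, 3, 0, 2, 0, 2, 0, 2, 0, 2, 0, 2, 0, 2, 0, 2, 0, 3, 0, 2, 0, 3, 0, 3, 0, 2, 0, 3, 0, 2, 0, 2, 0, 3, 0, 2, 0, 3, 0, 3, 0])]), 8281),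
  (([], [(2732, [3, 1, 3, 1, 3, 3, 1, 3, 1, 3, 3, 1, 3, 1, 3, 1, 6]), (8291, [2]), (8298, [2]), (8566, [])]),
    ([8, 14, 16, 3, 0, 3, 0, 2, 0, 2, 0, 2, 0, 2, 0, 3, 0, 3, 0, 3, 0, 2, 0, 3, 0, 2, 0, 3, 0, 2, 0, 3, 0, 2, 0, 3, 0, 3, 0, 2, 0, 3, 0, 2, 0, 3, 0, 3, 0, 3, 0, 3, 0, 2, 0, 3], [(8574, [2]), (8580, [2]), (8581, [7, 8, 9, 10, 14, 0, 3, 0, 3, 0, 2, 0, 2, 0, 2, 0, 2, 0, 2, 0, 3, 0, 2, 0, 2, 0, 3, 0, 2, 0, 2, 0, 2, 0, 2, 0, 2, 0, 2, 0, 3, 0, 2, 0, 2, 0, 2, 0, 2, 0, 2, 0, 3, 0, 2, 0, 2])]), 8584),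
  (([], [(2732, [3, 1, 3, 1, 3, 1, 3, 1, 3, 1, 3, 1, 3, 1, 3, 1, 3, 1, 3, 1, 3, 1, 3, 1]), (8590, [2]), (8597, [2]), (8644, [])]),
    ([7, 8, 9, 11, 12, 13, 14, 16, 0, 2, 0, 3, 0, 2, 0, 3, 0, 2, 0, 3, 0, 2, 0, 3, 0, 2, 0, 3, 0, 3, 0, 2, 0, 2, 0, 2, 0, 2, 0, 2, 0, 2, 0, 3, 0, 3, 0, 2, 0, 3, 0, 2, 0], [(8654, [2]), (8660, [2]), (8662, [6, 7, 10, 11, 13, 14, 2, 0, 2, 0, 3, 0, 2, 0, 2, 0, 2, 0, 2, 0, 3, 0, 3, 0, 2, 0, 3, 0, 2, 0, 3, 0, 3, 0, 3, 0, 3, 0, 3, 0, 3, 0, 2, 0, 2, 0, 2, 0, 3, 0, 3, 0, 2, 0, 2, 0, 3, 0, 2, 0])]), 8665),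
  (([], [(2732, [3, 1, 3, 1, 3, 1, 3, 1, 3, 1, 3, 1, 3, 1, 3, 1, 3, 1, 3, 1, 3, 1, 3, 1, 3]), (8671, [2]), (8673, [2]), (8684, [])]),
    ([6, 8, 11, 13, 14, 15, 16, 2, 0, 2, 0, 3, 0, 3, 0, 3, 0, 2, 0, 2, 0, 3, 0, 2, 0, 2, 0, 2, 0, 2, 0, 2, 0, 3, 0, 3, 0, 3, 0, 2, 0, 2, 0, 3, 0, 3, 0, 3, 0, 3, 0, 2], [(8703, [2]), (8708, [6, 7, 12, 14, 16, 0, 2, 0, 2, 0, 2, 0, 2, 0, 3, 0, 3, 0, 2, 0, 2, 0, 3, 0, 3, 0, 2, 0, 3, 0, 3, 0, 2, 0, 2, 0, 2, 0, 3, 0, 2, 0, 2, 0, 2, 0, 3, 0, 3, 0, 3])]), 8712),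
  (([], [(2732, [3, 1, 3, 1, 3, 1, 3, 1, 3, 1, 3, 1, 3, 1, 3, 1, 3, 1, 3, 1, 3, 1, 3, 1, 6]), (8717, [2]), (8724, [2]), (8730, [])]),
    ([6, 7, 8, 11, 13, 14, 15, 16, 0, 2, 0, 2, 0, 2, 0, 3, 0, 3, 0, 2, 0, 3, 0, 2, 0, 3, 0, 3, 0, 2, 0, 2, 0, 2, 0, 3], [(8758, [2, 6, 0, 2, 2, 0, 2]), (8766, [8, 9, 11, 0, 2, 0, 2, 0, 2, 0, 2, 0, 3, 0, 2, 0, 3, 0, 3, 0, 2, 0, 2, 0, 2, 0, 3, 0, 2, 0, 3, 0, 2, 0, 3, 0, 3, 0, 2, 0, 2, 0, 2, 0, 3, 0, 3, 0, 2, 0, 2, 0, 3])]), 8774),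
  (([], [(2732, [3, 1, 3, 1, 3, 1, 3, 1, 3, 1, 3, 1, 3, 1, 3, 1, 3, 1, 3, 1, 6, 3, 1, 3, 1]), (8780, [2]), (8786, [2]), (8869, [])]),
    ([10, 11, 13, 15, 0, 2, 0, 2, 0, 3, 0, 3, 0, 3, 0, 2, 0, 2, 0, 3, 0, 2, 0, 3, 0, 2, 0, 3, 0, 2, 0, 2, 0, 2, 0, 2, 0, 2, 0, 3, 0, 3, 0, 2, 0, 2, 0, 2], [(8883, [2]), (8888, [2]), (8890, [6, 7, 9, 10, 2, 0, 2, 0, 2, 0, 2, 0, 3, 0, 2, 0, 3, 0, 2, 0, 3, 0, 2, 0, 3, 0, 2, 0, 3, 0, 3, 0, 3, 0, 3, 0, 2, 0, 2, 0, 2, 0, 2, 0, 3, 0, 3, 0, 3, 0, 3, 0, 2, 0, 3, 0])]), 8894),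
  (([], [(2732, [3, 1, 3, 1, 3, 1, 3, 1, 3, 1, 3, 1, 3, 1, 3, 1, 3, 1, 3, 1, 3, 1, 3, 1, 3, 6]), (8903, [2]), (8909, [2]), (8958, [])]),
    ([7, 9, 10, 14, 15, 16, 0, 2, 0, 2, 0, 3, 0, 3, 0, 2, 0, 3, 0, 2, 0, 3, 0, 3, 0, 3, 0, 3, 0, 2, 0, 2, 0, 3, 0, 2, 0, 3, 0, 3, 0, 3, 0, 2, 0, 2, 0, 2, 0, 3], [(8975, [2]), (8978, [2]), (8980, [6, 7, 10, 11, 13, 14, 3, 0, 3, 0, 2, 0, 2, 0, 2, 0, 2, 0, 2, 0, 3, 0, 3, 0, 2, 0, 3, 0, 3, 0, 3, 0, 3, 0, 3, 0, 2, 0, 2, 0, 3, 0, 2, 0, 3, 0, 2, 0, 2, 0, 3, 0, 3, 0, 3, 0, 2, 0])]), 8984),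
  (([], [(2732, [3, 3, 1, 3, 1, 3, 1, 3, 3, 1, 3, 3, 1, 3, 3, 1, 3, 1, 3, 3, 1, 3, 1, 3, 1, 3, 1]), (8988, [2]), (8989, [2]), (8992, [])]),
    ([6, 7, 8, 10, 14, 15, 2, 0, 3, 0, 2, 0, 2, 0, 3, 0, 2, 0, 3, 0, 2, 0, 2, 0, 2, 0, 2, 0, 3, 0, 3, 0, 2, 0, 3, 0, 3, 0, 3, 0, 2, 0, 2, 0, 3, 0, 2, 0, 3, 0, 2, 0, 2, 0, 3], [(9005, [2]), (9010, [2]), (9012, [7, 9, 10, 12, 14, 16, 3, 0, 2, 0, 2, 0, 3, 0, 2, 0, 2, 0, 2, 0, 2, 0, 2, 0, 2, 0, 3, 0, 3, 0, 2, 0, 3, 0, 2, 0, 3, 0, 3, 0, 3, 0, 2, 0, 2, 0, 3, 0, 2, 0, 3, 0, 2, 0, 2, 0, 2, 0])]), 9015),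
  (([], [(2732, [3, 3, 1, 3, 1, 3, 1, 3, 3, 1, 3, 3, 1, 3, 3, 1, 3, 1, 3, 3, 1, 3, 1, 3, 1, 3, 1, 6]), (9021, [2]), (9046, [2]), (9085, [])]),
    ([7, 9, 14, 15, 16, 2, 0, 3, 0, 2, 0, 3, 0, 2, 0, 2, 0, 2, 0, 2, 0, 3, 0, 3, 0, 2, 0, 2, 0, 3, 0, 2, 0, 2, 0, 2, 0, 2, 0, 2, 0, 3, 0, 3, 0, 3, 0, 3, 0, 2], [(9096, [2]), (9102, [6, 7, 8, 10, 11, 13, 2, 0, 2, 0, 2, 0, 2, 0, 3, 0, 3, 0, 2, 0, 3, 0, 3, 0, 3, 0, 2, 0, 3, 0, 2, 0, 3, 0, 3, 0, 2, 0, 2, 0, 2, 0, 2, 0, 3, 0, 3, 0, 3, 0, 3, 0, 3, 0, 2, 0, 3, 0, 3, 0, 2, 0, 2])]), 9110),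
  (([10, 11, 12, 13, 14, 15, 3, 0, 3, 0, 2, 0, 3, 0, 2, 0, 3, 0, 2, 0, 3, 0, 2, 0, 3, 0, 2, 0, 2, 0, 2, 0, 2, 0, 2, 0, 2, 0, 2, 0, 2, 0, 3, 0, 2, 0, 2, 0, 2, 0, 2, 0, 3, 0, 3], [(9117, [2]), (9123, [0, 2]), (9126, [])]),
    ([], [(2732, [2]), (2829, [0, 2]), (3880, [7, 10, 12, 15, 16, 2, 0, 3, 0, 3, 0, 2, 0, 2, 0, 2, 0, 3, 0, 3, 0, 2, 0, 2, 0, 2, 0, 3, 0, 3, 0, 3, 0, 3, 0, 3, 0, 3, 0, 3, 0, 2, 0, 2, 0, 2, 0, 2, 0, 2, 0, 3, 0, 2, 0, 2, 0, 3])]), 9139),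
  (([7, 10, 12, 15, 16, 2, 0, 3, 0, 3, 0, 3, 0, 3, 0, 2, 0, 2, 0, 2, 0, 3, 0, 3, 0, 3, 0, 3, 0, 3, 0, 2, 0, 3, 0, 2, 0, 2, 0, 2, 0, 3, 0, 3, 0, 3, 0, 2, 0, 2, 0, 3, 0, 3, 0], [(9151, [2]), (9155, [0, 2]), (9159, [])]),
    ([], [(2732, [2]), (2829, [0, 2]), (3880, [7, 9, 10, 12, 14, 0, 2, 0, 2, 0, 3, 0, 2, 0, 3, 0, 2, 0, 2, 0, 2, 0, 3, 0, 2, 0, 3, 0, 3, 0, 2, 0, 3, 0, 2, 0, 2, 0, 3, 0, 3, 0, 3, 0, 3, 0, 2, 0, 2, 0, 2, 0, 2, 0, 3, 0, 3, 0])]), 9170),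
  (([], [(2732, []), (3114, [2]), (9171, [0, 2]), (9172, [])]),
    ([10, 11, 12, 13, 15, 16, 0, 2, 0, 2, 0, 2, 0, 3, 0, 3, 0, 3, 0, 2, 0, 3, 0, 2, 0, 3, 0, 2, 0, 3, 0, 3, 0, 2, 0, 3, 0, 2, 0, 2, 0, 3, 0, 3, 0, 3, 0, 2, 0, 3], [(9179, [2]), (9185, [6, 7, 10, 11, 14, 15, 16, 2, 0, 2, 0, 2, 0, 3, 0, 2, 0, 3, 0, 2, 0, 3, 0, 2, 0, 3, 0, 3, 0, 2, 0, 3, 0, 2, 0, 3, 0, 3, 0, 3, 0, 3, 0, 2, 0, 3, 0, 2, 0, 2, 0, 2, 0, 3, 0, 3])]), 9187),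
  (([], [(2732, [6]), (3461, [2]), (9188, [0, 2]), (9196, [])]),
    ([6, 8, 9, 10, 12, 13, 15, 0, 3, 0, 2, 0, 2, 0, 2, 0, 3, 0, 3, 0, 3, 0, 2, 0, 2, 0, 2, 0, 3, 0, 2, 0, 3, 0, 2, 0, 2, 0, 3, 0, 3, 0, 3, 0, 3, 0, 3, 0, 2, 0, 3, 0], [(9199, [2]), (9201, [0, 2]), (9202, [7, 8, 11, 12, 13, 14, 2, 0, 2, 0, 3, 0, 2, 0, 2, 0, 2, 0, 2, 0, 3, 0, 3, 0, 3, 0, 2, 0, 2, 0, 3, 0, 3, 0, 3, 0, 3, 0, 3, 0, 3, 0, 2, 0, 2, 0, 2, 0, 3, 0, 3, 0, 2, 0, 2, 0])]), 9213),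
  (([], [(2732, [3, 1]), (9214, [2]), (9215, [0, 2]), (9219, [])]),
    ([7, 8, 10, 13, 15, 16, 3, 0, 3, 0, 2, 0, 3, 0, 2, 0, 2, 0, 3, 0, 2, 0, 3, 0, 2, 0, 3, 0, 2, 0, 2, 0, 2, 0, 2, 0, 2, 0, 3, 0, 3, 0, 2, 0, 2, 0, 2], [(9238, [2]), (9242, [2]), (9243, [7, 8, 9, 10, 12, 14, 0, 3, 0, 2, 0, 3, 0, 2, 0, 2, 0, 2, 0, 2, 0, 2, 0, 3, 0, 3, 0, 2, 0, 3, 0, 2, 0, 3, 0, 3, 0, 3, 0, 3, 0, 3, 0, 3, 0, 2, 0, 2, 0, 2, 0, 2, 0, 3, 0, 2])]), 9248),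
  (([], [(2732, [3, 3]), (2829, [2]), (3231, [0, 2]), (9290, [])]),
    ([6, 8, 12, 13, 16, 3, 0, 3, 0, 3, 0, 2, 0, 3, 0, 3, 0, 2, 0, 3, 0, 2, 0, 2, 0, 2, 0, 3, 0, 2, 0, 3, 0, 3, 0, 2, 0, 2, 0, 2, 0, 3, 0, 3, 0, 3, 0, 2, 0, 3, 0], [(9297, [2]), (9299, [0, 2]), (9301, [7, 9, 11, 13, 14, 0, 3, 0, 2, 0, 2, 0, 2, 0, 3, 0, 3, 0, 2, 0, 3, 0, 2, 0, 3, 0, 3, 0, 3, 0, 3, 0, 2, 0, 2, 0, 3, 0, 3, 0, 2, 0, 3, 0, 3, 0, 3, 0, 2, 0, 2, 0, 2, 0, 3, 0, 3, 0, 3])]), 9313),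
  (([], [(2732, [3, 1, 3]), (9314, [2]), (9315, [0, 2]), (9383, [])]),
    ([7, 8, 13, 16, 2, 0, 2, 0, 3, 0, 2, 0, 3, 0, 3, 0, 3, 0, 2, 0, 3, 0, 2, 0, 2, 0, 2, 0, 3, 0, 2, 0, 3, 0, 2, 0, 3, 0, 3, 0, 3, 0, 3, 0, 3, 0, 3, 0, 3, 0, 2, 0, 3], [(9403, [2]), (9407, [0, 2]), (9409, [10, 13, 15, 0, 2, 0, 2, 0, 2, 0, 3, 0, 3, 0, 3, 0, 3, 0, 3, 0, 3, 0, 3, 0, 3, 0, 2, 0, 2, 0, 2, 0, 2, 0, 2, 0, 2, 0, 2, 0, 2, 0, 2, 0, 3, 0, 2, 0, 2, 0, 2, 0, 3, 0, 3, 0, 2, 0, 2, 0])]), 9427),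
  (([], [(2732, [3, 3, 1]), (9428, [2]), (3880, [0, 2]), (9533, [])]),
    ([6, 11, 12, 13, 14, 15, 16, 0, 2, 0, 2, 0, 2, 0, 2, 0, 2, 0, 3, 0, 3, 0, 3, 0, 2, 0, 3, 0, 2, 0, 2, 0, 3, 0, 3, 0, 3, 0, 3, 0, 3, 0, 3, 0, 2, 0, 2, 0, 3, 0, 3, 0, 3, 0, 3, 0, 2, 0], [(9540, [2, 0, 2]), (9547, [6, 7, 11, 12, 13, 14, 2, 0, 3, 0, 3, 0, 3, 0, 3, 0, 3, 0, 3, 0, 2, 0, 3, 0, 2, 0, 3, 0, 3, 0, 3, 0, 3, 0, 3, 0, 2, 0, 2, 0, 3, 0, 3, 0, 3, 0, 3, 0, 3, 0, 3, 0, 2, 0, 2, 0])]), 9550)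
]

/-- Traced words, part 5. -/
def tgt5 : List ((List ℕ × List (ℕ × List ℕ)) × (List ℕ × List (ℕ × List ℕ)) × ℕ) := [
  (([], [(2732, [6, 3, 1]), (9551, [2]), (9552, [0, 2]), (9665, [])]),
    ([7, 10, 14, 0, 3, 0, 3, 0, 2, 0, 3, 0, 3, 0, 3, 0, 2, 0, 3, 0, 3, 0, 3, 0, 2, 0, 2, 0, 3, 0, 2, 0, 3, 0, 2, 0, 2, 0, 3, 0, 3, 0, 3, 0, 3, 0, 3, 0, 2, 0, 3, 0], [(9681, [2]), (9687, [0, 2]), (9689, [9, 15, 0, 2, 0, 2, 0, 3, 0, 3, 0, 2, 0, 3, 0, 2, 0, 3, 0, 3, 0, 3, 0, 3, 0, 3, 0, 2, 0, 2, 0, 2, 0, 2, 0, 2, 0, 3, 0, 2, 0, 2, 0, 2, 0, 3, 0, 3, 0, 2, 0, 3, 0, 2, 0, 2, 0, 3])]), 9698),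
  (([], [(2732, [6, 3, 3]), (9702, [2]), (9707, [0, 2]), (9760, [])]),
    ([6, 7, 8, 11, 13, 15, 0, 3, 0, 2, 0, 2, 0, 3, 0, 3, 0, 2, 0, 3, 0, 3, 0, 3, 0, 2, 0, 3, 0, 2, 0, 3, 0, 2, 0, 3, 0, 3, 0, 3, 0, 2, 0, 2, 0, 3, 0, 2, 0, 3, 0, 2, 0, 2, 0, 3], [(9785, [2]), (9789, [2]), (9792, [6, 7, 8, 9, 10, 11, 13, 15, 2, 0, 3, 0, 3, 0, 3, 0, 2, 0, 2, 0, 2, 0, 3, 0, 3, 0, 2, 0, 2, 0, 2, 0, 2, 0, 2, 0, 3, 0, 2, 0, 2, 0, 2, 0, 3, 0, 2, 0, 3, 0, 3, 0, 3, 0, 3])]), 9794),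
  (([], [(2732, [3, 1, 3, 1]), (9795, [2]), (9800, [0, 2]), (9861, [])]),
    ([6, 10, 14, 15, 2, 0, 2, 0, 3, 0, 2, 0, 3, 0, 3, 0, 2, 0, 2, 0, 2, 0, 3, 0, 3, 0, 2, 0, 2, 0, 3, 0, 3, 0, 3, 0, 2, 0, 2, 0, 3, 0, 2, 0, 3, 0, 2, 0, 2, 0, 3], [(9863, [2]), (9867, [2]), (9868, [10, 12, 14, 16, 0, 3, 0, 3, 0, 2, 0, 2, 0, 3, 0, 3, 0, 2, 0, 3, 0, 3, 0, 3, 0, 3, 0, 3, 0, 2, 0, 3, 0, 3, 0, 3, 0, 2, 0, 3, 0, 2, 0, 2, 0, 3, 0, 3, 0, 3, 0, 3, 0, 3, 0])]), 9872),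
  (([], [(2732, [3, 1, 6, 3]), (9873, [2]), (9876, [0, 2]), (9980, [])]),
    ([7, 8, 10, 11, 15, 16, 0, 2, 0, 2, 0, 2, 0, 2, 0, 3, 0, 2, 0, 2, 0, 3, 0, 2, 0, 3, 0, 2, 0, 3, 0, 3, 0, 3, 0, 3, 0, 2, 0, 2, 0, 3, 0, 3, 0, 3, 0, 3, 0, 2, 0], [(9993, [2, 0, 2]), (10000, [6, 8, 9, 10, 12, 13, 15, 16, 0, 3, 0, 3, 0, 3, 0, 3, 0, 3, 0, 3, 0, 2, 0, 3, 0, 2, 0, 2, 0, 3, 0, 3, 0, 3, 0, 2, 0, 3, 0, 2, 0, 2, 0, 2, 0, 2, 0, 2, 0, 2, 0, 3, 0, 3, 0, 3, 0, 3, 0, 2, 0])]), 10002),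
  (([], [(2732, [6, 3, 3, 6, 1]), (10009, [2]), (10017, [0, 2]), (10087, [])]),
    ([7, 14, 15, 0, 3, 0, 2, 0, 2, 0, 3, 0, 3, 0, 2, 0, 3, 0, 2, 0, 3, 0, 3, 0, 2, 0, 2, 0, 2, 0, 2, 0, 3, 0, 2, 0, 2, 0, 3, 0, 3, 0, 2, 0, 2, 0, 2, 0], [(10098, [2]), (10102, [0, 2]), (10106, [6, 7, 10, 13, 2, 0, 3, 0, 3, 0, 3, 0, 3, 0, 3, 0, 3, 0, 3, 0, 2, 0, 2, 0, 2, 0, 2, 0, 3, 0, 3, 0, 3, 0, 3, 0, 3, 0, 2, 0, 2, 0, 2, 0, 3, 0, 2, 0, 2, 0, 2, 0, 3, 0])]), 10113),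
  (([], [(2732, [3, 1, 3, 1, 3, 3, 1]), (10119, [2]), (10122, [0, 2]), (10151, [])]),
    ([7, 9, 10, 11, 0, 2, 0, 2, 0, 2, 0, 2, 0, 2, 0, 3, 0, 2, 0, 2, 0, 2, 0, 2, 0, 3, 0, 3, 0, 3, 0, 3, 0, 2, 0, 2, 0, 3, 0, 3, 0, 2, 0, 2, 0, 2, 0], [(10170, [2]), (10171, [0, 2]), (10172, [6, 15, 3, 0, 3, 0, 2, 0, 3, 0, 3, 0, 3, 0, 3, 0, 2, 0, 2, 0, 2, 0, 3, 0, 3, 0, 3, 0, 2, 0, 2, 0, 2, 0, 3, 0, 3, 0, 2, 0, 2, 0, 3])]), 10186),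
  (([], [(2732, [3, 1, 3, 1, 6, 3, 3, 1]), (10196, [2]), (10202, [0, 2]), (10215, [])]),
    ([6, 8, 11, 13, 14, 15, 2, 0, 3, 0, 3, 0, 2, 0, 3, 0, 2, 0, 3, 0, 2, 0, 2, 0, 3, 0, 3, 0, 2, 0, 2, 0, 2, 0, 3, 0, 3, 0, 3, 0, 3, 0, 2, 0, 2, 0, 3, 0, 3, 0, 3, 0, 3, 0, 2, 0], [(10233, [2, 0, 2]), (10241, [7, 8, 10, 13, 14, 15, 16, 0, 2, 0, 3, 0, 3, 0, 3, 0, 2, 0, 3, 0, 3, 0, 3, 0, 2, 0, 3, 0, 2, 0, 3, 0, 2, 0, 2, 0, 2, 0, 2, 0, 2, 0, 2, 0, 3, 0, 3])]), 10242),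
  (([9, 10, 11, 15, 16, 2, 0, 2, 0, 2, 0, 2, 0, 2, 0, 2, 0, 3, 0, 2, 0, 3, 0, 3, 0, 3, 0, 3, 0, 3, 0, 2, 0, 2, 0, 2, 0, 3, 0, 2, 0, 3, 0, 2, 0, 2, 0, 3, 0, 2], [(10249, [2, 6, 0, 2, 2, 0, 2]), (10254, [])]),
    ([], [(2732, [2, 6, 0, 2, 2, 0, 2]), (10255, [11, 12, 14, 15, 0, 2, 0, 2, 0, 3, 0, 2, 0, 3, 0, 3, 0, 3, 0, 3, 0, 3, 0, 3, 0, 2, 0, 3, 0, 2, 0, 2, 0, 2, 0, 3, 0, 2, 0, 2, 0, 3, 0, 3, 0, 3, 0, 2, 0, 2, 0, 2])]), 10267),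
  (([6, 8, 10, 12, 0, 3, 0, 3, 0, 3, 0, 2, 0, 2, 0, 3, 0, 3, 0, 3, 0, 2, 0, 2, 0, 3, 0, 2, 0, 2, 0, 2, 0, 2, 0, 3, 0, 2, 0, 3, 0, 2, 0, 3, 0, 2, 0, 2, 0, 2, 0, 3], [(10276, [2, 6, 0, 2, 2, 0, 2]), (10283, [])]),
    ([], [(2732, [2, 6, 0, 2, 2, 0, 2]), (10284, [6, 7, 10, 13, 15, 2, 0, 3, 0, 2, 0, 3, 0, 3, 0, 3, 0, 3, 0, 3, 0, 3, 0, 3, 0, 2, 0, 3, 0, 2, 0, 2, 0, 3, 0, 3, 0, 3, 0, 2, 0, 3, 0, 2, 0, 2, 0, 2, 0, 3, 0])]), 10296),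
  (([8], [(10297, [2, 6, 0, 2, 2, 0, 2]), (10298, [])]),
    ([], [(2732, [2, 6, 0, 2, 2, 0, 2]), (10299, [6, 8, 9, 11, 12, 15, 2, 0, 2, 0, 3, 0, 3, 0, 2, 0, 2, 0, 2, 0, 3, 0, 2, 0, 3, 0, 2, 0, 3, 0, 2, 0, 2, 0, 2, 0, 2, 0, 3, 0, 2, 0, 2, 0, 3, 0, 2, 0, 2, 0, 2])]), 10305),
  (([7, 9, 10], [(10308, [2, 6, 0, 2, 2, 0, 2]), (10309, [])]),
    ([], [(2732, [2, 6, 0, 2, 2, 0, 2]), (10310, [6, 7, 9, 11, 13, 14, 15, 0, 3, 0, 2, 0, 2, 0, 3, 0, 2, 0, 2, 0, 3, 0, 3, 0, 3, 0, 3, 0, 3, 0, 2, 0, 2, 0, 2, 0, 2, 0, 2, 0, 3, 0, 3, 0, 2, 0, 3, 0, 3, 0, 2, 0])]), 10316),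
  (([9, 11], [(10318, [2, 6, 0, 2, 2, 0, 2]), (10319, [])]),
    ([], [(2732, [2, 6, 0, 2, 2, 0, 2]), (10320, [6, 7, 10, 13, 14, 2, 0, 2, 0, 2, 0, 2, 0, 2, 0, 3, 0, 2, 0, 3, 0, 2, 0, 2, 0, 3, 0, 3, 0, 3, 0, 2, 0, 3, 0, 3, 0, 3, 0, 3, 0, 3, 0, 2, 0, 2, 0, 2, 0, 2, 0, 3, 0, 3, 0, 2])]), 10328),
  (([6, 7, 12], [(10329, [2, 6, 0, 2, 2, 0, 2]), (10330, [])]),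
    ([], [(2732, [2, 6, 0, 2, 2, 0, 2]), (10331, [6, 8, 10, 11, 12, 13, 15, 16, 0, 3, 0, 2, 0, 3, 0, 3, 0, 2, 0, 2, 0, 3, 0, 3, 0, 3, 0, 2, 0, 2, 0, 2, 0, 2, 0, 3, 0, 2, 0, 3, 0, 2, 0, 2, 0, 3, 0, 3, 0, 3, 0, 2, 0, 3, 0, 3, 0, 3, 0, 3])]), 10337),
  (([6, 7, 9, 14], [(10338, [2, 6, 0, 2, 2, 0, 2]), (10343, [])]),
    ([], [(2732, [2, 6, 0, 2, 2, 0, 2]), (10344, [6, 7, 10, 11, 14, 15, 2, 0, 3, 0, 2, 0, 3, 0, 3, 0, 3, 0, 2, 0, 3, 0, 3, 0, 3, 0, 3, 0, 2, 0, 2, 0, 3, 0, 2, 0, 3, 0, 2, 0, 3, 0, 3, 0, 3, 0, 2, 0, 3, 0, 2])]), 10352),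
  (([13, 15], [(10353, [2, 6, 0, 2, 2, 0, 2]), (10354, [])]),
    ([], [(2732, [2, 6, 0, 2, 2, 0, 2]), (10355, [6, 7, 10, 13, 14, 16, 2, 0, 3, 0, 2, 0, 2, 0, 2, 0, 3, 0, 3, 0, 3, 0, 3, 0, 2, 0, 2, 0, 2, 0, 2, 0, 3, 0, 2, 0, 3, 0, 3, 0, 2, 0, 3, 0, 2, 0, 3, 0, 3, 0, 2])]), 10364),
  (([16], [(10365, [2, 6, 0, 2, 2, 0, 2]), (10366, [])]),
    ([], [(2732, [2, 6, 0, 2, 2, 0, 2]), (10367, [7, 8, 9, 10, 12, 14, 16, 0, 2, 0, 2, 0, 2, 0, 3, 0, 2, 0, 2, 0, 2, 0, 3, 0, 3, 0, 2, 0, 3, 0, 2, 0, 3, 0, 3, 0, 3, 0, 3, 0, 2, 0, 2, 0, 2, 0, 3, 0, 3, 0, 3, 0, 3, 0, 2, 0, 2])]), 10373),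
  (([], [(2732, []), (3114, [2, 6, 0, 2, 2, 0, 2]), (10376, [])]),
    ([11, 13, 2, 0, 3, 0, 2], [(10379, [7, 8, 13, 16, 3, 0, 2, 0, 2, 0, 3, 0, 2, 0, 2, 0, 3, 0, 3, 0, 3, 0, 3, 0, 3, 0, 2, 0, 2, 0, 2, 0, 2, 0, 2, 0, 3, 0, 3, 0, 2, 0, 2, 0, 2, 0, 3, 0, 2])]), 10383),
  (([], [(2732, [3]), (10384, [2, 6, 0, 2, 2, 0, 2]), (10425, [])]),
    ([6, 8, 9, 16, 0, 2, 0, 3, 0, 2, 0, 2, 0, 3, 0, 3, 0, 2, 0, 3, 0, 3, 0, 2, 0, 2, 0, 2, 0, 3, 0, 3, 0, 2, 0, 3, 0, 3, 0, 3, 0, 3, 0, 3, 0, 2], [(10440, [2]), (10445, [9, 10, 11, 14, 3, 0, 2, 0, 3, 0, 3, 0, 2, 0, 3, 0, 2, 0, 3, 0, 3, 0, 3, 0, 3, 0, 3, 0, 3, 0, 2, 0, 2, 0, 2, 0, 2, 0, 3, 0, 2, 0, 2, 0, 3, 0, 2, 0, 3, 0, 2, 0, 3, 0, 2, 0, 2, 0, 3])]), 10451),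
  (([], [(2732, [6]), (3461, [2, 6, 0, 2, 2, 0, 2]), (10458, [])]),
    ([6], [(10459, [2, 6, 0, 2, 2, 0, 2]), (10460, [6, 7, 9, 13, 14, 15, 16, 0, 3, 0, 2, 0, 2, 0, 2, 0, 3, 0, 3, 0, 2, 0, 3, 0, 2, 0, 2, 0, 3, 0, 2, 0, 3, 0, 2, 0, 3, 0, 2, 0, 2, 0, 2, 0, 3, 0, 2, 0, 2, 0, 3, 0, 2, 0, 2])]), 10465),
  (([], [(2732, [3, 3]), (2829, [2, 6, 0, 2, 2, 0, 2]), (10470, [])]),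
    ([6, 8, 11, 13, 15, 16, 3, 0, 2, 0, 2, 0, 2, 0, 2, 0, 3, 0, 3, 0, 2, 0, 3, 0, 2, 0, 3, 0, 2, 0, 3, 0, 3, 0, 3, 0, 3], [(10488, [2]), (10495, [2]), (10497, [8, 9, 10, 12, 13, 16, 3, 0, 2, 0, 3, 0, 2, 0, 3, 0, 2, 0, 2, 0, 3, 0, 3, 0, 3, 0, 3, 0, 3, 0, 2, 0, 3, 0, 3, 0, 3, 0, 2, 0, 2, 0, 3, 0, 2, 0, 2, 0, 2, 0, 2, 0, 2, 0, 2, 0])]), 10499),
  (([], [(2732, [3, 3, 1, 3, 1, 3, 3]), (10505, [2, 6, 0, 2, 2, 0, 2]), (10513, [])]),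
    ([6, 8, 9, 10, 11, 13, 16, 3, 0, 3, 0, 2, 0, 3, 0, 2, 0, 2, 0, 3, 0, 2, 0, 2, 0, 2, 0, 2, 0, 3, 0, 2, 0, 2, 0, 3, 0, 3, 0, 3, 0, 3, 0, 3, 0, 3, 0, 3, 0, 2, 0, 2, 0, 2, 0, 2, 0, 2, 0], [(10518, [2]), (10524, [7, 8, 13, 16, 2, 0, 3, 0, 2, 0, 2, 0, 3, 0, 3, 0, 2, 0, 3, 0, 2, 0, 2, 0, 2, 0, 3, 0, 3, 0, 3, 0, 2, 0, 2, 0, 3, 0, 3, 0, 3, 0, 2, 0, 3, 0, 3, 0, 3, 0, 3, 0, 2])]), 10527),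
  (([], [(2732, [3, 3, 1, 3, 3, 1, 3]), (10531, [2, 6, 0, 2, 2, 0, 2]), (10554, [])]),
    ([7, 8, 10, 12, 13, 15, 0, 3, 0, 3, 0, 3, 0, 2, 0, 2, 0, 2, 0, 2, 0, 2, 0, 2, 0, 2, 0, 3], [(10560, [2, 6, 0, 2, 2, 0, 2]), (10565, [6, 7, 8, 9, 10, 11, 14, 16, 3, 0, 2, 0, 2, 0, 3, 0, 2, 0, 2, 0, 2, 0, 2, 0, 2, 0, 3, 0, 3, 0, 3, 0, 2, 0, 3, 0, 2, 0, 3, 0, 3, 0, 3, 0, 3, 0, 2, 0, 2, 0, 2, 0, 3, 0, 3])]), 10575)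
]

/-- All the traced words. -/
def tgtAll : List ((List ℕ × List (ℕ × List ℕ)) × (List ℕ × List (ℕ × List ℕ)) × ℕ) :=
  tgt0 ++ tgt1 ++ tgt2 ++ tgt3 ++ tgt4 ++ tgt5

/-- The source vertex and segment of each defining edge. -/
def defList : List (ℕ × List ℕ) :=
  [(0, []), (0, []), (1, [2, 0, 2]), (1, [2]), (1, [6, 9, 10, 12, 13, 14, 15, 2, 0, 3, 0, 2]), (3, [2]), (3, [0, 2])]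

/-- The rotated cycles. -/
def cycList : List (List ℕ) := [
  [0x21c3a4c4aadd71659b279cc02c1212000, 0x21c3a4c4aadd71659b279cc02c1212000, 0x21c3a4c4aadd71659b279cc02c1212000],
  [0x21c3a4c4aadd71659b279cc02c1212000, 0x21c3a4c4aadd71659b279cc02c1212000, 0x21c3a4c4aadd71659b279cc02c1212000],
  [0x21c3a4c4aadd71659b279cc02c1212000, 0x21c3a4c4aadd71659b279cc02c1212000, 0x21c3a4c4aadd71659b279cc02c1212000],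
  [0x2a06184a89356911d94892d575c0f9800, 0x18692849514cf25c1af02917732d1a000, 0x2a06184a89356911d94892d575c0f9800, 0x18692849514cf25c1af02917732d1a000],
  [0x18692849514cf25c1af02917732d1a000, 0x2a06184a89356911d94892d575c0f9800, 0x18692849514cf25c1af02917732d1a000, 0x2a06184a89356911d94892d575c0f9800],
  [0x2a06184a89356911d94892d575c0f9800, 0x18692849514cf25c1af02917732d1a000, 0x2a06184a89356911d94892d575c0f9800, 0x18692849514cf25c1af02917732d1a000],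
  [0x18692849514cf25c1af02917732d1a000, 0x2a06184a89356911d94892d575c0f9800, 0x18692849514cf25c1af02917732d1a000, 0x2a06184a89356911d94892d575c0f9800],
  [0x5c7501e71826c533142449646b9f40800, 0x5c7501e71826c533142449646b9f40800, 0x5c7501e71826c533142449646b9f40a84],
  [0x5c7501e71826c533142449646b9f40800, 0x5c7501e71826c533142449646b9f40a84, 0x5c7501e71826c533142449646b9f40800],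
  [0x5c7501e71826c533142449646b9f40a84, 0x5c7501e71826c533142449646b9f40800, 0x5c7501e71826c533142449646b9f40800]
]

end CfsgLib.Sporadic.J4Inj
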