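import Cfsg.Agent.Lib.Sporadic.J4Inj.Basic

/-!
# Deriving relations among conjugates of involutions under the copy of M24 (owner: helper21)

A token is a kind and a word: kind 2 stands for the value of the word, another kind for the conjugate by the word of
the involution of that kind. Relations are lists of token numbers, with a proof: an instance of a template, a
conjugation or a product inside M24, or a rewriting with the relations before it.
-/

set_option autoImplicit false
set_option maxRecDepth 20000

namespace CfsgLib.Sporadic.J4Inj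

open Cfsg
open CfsgLib.Sporadic (Rep pmul)

/-- The value of a token. -/
noncomputable def tv (z : ℕ → Spor.J4) (p : ℕ × List ℕ) : Spor.J4 :=
  if p.1 = 2 then jk p.2 else jk p.2 * z p.1 * (jk p.2)⁻¹

/-- The proof of a relation. -/
inductive Prf
  | base (k : ℕ) (g : List ℕ) (cs : List (List ℕ))
  | conjM (c : List ℕ)
  | prodM
  | rew (steps : List (ℕ × ℕ × List ℕ × ℕ × ℕ × Bool))

/-- The words used: templates, commuting words of each kind, tokens. -/
structure Ctx where
  tmpl : List (List (ℕ × List ℕ))
  al : List (List (List ℕ))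
  alp : List (List ℕ)
  toks : List (ℕ × List ℕ)

/-- A word in the commuting generators of a kind. -/
noncomputable def alW (C : Ctx) (k : ℕ) (c : List ℕ) : List ℕ := c.flatMap fun i => (C.al.getD k []).getD i []

/-- The packed permutation of such a word, from the packed generators. -/
noncomputable def alP (C : Ctx) (k : ℕ) (c : List ℕ) : ℕ :=
  List.rec pone (fun i _ ih => pmul ((C.alp.getD k []).getD i pone) ih) c

/-- The packed generators are those of the words. -/
noncomputable def alpOK (C : Ctx) : Bool :=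
  Nat.beq C.alp.length C.al.length && (List.range C.al.length).all fun k =>
    decide (C.alp.getD k [] = (C.al.getD k []).map J4Pres.pword)

/-- A token. -/
noncomputable def tok (C : Ctx) (i : ℕ) : ℕ × List ℕ := C.toks.getD i (2, [])

/-- One position of an instance. -/
noncomputable def posOK (C : Ctx) (g : List ℕ) (p : ℕ × List ℕ) (i : ℕ) (c : List ℕ) : Bool :=
  Nat.beq (tok C i).1 p.1 &&
    cond (Nat.beq p.1 2) (Nat.beq (J4Pres.pword (g ++ p.2 ++ invK g)) (J4Pres.pword (tok C i).2))
      (Nat.beq (J4Pres.pword (g ++ p.2)) (pmul (J4Pres.pword (tok C i).2) (alP C p.1 c)))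

/-- All positions of an instance. -/
noncomputable def posAll (C : Ctx) (g : List ℕ) : List (ℕ × List ℕ) → List ℕ → List (List ℕ) → Bool
  | [], [], _ => true
  | p :: ps, i :: R, cs => posOK C g p i cs.headI && posAll C g ps R cs.tail
  | _, _, _ => false

/-- A rewriting step. -/
noncomputable def stepW (rs : List (List ℕ)) (w : List ℕ) (s : ℕ × ℕ × List ℕ × ℕ × ℕ × Bool) :
    Option (List ℕ) :=
  let Q := cond s.2.2.2.2.2 (rs.getD s.2.2.2.1 []).reverse (rs.getD s.2.2.2.1 [])
  cond (decide ((w.drop s.1).take s.2.1 ++ s.2.2.1.reverse = Q.drop s.2.2.2.2.1 ++ Q.take s.2.2.2.2.1))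
    (some (w.take s.1 ++ s.2.2.1 ++ (w.drop s.1).drop s.2.1)) none

/-- A rewriting to the empty word. -/
noncomputable def rewOK (rs : List (List ℕ)) : List (ℕ × ℕ × List ℕ × ℕ × ℕ × Bool) → List ℕ → Bool
  | [], w => w.isEmpty
  | s :: ss, w => match stepW rs w s with
    | none => false
    | some w' => rewOK rs ss w'

/-- A relation with its proof. -/
noncomputable def itemOK (C : Ctx) (rs : List (List ℕ)) (it : List ℕ × Prf) : Bool :=
  match it.2 with
  | .base k g cs => Nat.blt k C.tmpl.length && posAll C g (C.tmpl.getD k []) it.1 cs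
  | .conjM c => match it.1 with
    | [o, a, o', b] => Nat.beq o o' && Nat.beq (tok C o).1 2 && Nat.beq (tok C a).1 (tok C b).1 &&
        !Nat.beq (tok C a).1 2 &&
        Nat.beq (J4Pres.pword ((tok C o).2 ++ (tok C o).2)) pone &&
        Nat.beq (J4Pres.pword ((tok C o).2 ++ (tok C a).2))
          (pmul (J4Pres.pword (tok C b).2) (alP C (tok C a).1 c))
    | _ => false
  | .prodM => it.1.all (fun i => Nat.beq (tok C i).1 2) &&
      Nat.beq (J4Pres.pword (it.1.flatMap fun i => (tok C i).2)) pone
  | .rew steps => rewOK rs steps it.1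

/-- All relations, each with those before it. -/
noncomputable def allOK (C : Ctx) : List (List ℕ) → List (List ℕ × Prf) → Bool
  | _, [] => true
  | rs, it :: its => itemOK C rs it && allOK C (rs ++ [it.1]) its

/-- The tokens of kind 2 are involutions. -/
noncomputable def toksOK (C : Ctx) : Bool :=
  C.toks.all fun p => !Nat.beq p.1 2 || Nat.beq (J4Pres.pword (p.2 ++ p.2)) pone

/-- What is assumed of a context. -/
structure Valid (z : ℕ → Spor.J4) (C : Ctx) : Prop where
  sq : ∀ k, z k * z k = 1
  tmpl : ∀ ps ∈ C.tmpl, (ps.map (tv z)).prod = 1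
  comm : ∀ k, ∀ w ∈ C.al.getD k [], Commute (jk w) (z k)
  alp : alpOK C = true

variable {z : ℕ → Spor.J4} {C : Ctx}

/-- The value of a list of tokens. -/
noncomputable def evalT (z : ℕ → Spor.J4) (C : Ctx) (R : List ℕ) : Spor.J4 := (R.map fun i => tv z (tok C i)).prod

theorem evalT_append (u v : List ℕ) : evalT z C (u ++ v) = evalT z C u * evalT z C v := by simp [evalT]

theorem comm_alW (h : Valid z C) (k : ℕ) : ∀ c : List ℕ, Commute (jk (alW C k c)) (z k)
  | [] => by rw [alW, List.flatMap_nil, jk_nil]; exact Commute.one_left _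
  | i :: c => by
    rw [alW, List.flatMap_cons, jk_append]
    refine Commute.mul_left ?_ (comm_alW h k c)
    by_cases hi : i < (C.al.getD k []).length
    · rw [List.getD_eq_getElem _ _ hi]
      exact h.comm k _ (List.getElem_mem hi)
    · rw [List.getD_eq_default _ _ (Nat.le_of_not_lt hi), jk_nil]
      exact Commute.one_left _

theorem getD_pword : ∀ (l : List (List ℕ)) (i : ℕ), (l.map J4Pres.pword).getD i pone = J4Pres.pword (l.getD i [])
  | [], _ => rfl
  | _ :: _, 0 => rfl
  | _ :: l, i + 1 => getD_pword l i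

theorem alp_getD (h : Valid z C) (k i : ℕ) :
    (C.alp.getD k []).getD i pone = J4Pres.pword ((C.al.getD k []).getD i []) := by
  have hh := h.alp
  rw [alpOK, Bool.and_eq_true, List.all_eq_true] at hh
  by_cases hk : k < C.al.length
  · have e : C.alp.getD k [] = (C.al.getD k []).map J4Pres.pword :=
      of_decide_eq_true (hh.2 k (List.mem_range.2 hk))
    rw [e]
    exact getD_pword _ i
  · have hl := Nat.eq_of_beq_eq_true hh.1
    rw [List.getD_eq_default _ _ (show C.alp.length ≤ k by omega),
      List.getD_eq_default _ _ (show C.al.length ≤ k by omega)]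
    rfl

theorem rep_alW (h : Valid z C) (k : ℕ) : ∀ c : List ℕ,
    Rep (((J4Pres.toM24 (J4Pres.val (alW C k c))) : ↥M24) : Equiv.Perm GolayPt) (alP C k c)
  | [] => by
    rw [alW, List.flatMap_nil]
    show Rep _ pone
    simpa [J4Pres.val] using Rep.one
  | i :: c => by
    rw [alW, List.flatMap_cons, J4Pres.val_append, map_mul, Subgroup.coe_mul]
    refine Rep.mul ?_ (rep_alW h k c)
    rw [alp_getD h, toM24_val]
    exact J4Pres.rep_word _

theorem jk_eq_alP (h : Valid z C) {u v : List ℕ} {k : ℕ} {c : List ℕ}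
    (he : Nat.beq (J4Pres.pword u) (pmul (J4Pres.pword v) (alP C k c)) = true) :
    jk u = jk v * jk (alW C k c) := by
  rw [← jk_append]
  refine congrArg J4Rep.toJ4 (J4Pres.toM24_injective (Subtype.ext ?_))
  have hv : Rep (((J4Pres.toM24 (J4Pres.val v)) : ↥M24) : Equiv.Perm GolayPt) (J4Pres.pword v) := by
    rw [toM24_val]; exact J4Pres.rep_word v
  have hm := Rep.mul hv (rep_alW h k c)
  rw [← Subgroup.coe_mul, ← map_mul, ← J4Pres.val_append, ← Nat.eq_of_beq_eq_true he] at hm
  rw [toM24_val u]
  exact (J4Pres.rep_word u).unique hm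

theorem conj_eq {G : Type*} [Group G] {a b c x : G} (hc : Commute c x) (h : a = b * c) :
    a * x * a⁻¹ = b * x * b⁻¹ := by
  have e : c * x * c⁻¹ = x := by rw [hc.eq, mul_inv_cancel_right]
  calc a * x * a⁻¹ = b * (c * x * c⁻¹) * b⁻¹ := by rw [h]; group
    _ = b * x * b⁻¹ := by rw [e]

theorem posOK_sound (h : Valid z C) {g : List ℕ} {p : ℕ × List ℕ} {i : ℕ} {c : List ℕ}
    (hp : posOK C g p i c = true) : tv z (tok C i) = jk g * tv z p * (jk g)⁻¹ := by
  rw [posOK, Bool.and_eq_true] at hp
  obtain ⟨h1, h2⟩ := hp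
  have e1 := Nat.eq_of_beq_eq_true h1
  unfold tv
  rw [e1]
  by_cases hk : p.1 = 2
  · rw [if_pos hk, if_pos hk]
    rw [show Nat.beq p.1 2 = true by simp [hk], cond_true] at h2
    rw [← jk_eq_of_pword h2, jk_append, jk_append, jk_invK]
  · rw [if_neg hk, if_neg hk]
    rw [show Nat.beq p.1 2 = false from Bool.eq_false_iff.2 (by simpa using hk), cond_false] at h2
    have e := jk_eq_alP h h2
    rw [jk_append] at e
    rw [← conj_eq (comm_alW h p.1 c) e, mul_inv_rev]
    simp only [mul_assoc]

theorem posAll_sound (h : Valid z C) (g : List ℕ) :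
    ∀ (ps : List (ℕ × List ℕ)) (R : List ℕ) (cs : List (List ℕ)), posAll C g ps R cs = true →
      evalT z C R = jk g * (ps.map (tv z)).prod * (jk g)⁻¹
  | [], [], _, _ => by simp [evalT]
  | [], _ :: _, _, hp => by simp [posAll] at hp
  | _ :: _, [], _, hp => by simp [posAll] at hp
  | p :: ps, i :: R, cs, hp => by
    rw [posAll, Bool.and_eq_true] at hp
    have e := posAll_sound h g ps R _ hp.2
    simp only [evalT, List.map_cons, List.prod_cons] at e ⊢
    rw [e, posOK_sound h hp.1]
    simp only [mul_assoc, inv_mul_cancel_left]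

theorem tv_sq (h : Valid z C) (ht : toksOK C = true) (i : ℕ) : tv z (tok C i) * tv z (tok C i) = 1 := by
  unfold tv
  split_ifs with hk
  · rw [← jk_append]
    refine jk_eq_one ?_
    by_cases hi : i < C.toks.length
    · have h' := List.all_eq_true.1 ht _ (List.getElem_mem hi)
      rw [tok, List.getD_eq_getElem _ _ hi] at hk ⊢
      simpa [hk] using h'
    · rw [tok, List.getD_eq_default _ _ (Nat.le_of_not_lt hi)]
      decide +kernel
  · calc _ = jk (tok C i).2 * (z (tok C i).1 * z (tok C i).1) * (jk (tok C i).2)⁻¹ := by group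
      _ = 1 := by rw [h.sq, mul_one, mul_inv_cancel]

theorem evalT_reverse (h : Valid z C) (ht : toksOK C = true) :
    ∀ R : List ℕ, evalT z C R.reverse = (evalT z C R)⁻¹
  | [] => by simp [evalT]
  | i :: R => by
    rw [List.reverse_cons, evalT_append, evalT_reverse h ht R]
    simp only [evalT, List.map_cons, List.prod_cons, List.map_nil, List.prod_nil, mul_one, mul_inv_rev]
    rw [inv_eq_of_mul_eq_one_right (tv_sq h ht i)]

theorem stepW_sound (h : Valid z C) (ht : toksOK C = true) {rs : List (List ℕ)}
    (hrs : ∀ R ∈ rs, evalT z C R = 1) {w w' : List ℕ} {s : ℕ × ℕ × List ℕ × ℕ × ℕ × Bool}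
    (hs : stepW rs w s = some w') : evalT z C w = evalT z C w' := by
  obtain ⟨pos, len, new, r, rot, rev⟩ := s
  simp only [stepW] at hs
  set Q := cond rev (rs.getD r []).reverse (rs.getD r []) with hQdef
  have hR : evalT z C (rs.getD r []) = 1 := by
    by_cases hr : r < rs.length
    · rw [List.getD_eq_getElem _ _ hr]; exact hrs _ (List.getElem_mem hr)
    · rw [List.getD_eq_default _ _ (Nat.le_of_not_lt hr)]; simp [evalT]
  have hQ : evalT z C Q = 1 := by
    rw [hQdef]
    cases rev
    · exact hR
    · rw [cond_true, evalT_reverse h ht, hR, inv_one]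
  cases hd : decide ((w.drop pos).take len ++ new.reverse = Q.drop rot ++ Q.take rot) with
  | false => rw [hd] at hs; simp at hs
  | true =>
    rw [hd, cond_true, Option.some.injEq] at hs
    have e := congrArg (evalT z C) (of_decide_eq_true hd)
    rw [evalT_append, evalT_append, evalT_reverse h ht] at e
    have e1 : evalT z C (Q.drop rot) * evalT z C (Q.take rot) = 1 := by
      have e2 : evalT z C (Q.take rot) * evalT z C (Q.drop rot) = 1 := by
        rw [← evalT_append, List.take_append_drop, hQ]
      exact mul_eq_one_comm.1 e2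
    rw [e1, mul_inv_eq_one] at e
    rw [← hs]
    conv_lhs => rw [← List.take_append_drop pos w, ← List.take_append_drop len (w.drop pos)]
    simp only [evalT_append, e, mul_assoc]

theorem rewOK_sound (h : Valid z C) (ht : toksOK C = true) {rs : List (List ℕ)}
    (hrs : ∀ R ∈ rs, evalT z C R = 1) :
    ∀ (ss : List (ℕ × ℕ × List ℕ × ℕ × ℕ × Bool)) (w : List ℕ), rewOK rs ss w = true → evalT z C w = 1
  | [], w, hw => by rw [rewOK, List.isEmpty_iff] at hw; simp [hw, evalT]
  | s :: ss, w, hw => by
    rw [rewOK] at hw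
    cases hs : stepW rs w s with
    | none => rw [hs] at hw; simp at hw
    | some w' =>
      rw [hs] at hw
      rw [stepW_sound h ht hrs hs]
      exact rewOK_sound h ht hrs ss w' hw

theorem itemOK_sound (h : Valid z C) (ht : toksOK C = true) {rs : List (List ℕ)}
    (hrs : ∀ R ∈ rs, evalT z C R = 1) {it : List ℕ × Prf} (hi : itemOK C rs it = true) :
    evalT z C it.1 = 1 := by
  obtain ⟨R, p⟩ := it
  cases p with
  | base k g cs =>
    simp only [itemOK, Bool.and_eq_true, Nat.blt_eq] at hi
    rw [posAll_sound h g _ _ _ hi.2, List.getD_eq_getElem _ _ hi.1, h.tmpl _ (List.getElem_mem hi.1),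
      mul_one, mul_inv_cancel]
  | conjM c =>
    rcases R with _ | ⟨o, _ | ⟨a, _ | ⟨o', _ | ⟨b, _ | ⟨_, _⟩⟩⟩⟩⟩ <;>
      simp only [itemOK, Bool.and_eq_true, Bool.false_eq_true, Bool.not_eq_true'] at hi
    obtain ⟨⟨⟨⟨⟨h1, h2⟩, h3⟩, h4⟩, h5⟩, h6⟩ := hi
    obtain rfl := Nat.eq_of_beq_eq_true h1
    have hk : (tok C a).1 ≠ 2 := fun e => by simp [e] at h4
    have e3 := Nat.eq_of_beq_eq_true h3
    have eo : jk (tok C o).2 * jk (tok C o).2 = 1 := by rw [← jk_append]; exact jk_eq_one h5
    have e6 := jk_eq_alP h h6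
    rw [jk_append] at e6
    simp only [evalT, List.map_cons, List.map_nil, List.prod_cons, List.prod_nil, mul_one]
    unfold tv
    rw [if_pos (Nat.eq_of_beq_eq_true h2), if_neg hk, if_neg (e3 ▸ hk), ← e3]
    have e := conj_eq (comm_alW h _ c) e6
    have eo' : (jk (tok C o).2)⁻¹ = jk (tok C o).2 := inv_eq_of_mul_eq_one_right eo
    rw [mul_inv_rev, eo'] at e
    simp only [mul_assoc] at e ⊢
    rw [← mul_assoc (jk (tok C a).2)⁻¹, ← mul_assoc (jk (tok C a).2)]
    have e2 : jk (tok C o).2 * (jk (tok C a).2 * (z (tok C a).1 * ((jk (tok C a).2)⁻¹ * jk (tok C o).2))) *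
        (jk (tok C b).2 * (z (tok C a).1 * (jk (tok C b).2)⁻¹)) = 1 := by
      rw [e]
      calc _ = jk (tok C b).2 * (z (tok C a).1 * z (tok C a).1) * (jk (tok C b).2)⁻¹ := by group
        _ = 1 := by rw [h.sq, mul_one, mul_inv_cancel]
    simp only [mul_assoc] at e2 ⊢
    exact e2
  | prodM =>
    simp only [itemOK, Bool.and_eq_true, List.all_eq_true] at hi
    have key : ∀ R : List ℕ, (∀ i ∈ R, Nat.beq (tok C i).1 2 = true) →
        evalT z C R = jk (R.flatMap fun i => (tok C i).2) := by
      intro R
      induction R with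
      | nil => intro _; simp [evalT, jk_nil]
      | cons i R ih =>
        intro hR
        rw [List.flatMap_cons, jk_append, ← ih fun j hj => hR j (List.mem_cons_of_mem _ hj)]
        simp [evalT, tv, Nat.eq_of_beq_eq_true (hR i List.mem_cons_self)]
    show evalT z C R = 1
    rw [key R hi.1]
    exact jk_eq_one hi.2
  | rew steps => exact rewOK_sound h ht hrs _ _ hi

theorem allOK_sound (h : Valid z C) (ht : toksOK C = true) :
    ∀ (its : List (List ℕ × Prf)) (rs : List (List ℕ)), (∀ R ∈ rs, evalT z C R = 1) →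
      allOK C rs its = true → ∀ it ∈ its, evalT z C it.1 = 1
  | [], _, _, _ => fun _ h => absurd h List.not_mem_nil
  | it :: its, rs, hrs, hall => by
    rw [allOK, Bool.and_eq_true] at hall
    have h1 := itemOK_sound h ht hrs hall.1
    intro x hx
    rcases List.mem_cons.1 hx with rfl | hx
    · exact h1
    · refine allOK_sound h ht its (rs ++ [it.1]) (fun R hR => ?_) hall.2 x hx
      rcases List.mem_append.1 hR with hR | hR
      · exact hrs R hR
      · rw [List.mem_singleton.1 hR]; exact h1

theorem item_one (h : Valid z C) (ht : toksOK C = true) {its : List (List ℕ × Prf)}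
    (hall : allOK C [] its = true) {R : List ℕ} (hR : (its.map (·.1)).contains R = true) :
    evalT z C R = 1 := by
  rw [List.contains_iff_mem, List.mem_map] at hR
  obtain ⟨it, hit, rfl⟩ := hR
  exact allOK_sound h ht its [] (fun _ hx => absurd hx List.not_mem_nil) hall it hit

end CfsgLib.Sporadic.J4Inj
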