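import Cfsg.Agent.Lib.Sporadic.J4Inj.DataNodes0
import Cfsg.Agent.Lib.Sporadic.J4Inj.DataNodes1
import Cfsg.Agent.Lib.Sporadic.J4Inj.DataNodes2
import Cfsg.Agent.Lib.Sporadic.J4Inj.DataNodes3
import Cfsg.Agent.Lib.Sporadic.J4Inj.DataNodes4
import Cfsg.Agent.Lib.Sporadic.J4Inj.DataTargets

/-!
# The deduction graph and what it rests on (owner: helper21)
-/

set_option autoImplicit false
set_option maxRecDepth 100000

namespace CfsgLib.Sporadic.J4Inj

open Cfsg
open CfsgLib.Sporadic.J4Rep (jL)

/-- The letters of a translation. -/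
noncomputable def bitsW (v : ℕ) : List ℕ := (List.range 11).flatMap fun i => cond (v.testBit i) [6 + i] []

/-- The five generators of the centraliser. -/
noncomputable def cGens : List (List ℕ) := [[0], uWord, bitsW 271, bitsW 644, bitsW 1024]

/-- The deduction graph. -/
noncomputable def graph : Graph :=
  ⟨[nb0, nb1, nb2, nb3, nb4, nb5, nb6, nb7, nb8, nb9, nb10, nb11, nb12, nb13, nb14, nb15, nb16, nb17, nb18], cGens, defList, cycList⟩

/-- The number of nodes. -/
def nNodes : ℕ := 10576

/-- The representatives, by the defining edges. -/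
noncomputable def vtx : ℕ → Spor.J4
  | 0 => 1
  | 1 => 1 * gW' (defList.getD 1 (0, [])).2 * jT
  | 2 => (1 * gW' (defList.getD 1 (0, [])).2 * jT) * gW' (defList.getD 2 (0, [])).2 * jT
  | 3 => (1 * gW' (defList.getD 1 (0, [])).2 * jT) * gW' (defList.getD 3 (0, [])).2 * jT
  | 4 => (1 * gW' (defList.getD 1 (0, [])).2 * jT) * gW' (defList.getD 4 (0, [])).2 * jT
  | 5 => ((1 * gW' (defList.getD 1 (0, [])).2 * jT) * gW' (defList.getD 3 (0, [])).2 * jT) *
      gW' (defList.getD 5 (0, [])).2 * jT
  | 6 => ((1 * gW' (defList.getD 1 (0, [])).2 * jT) * gW' (defList.getD 3 (0, [])).2 * jT) *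
      gW' (defList.getD 6 (0, [])).2 * jT
  | _ => 1

theorem gW'_append (u v : List ℕ) : gW' (u ++ v) = gW' u * gW' v := by simp [gW']

theorem gW'_low : ∀ {w : List ℕ}, (∀ k ∈ w, k < 4) → gW' w = jk w
  | [], _ => by simp [gW', jk_nil]
  | k :: w, h => by
    have hk := h k List.mem_cons_self
    rw [jk_cons hk, ← gW'_low fun j hj => h j (List.mem_cons_of_mem _ hj)]
    show gL k * _ = _
    rw [gL, show Nat.blt k 4 = true by simpa using hk, cond_true]
    rfl

theorem gW'_bits : ∀ n ≤ 11, ∀ v : ℕ, gW' ((List.range n).flatMap fun i => cond (v.testBit i) [6 + i] []) =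
    Eg ((List.range n).foldl (fun acc i => cond (v.testBit i) (acc ^^^ (1 <<< i)) acc) 0) := by
  intro n
  induction n with
  | zero => exact fun _ v => by simp [gW', Eg_zero]
  | succ n ih =>
    intro hn v
    rw [List.range_succ, List.flatMap_append, gW'_append, ih (by omega), List.foldl_append]
    cases hb : v.testBit n
    · simp [gW', hb]
    · simp only [List.flatMap_cons, List.flatMap_nil, List.append_nil, List.foldl_cons, List.foldl_nil, hb,
        cond_true]
      rw [Eg_xor]
      congr 1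
      show ([6 + n].map gL).prod = _
      rw [List.map_singleton, List.prod_singleton, gL,
        show Nat.blt (6 + n) 4 = false from Bool.eq_false_iff.2 (by simp; omega)]
      rw [cond_false]
      congr 1
      have h : (List.range 11).all (fun n => Nat.beq (Nat.land (Nat.shiftLeft 1 (Nat.sub (6 + n) 6)) 2047)
          (1 <<< n)) = true := by decide +kernel
      exact Nat.eq_of_beq_eq_true (List.all_eq_true.1 h n (List.mem_range.2 (by omega)))

/-- The translation spelled out. -/
noncomputable def bitsVal (v : ℕ) : ℕ :=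
  (List.range 11).foldl (fun acc i => cond (v.testBit i) (acc ^^^ (1 <<< i)) acc) 0

theorem gW'_bitsW (v : ℕ) : gW' (bitsW v) = Eg (bitsVal v) := gW'_bits 11 le_rfl v

theorem bits_check : ([2007, 271, 644, 1024] : List ℕ).all (fun v => Nat.beq (bitsVal v) v) = true := by
  decide +kernel

theorem vals_check : ([271, 644, 1024] : List ℕ).all (fun v => tVals.contains v) = true := by decide +kernel

theorem comm_val {v : ℕ} (hv : v ∈ ([271, 644, 1024] : List ℕ)) : Commute (gW' (bitsW v)) jT := by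
  have h1 := List.all_eq_true.1 vals_check v hv
  rw [List.contains_iff_mem] at h1
  obtain ⟨i, hi, rfl⟩ := List.mem_iff_getElem.1 h1
  rw [gW'_bitsW, Nat.eq_of_beq_eq_true (List.all_eq_true.1 bits_check _ (List.mem_cons_of_mem _ hv)),
    ← List.getD_eq_getElem tVals 0 hi]
  exact Eg_comm_jT (by simpa [tVals] using hi)

/-- The elements between the steps of the three kinds of cycles, as words. -/
noncomputable def cycWords : List (List (List ℕ)) :=
  let n1 := raWord ++ [2] ++ invK raWord
  let n2 := wWord ++ [2] ++ invK wWord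
  let a := invK bWord
  let b := bWord ++ mWord
  let n3 := n2 ++ (wWord ++ bitsW 2007 ++ invK wWord)
  [[n1, n1, n1], [n1, n1, n1], [n1, n1, n1], [a, b, a, b], [b, a, b, a], [a, b, a, b], [b, a, b, a],
    [n2, n2, n3], [n2, n3, n2], [n3, n2, n2]]

theorem cyc_check : decide (cycList = cycWords.map (List.map wordN)) = true := by decide +kernel

theorem words_low : ([raWord ++ [2] ++ invK raWord, wWord ++ [2] ++ invK wWord, invK bWord, bWord ++ mWord,
    wWord, invK wWord, [0], uWord] : List (List ℕ)).all (fun w => w.all fun k => Nat.blt k 4) = true := by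
  decide +kernel

theorem low (i : ℕ) : ∀ k ∈ ([raWord ++ [2] ++ invK raWord, wWord ++ [2] ++ invK wWord, invK bWord,
    bWord ++ mWord, wWord, invK wWord, [0], uWord] : List (List ℕ)).getD i [], k < 4 := by
  intro k hk
  by_cases hi : i < 8
  · have h := List.all_eq_true.1 words_low _ (List.getElem_mem (l := ([raWord ++ [2] ++ invK raWord,
      wWord ++ [2] ++ invK wWord, invK bWord, bWord ++ mWord, wWord, invK wWord, [0], uWord] : List (List ℕ)))
      (n := i) (by simpa using hi))
    rw [List.getD_eq_getElem _ _ (by simpa using hi)] at hk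
    simpa using List.all_eq_true.1 h k hk
  · rw [List.getD_eq_default _ _ (by simp; omega)] at hk
    simp at hk

theorem conj_cube {G : Type*} [Group G] {a y t : G} (h : (y * (a⁻¹ * t * a)) ^ 3 = 1) :
    t * (a * y * a⁻¹) * (t * (a * y * a⁻¹) * (t * (a * y * a⁻¹))) = 1 := by
  calc t * (a * y * a⁻¹) * (t * (a * y * a⁻¹) * (t * (a * y * a⁻¹)))
      = a * y⁻¹ * (y * (a⁻¹ * t * a)) ^ 3 * (a * y⁻¹)⁻¹ := by simp only [pow_succ, pow_zero, one_mul]; group
    _ = 1 := by rw [h, mul_one, mul_inv_cancel]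

theorem rot_one {G : Type*} [Group G] {a b : G} (h : a * b = 1) : b * a = 1 := mul_eq_one_comm.1 h

theorem r1_form : jT * jk (raWord ++ [2] ++ invK raWord) * (jT * jk (raWord ++ [2] ++ invK raWord) *
    (jT * jk (raWord ++ [2] ++ invK raWord))) = 1 := by
  rw [jk_append, jk_append, jk_invK, jk_two]
  refine conj_cube ?_
  have h := rel_one (r := (Spor.J4.y * ((Spor.J4.y * Spor.J4.x * (Spor.J4.y⁻¹) * Spor.J4.x * Spor.J4.y *
    Spor.J4.x * (Spor.J4.y⁻¹) * Spor.J4.x)⁻¹ * Spor.J4.t * (Spor.J4.y * Spor.J4.x * (Spor.J4.y⁻¹) *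
    Spor.J4.x * Spor.J4.y * Spor.J4.x * (Spor.J4.y⁻¹) * Spor.J4.x))) ^ 3) (by simp [Spor.J4.extra])
  simp only [map_mul, map_inv, map_pow] at h
  have hr : jk raWord = jL 2 * jL 0 * (jL 2)⁻¹ * jL 0 * jL 2 * jL 0 * (jL 2)⁻¹ * jL 0 := by
    simp only [raWord, jk_cons (show (0 : ℕ) < 4 by norm_num), jk_cons (show (2 : ℕ) < 4 by norm_num),
      jk_cons (show (3 : ℕ) < 4 by norm_num), jk_nil, mul_one, mul_assoc]
    rfl
  rw [hr]
  exact h

theorem r2_form : jT * jk (invK bWord) * (jT * jk (bWord ++ mWord) * (jT * jk (invK bWord) *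
    (jT * jk (bWord ++ mWord)))) = 1 := by
  have h := rel_one (r := (((Spor.J4.y * Spor.J4.x * Spor.J4.y * Spor.J4.x * Spor.J4.y * Spor.J4.x *
    Spor.J4.y) ^ 3) * Spor.J4.t * ((((Spor.J4.x * Spor.J4.y) ^ 3) * Spor.J4.y * ((Spor.J4.x * Spor.J4.y) ^ 6) *
    Spor.J4.y)⁻¹ * Spor.J4.t * (((Spor.J4.x * Spor.J4.y) ^ 3) * Spor.J4.y * ((Spor.J4.x * Spor.J4.y) ^ 6) *
    Spor.J4.y))) ^ 2) (by simp [Spor.J4.extra])
  simp only [map_mul, map_inv, map_pow] at h
  have hm' : jk mWord = (jL 2 * jL 0 * jL 2 * jL 0 * jL 2 * jL 0 * jL 2) ^ 3 := by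
    simp only [mWord, jk_cons (show (0 : ℕ) < 4 by norm_num), jk_cons (show (2 : ℕ) < 4 by norm_num),
      jk_nil, mul_one, mul_assoc, pow_succ, pow_zero, one_mul]
  have hb : jk bWord = (jL 0 * jL 2) ^ 3 * jL 2 * (jL 0 * jL 2) ^ 6 * jL 2 := by
    simp only [bWord, jk_cons (show (0 : ℕ) < 4 by norm_num), jk_cons (show (2 : ℕ) < 4 by norm_num),
      jk_nil, mul_one, mul_assoc, pow_succ, pow_zero, one_mul]
  have h' : (jk mWord * jT * ((jk bWord)⁻¹ * jT * jk bWord)) ^ 2 = 1 := by rw [hm', hb]; exact h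
  rw [jk_append, jk_invK]
  calc jT * (jk bWord)⁻¹ * (jT * (jk bWord * jk mWord) * (jT * (jk bWord)⁻¹ * (jT * (jk bWord * jk mWord))))
      = (jk mWord)⁻¹ * (jk mWord * jT * ((jk bWord)⁻¹ * jT * jk bWord)) ^ 2 * jk mWord := by
        rw [pow_two]; group
    _ = 1 := by rw [h', mul_one, inv_mul_cancel]

theorem y_check : Nat.beq (J4Pres.pword [2])
    (J4Pres.pword (([0, 1, 0, 0, 1, 0, 1, 0, 1, 0, 0, 1, 0, 0, 0] : List ℕ).flatMap fun i => sGens.getD i [])) =
      true := by decide +kernel

theorem comm_y : Commute (jk [2]) eJ := by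
  rw [jk_eq_of_pword y_check]
  exact comm_alW valid2 1 [0, 1, 0, 0, 1, 0, 1, 0, 1, 0, 0, 1, 0, 0, 0]

theorem e_form : jT * jk (wWord ++ [2] ++ invK wWord) * (jT * jk (wWord ++ [2] ++ invK wWord) *
    (jT * (jk (wWord ++ [2] ++ invK wWord) * (jk wWord * (Eg 2007 * (jk wWord)⁻¹))))) = 1 := by
  have hy : (jL 2)⁻¹ * eJ * jL 2 = eJ := by
    rw [← jk_two, mul_assoc, ← comm_y.eq, inv_mul_cancel_left]
  rw [Eg_2007, jk_append, jk_append, jk_invK, jk_two]
  calc _ = jk wWord * ((jL 2)⁻¹ * (jL 2 * (jk wWord)⁻¹ * jT * jk wWord) ^ 3 * jL 2) * eJ * (jk wWord)⁻¹ := by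
        simp only [pow_succ, pow_zero, one_mul]; group
    _ = jk wWord * ((jL 2)⁻¹ * eJ * jL 2) * eJ * (jk wWord)⁻¹ := rfl
    _ = 1 := by rw [hy, mul_assoc (jk wWord), eJ_sq, mul_one, mul_inv_cancel]

theorem graph_valid : GValid graph vtx where
  zero := rfl
  cgens w hw := by
    simp only [graph, cGens, List.mem_cons, List.not_mem_nil, or_false] at hw
    rcases hw with rfl | rfl | rfl | rfl | rfl
    · rw [gW'_low (w := [0]) (by simp)]; exact comm_x
    · rw [gW'_low (w := uWord) (by simp [uWord])]; exact comm_u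
    all_goals exact comm_val (by simp)
  defs j h0 h7 := by
    have hl : j < 7 := h7
    interval_cases j <;> rfl
  cycs ns hns := by
    have h := of_decide_eq_true cyc_check
    change ns ∈ cycList at hns
    rw [h, List.mem_map] at hns
    obtain ⟨ws, hws, rfl⟩ := hns
    refine ⟨ws.map gW', ?_, ?_⟩
    · rw [List.forall₂_map_left_iff, List.forall₂_map_right_iff]
      exact List.forall₂_same.2 fun w _ => Sem.word w
    · have e1 := gW'_low (low 0)
      have e2 := gW'_low (low 1)
      have e3 := gW'_low (low 2)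
      have e4 := gW'_low (low 3)
      have e5 := gW'_low (low 4)
      have e6 := gW'_low (low 5)
      simp only [List.getD_cons_zero, List.getD_cons_succ] at e1 e2 e3 e4 e5 e6
      have e7 : gW' (bitsW 2007) = Eg 2007 := by
        rw [gW'_bitsW, Nat.eq_of_beq_eq_true (List.all_eq_true.1 bits_check _ List.mem_cons_self)]
      simp only [cycWords, List.mem_cons, List.not_mem_nil, or_false] at hws
      have e8 : gW' (wWord ++ [2] ++ invK wWord ++ (wWord ++ bitsW 2007 ++ invK wWord)) =
          jk (wWord ++ [2] ++ invK wWord) * (jk wWord * (Eg 2007 * (jk wWord)⁻¹)) := by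
        rw [gW'_append, e2, gW'_append, gW'_append, e5, e6, e7, jk_invK, mul_assoc (jk wWord)]
      have r1 := r1_form
      have r2 := r2_form
      have r2' := rot_one r2
      have r3 := e_form
      have r3' := rot_one r3
      rw [mul_assoc (jT * jk (wWord ++ [2] ++ invK wWord))] at r3'
      have r3'' := rot_one r3'
      simp only [mul_assoc] at r1 r2 r2' r3 r3' r3''
      rcases hws with rfl | rfl | rfl | rfl | rfl | rfl | rfl | rfl | rfl | rfl <;>
        simp only [List.map_cons, List.map_nil, List.prod_cons, List.prod_nil, mul_one, e1, e2, e3, e4, e8,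
          mul_assoc] <;>
        first
          | exact r1
          | exact r2
          | exact r2'
          | exact r3
          | exact r3'
          | exact r3''

end CfsgLib.Sporadic.J4Inj
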