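import Cfsg.Agent.Lib.Sporadic.J4Inj.CertAll
import Cfsg.Agent.Lib.Sporadic.J4Order.Cosets

/-!
# The representation of the presented J4 is faithful (owner: helper21)

The subgroup `Nh` maps isomorphically onto 2^11:M24, and its seven double cosets fill the presented group, because the
identities that close the union in the representation hold in the presented group.
-/

set_option autoImplicit false
set_option maxRecDepth 100000

namespace CfsgLib.Sporadic.J4Inj

open Cfsg
open CfsgLib.Sporadic.J4Rep (jL toJ4 rho V app app_xor)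
open CfsgLib.Sporadic.J4Order (el el_append el_single el_nil el_eq eqW eW eA eA_xor eA_zero eG nG mem_nG rK eA_mem
  invW el_invW let2 tbl2 cjs cj_lt dG gW nW nW_iff repWs vA tP rE treeOK_sound gens0 gens1 gens2 gens3 gens4 gens5
  gens6 roots0 roots1 roots2 roots3 roots4 roots5 roots6 blocks0 blocks1 blocks2 blocks3 blocks4 blocks5 blocks6)

/-! ### the translations in the representation -/

/-- The word of the defining cube. -/
noncomputable def eWord : List ℕ :=
  ([2] ++ invK wWord ++ [4] ++ wWord) ++ ([2] ++ invK wWord ++ [4] ++ wWord) ++ ([2] ++ invK wWord ++ [4] ++ wWord)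

theorem rho_jk {w : List ℕ} (hw : ∀ k ∈ w, k < 4) : rho (jk w) = el w := (J4Order.el_eq_rK hw).symm

theorem rho_jT : rho jT = tP := by
  rw [jT, J4Order.rho_jL (by norm_num), tP, J4Order.let2_eq_letter (by norm_num)]

theorem w_low : ∀ k ∈ wWord, k < 4 := by
  have h : wWord.all (fun k => Nat.blt k 4) = true := by decide +kernel
  simpa using h

theorem invK_low {w : List ℕ} (hw : ∀ k ∈ w, k < 4) : ∀ k ∈ invK w, k < 4 := by
  intro k hk
  simp only [invK, List.mem_reverse, List.mem_map] at hk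
  obtain ⟨a, ha, rfl⟩ := hk
  have := hw a ha
  interval_cases a <;> decide

theorem e_word_check : eqW eWord (eW 2007) = true := by decide +kernel

theorem rho_eJ : rho eJ = eA 2007 := by
  rw [eA, ← el_eq e_word_check]
  simp only [eWord, el_append, el_single, eJ, map_mul, ← jk_invK, rho_jk w_low, rho_jk (invK_low w_low),
    rho_jT, pow_succ, pow_zero, one_mul]
  rw [J4Order.rho_jL (by norm_num : (2 : ℕ) < 6), ← J4Order.let2_eq_letter (by norm_num)]
  rfl

/-- The check of a basic translation in the representation. -/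
noncomputable def seedOK (i : ℕ) : Bool :=
  Nat.beq (tok ctx3 (seedToks.getD i 0)).1 1 && (tok ctx3 (seedToks.getD i 0)).2.all (fun k => Nat.blt k 4) &&
    eqW ((tok ctx3 (seedToks.getD i 0)).2 ++ eW 2007 ++ invK (tok ctx3 (seedToks.getD i 0)).2)
      (eW (seedVals.getD i 0))

theorem seeds_check : (List.range 11).all seedOK = true := by decide +kernel

theorem rho_seedE {i : ℕ} (hi : i < 11) : rho (seedE i) = eA (seedVals.getD i 0) := by
  have h := List.all_eq_true.1 seeds_check i (List.mem_range.2 hi)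
  simp only [seedOK, Bool.and_eq_true, List.all_eq_true, Nat.blt_eq] at h
  obtain ⟨⟨h1, h2⟩, h3⟩ := h
  rw [eA, ← el_eq h3, el_append, el_append, seedE, eTok, tv, Nat.eq_of_beq_eq_true h1,
    if_neg (show ¬(1 : ℕ) = 2 by norm_num), map_mul, map_mul, ← jk_invK, rho_jk h2, rho_jk (invK_low h2)]
  show _ * rho (z2 1) * _ = _
  rw [z2, if_pos rfl, rho_eJ]
  rfl

theorem seedVals_unit : ((List.range 11).all fun i => Nat.beq (app seedVals (1 <<< i)) (seedVals.getD i 0)) = true := by
  decide +kernel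

theorem rho_egS (m : ℕ) : ∀ n ≤ 11, rho (egS n m) = eA (app seedVals (m % 2 ^ n))
  | 0, _ => by
    show rho 1 = _
    rw [map_one, pow_zero, Nat.mod_one, J4Rep.app_zero, eA_zero]
  | n + 1, hn => by
    rw [egS_succ, map_mul, rho_egS m n (by omega)]
    have hsplit : m % 2 ^ (n + 1) = (m % 2 ^ n) ^^^ cond (m.testBit n) (1 <<< n) 0 := by
      apply Nat.eq_of_testBit_eq
      intro j
      rw [Nat.testBit_xor, Nat.testBit_mod_two_pow, Nat.testBit_mod_two_pow]
      rcases Nat.lt_trichotomy j n with h | rfl | h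
      · cases m.testBit n <;> simp [Nat.one_shiftLeft, h, Nat.lt_succ_of_lt h, Nat.ne_of_gt h]
      · cases hb : m.testBit j <;> simp [Nat.one_shiftLeft]
      · cases m.testBit n <;> simp [Nat.one_shiftLeft, show ¬j < n by omega,
          show ¬j < n + 1 by omega, Nat.ne_of_lt h]
    rw [hsplit, app_xor, eA_xor]
    congr 1
    cases m.testBit n
    · rw [cond_false, cond_false, map_one, J4Rep.app_zero, eA_zero]
    · rw [cond_true, cond_true, rho_seedE (by omega),
        Nat.eq_of_beq_eq_true (List.all_eq_true.1 seedVals_unit n (List.mem_range.2 (by omega)))]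

theorem coords_lt (a : ℕ) : app coords a < 2 ^ 11 :=
  J4Rep.app_lt (fun c hc => by
    have h : coords.all (fun c => Nat.blt c (2 ^ 11)) = true := by decide +kernel
    simpa using List.all_eq_true.1 h c hc) a

theorem rho_Eg {a : ℕ} (ha : a < 2048) : rho (Eg a) = eA a := by
  rw [Eg, rho_egS _ 11 le_rfl, Nat.mod_eq_of_lt (coords_lt a),
    Nat.eq_of_beq_eq_true (List.all_eq_true.1 span_check a (List.mem_range.2 ha))]

/-! ### the subgroup 2^11:M24 -/

theorem conj_all (k : J4Pres.K0) : ∀ a < 2048, ∃ b < 2048, toJ4 k * Eg a * (toJ4 k)⁻¹ = Eg b := by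
  have hx : ∀ a < 2048, ∃ b < 2048, jk [0] * Eg a * (jk [0])⁻¹ = Eg b := fun a ha =>
    ⟨_, cj_lt 0 a (by norm_num), Eg_conj_x ha⟩
  have hy : ∀ a < 2048, ∃ b < 2048, jk [2] * Eg a * (jk [2])⁻¹ = Eg b := fun a ha =>
    ⟨_, cj_lt 1 a (by norm_num), Eg_conj_y ha⟩
  have comp : ∀ g h : Spor.J4, (∀ a < 2048, ∃ b < 2048, g * Eg a * g⁻¹ = Eg b) →
      (∀ a < 2048, ∃ b < 2048, h * Eg a * h⁻¹ = Eg b) → ∀ a < 2048, ∃ b < 2048, g * h * Eg a * (g * h)⁻¹ = Eg b := by
    intro g h hg hh a ha
    obtain ⟨b, hb, e⟩ := hh a ha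
    obtain ⟨c, hc, e'⟩ := hg b hb
    exact ⟨c, hc, by rw [← e', ← e]; group⟩
  have hyy : ∀ a < 2048, ∃ b < 2048, (jk [2])⁻¹ * Eg a * ((jk [2])⁻¹)⁻¹ = Eg b := by
    have e : (jk [2])⁻¹ = jk [2] * jk [2] := by
      refine inv_eq_of_mul_eq_one_right ?_
      rw [← jk_append, ← jk_append]
      exact jk_eq_one (by decide +kernel)
    rw [e]
    exact comp _ _ hy hy
  have hxx : (jk [0])⁻¹ = jk [0] := by
    refine inv_eq_of_mul_eq_one_right ?_
    rw [← jk_append]
    exact jk_eq_one (by decide +kernel)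
  have hk : k ∈ Subgroup.closure (Set.range (PresentedGroup.of (rels := J4Pres.rels))) := by
    rw [PresentedGroup.closure_range_of]; trivial
  have hgen : ∀ i : Fin 2, toJ4 (PresentedGroup.of i) = jk [2 * i.val] := fun i => by
    rw [jk_cons (by omega), jk_nil, mul_one]
    show toJ4 (PresentedGroup.of i) = _
    rw [J4Rep.toJ4, PresentedGroup.toGroup.of]
    rfl
  induction hk using Subgroup.closure_induction_left with
  | one => exact fun a ha => ⟨a, ha, by simp⟩
  | mul_left y hy' z _ ih =>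
    obtain ⟨i, rfl⟩ := hy'
    rw [map_mul, hgen]
    fin_cases i
    · exact comp _ _ hx ih
    · exact comp _ _ hy ih
  | inv_mul_cancel y hy' z _ ih =>
    obtain ⟨i, rfl⟩ := hy'
    rw [map_mul, map_inv, hgen]
    fin_cases i
    · exact comp _ _ (by rw [show (jk [2 * ((⟨0, by norm_num⟩ : Fin 2)).val])⁻¹ = jk [0] from hxx]; exact hx) ih
    · exact comp _ _ hyy ih

/-- The subgroup 2^11:M24 of the presented group. -/
noncomputable def Nh : Subgroup Spor.J4 where
  carrier := {x | ∃ a < 2048, ∃ k, x = Eg a * toJ4 k}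
  one_mem' := ⟨0, by norm_num, 1, by rw [Eg_zero, map_one, one_mul]⟩
  mul_mem' := by
    rintro _ _ ⟨a, ha, k, rfl⟩ ⟨b, hb, l, rfl⟩
    obtain ⟨c, hc, e⟩ := conj_all k b hb
    exact ⟨a ^^^ c, Nat.xor_lt_two_pow (n := 11) ha hc, k * l, by rw [Eg_xor, ← e, map_mul]; group⟩
  inv_mem' := by
    rintro _ ⟨a, ha, k, rfl⟩
    obtain ⟨c, hc, e⟩ := conj_all k⁻¹ a ha
    refine ⟨c, hc, k⁻¹, ?_⟩
    rw [mul_inv_rev, inv_eq_of_mul_eq_one_right (Eg_sq a), ← e, map_inv]
    group

theorem Eg_mem {a : ℕ} (ha : a < 2048) : Eg a ∈ Nh := ⟨a, ha, 1, by rw [map_one, mul_one]⟩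

theorem jk_mem (w : List ℕ) : jk w ∈ Nh := ⟨0, by norm_num, J4Pres.val w, by rw [Eg_zero, one_mul]; rfl⟩

theorem rho_mem_nG {x : Spor.J4} (h : x ∈ Nh) : rho x ∈ nG := by
  obtain ⟨a, ha, k, rfl⟩ := h
  rw [map_mul, rho_Eg ha]
  exact mem_nG.2 ⟨_, eA_mem ha, k, rfl⟩

theorem exists_pre {n : Equiv.Perm V} (h : n ∈ nG) : ∃ x ∈ Nh, rho x = n := by
  obtain ⟨_, ⟨a, ha, rfl⟩, k, rfl⟩ := mem_nG.1 h
  exact ⟨Eg a * toJ4 k, ⟨a, ha, k, rfl⟩, by rw [map_mul, rho_Eg ha]; rfl⟩

theorem rho_injOn {x y : Spor.J4} (hx : x ∈ Nh) (hy : y ∈ Nh) (h : rho x = rho y) : x = y := by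
  suffices ∀ z ∈ Nh, rho z = 1 → z = 1 from
    eq_of_mul_inv_eq_one (this _ (mul_mem hx (inv_mem hy)) (by rw [map_mul, map_inv, h, mul_inv_cancel]))
  rintro _ ⟨a, ha, k, rfl⟩ h1
  rw [map_mul, rho_Eg ha] at h1
  have hk : rK k ∈ eG := by
    have e : rK k = (eA a)⁻¹ := eq_inv_of_mul_eq_one_right h1
    rw [e]
    exact inv_mem (eA_mem ha)
  have hk1 := J4Order.rK_mem_eG hk
  subst hk1
  rw [map_one, map_one, mul_one] at h1
  rw [J4Order.eA_injOn ha h1, Eg_zero, map_one, mul_one]

/-! ### words -/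

/-- A letter. -/
noncomputable def gG (k : ℕ) : Spor.J4 := cond (Nat.ble 4 k && Nat.blt k 6) jT (gL k)

/-- A word. -/
noncomputable def gwG (w : List ℕ) : Spor.J4 := (w.map gG).prod

theorem gwG_append (u v : List ℕ) : gwG (u ++ v) = gwG u * gwG v := by simp [gwG]

theorem gwG_nil : gwG [] = 1 := rfl

theorem gL_trans {k : ℕ} (h6 : 6 ≤ k) (h17 : k < 17) : gL k = Eg (2 ^ (k - 6)) := by
  rw [gL, show Nat.blt k 4 = false from Bool.eq_false_iff.2 (by simp; omega), cond_false]
  congr 1
  show (1 <<< (k - 6)) &&& 2047 = _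
  rw [Nat.one_shiftLeft, show (2047 : ℕ) = 2 ^ 11 - 1 by norm_num, Nat.and_two_pow_sub_one_eq_mod,
    Nat.mod_eq_of_lt (Nat.pow_lt_pow_right (by norm_num) (by omega))]

theorem gG_mem {k : ℕ} (h : k < 4 ∨ (6 ≤ k ∧ k < 17)) : gG k ∈ Nh := by
  rcases h with h | ⟨h6, h17⟩
  · rw [gG, show Nat.ble 4 k = false from Bool.eq_false_iff.2 (by simp; omega), Bool.false_and, cond_false, gL,
      show Nat.blt k 4 = true by simpa using h, cond_true]
    have := jk_mem [k]
    rwa [jk_cons h, jk_nil, mul_one] at this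
  · rw [gG, show Nat.blt k 6 = false from Bool.eq_false_iff.2 (by simp; omega), Bool.and_false, cond_false,
      gL_trans h6 h17]
    exact Eg_mem (Nat.pow_lt_pow_right (m := k - 6) (n := 11) (by norm_num) (by omega))

theorem gwG_mem : ∀ {w : List ℕ}, (∀ k ∈ w, k < 4 ∨ (6 ≤ k ∧ k < 17)) → gwG w ∈ Nh
  | [], _ => one_mem _
  | k :: w, h => by
    rw [gwG, List.map_cons, List.prod_cons]
    exact mul_mem (gG_mem (h k List.mem_cons_self)) (gwG_mem fun j hj => h j (List.mem_cons_of_mem _ hj))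

theorem rho_gG {k : ℕ} (h : k < 17) : rho (gG k) = let2 k := by
  by_cases h4 : k < 4
  · rw [gG, show Nat.ble 4 k = false from Bool.eq_false_iff.2 (by simp; omega), Bool.false_and, cond_false, gL,
      show Nat.blt k 4 = true by simpa using h4, cond_true, J4Order.rho_jL (by omega),
      J4Order.let2_eq_letter (by omega)]
  · by_cases h6 : k < 6
    · rw [gG, show Nat.ble 4 k = true by simp; omega, show Nat.blt k 6 = true by simpa using h6, Bool.true_and,
        cond_true, rho_jT]
      rcases (show k = 4 ∨ k = 5 by omega) with rfl | rfl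
      · rfl
      · rw [show let2 5 = tP⁻¹ by rw [tP, J4Order.let2_inv (by norm_num)]; rfl, J4Order.tP_inv]
    · rw [gG, show Nat.blt k 6 = false from Bool.eq_false_iff.2 (by simpa using h6), Bool.and_false, cond_false,
        gL_trans (by omega) h, rho_Eg (Nat.pow_lt_pow_right (m := k - 6) (n := 11) (by norm_num) (by omega)),
        J4Order.eA_unit (by omega), Nat.add_sub_cancel' (by omega : 6 ≤ k)]

theorem rho_gwG : ∀ {w : List ℕ}, (∀ k ∈ w, k < 17) → rho (gwG w) = el w
  | [], _ => by rw [gwG_nil, map_one, el_nil]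
  | k :: w, h => by
    rw [gwG, List.map_cons, List.prod_cons, map_mul, J4Order.el_cons, rho_gG (h k List.mem_cons_self)]
    congr 1
    exact rho_gwG fun j hj => h j (List.mem_cons_of_mem _ hj)

/-- A traced word in full. -/
noncomputable def joinT (s : List ℕ × List (ℕ × List ℕ)) : List ℕ := s.1 ++ s.2.flatMap fun p => 4 :: p.2

/-- No occurrence of the third generator. -/
noncomputable def segOK (w : List ℕ) : Bool := w.all fun k => !(Nat.ble 4 k && Nat.blt k 6)

theorem gwG_seg : ∀ {w : List ℕ}, segOK w = true → gwG w = gW' w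
  | [], _ => rfl
  | k :: w, h => by
    simp only [segOK, List.all_cons, Bool.and_eq_true, Bool.not_eq_true'] at h
    rw [gwG, gW', List.map_cons, List.map_cons, List.prod_cons, List.prod_cons, gG, h.1, cond_false]
    congr 1
    exact gwG_seg h.2

theorem gwG_join {s : List ℕ × List (ℕ × List ℕ)} (h : (segOK s.1 && s.2.all fun p => segOK p.2) = true) :
    gwG (joinT s) = traceVal s.1 s.2 := by
  rw [Bool.and_eq_true, List.all_eq_true] at h
  rw [joinT, gwG_append, traceVal, gwG_seg h.1]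
  congr 1
  suffices H : ∀ l : List (ℕ × List ℕ), (∀ p ∈ l, segOK p.2 = true) →
      gwG (l.flatMap fun p => 4 :: p.2) = (l.map fun p => jT * gW' p.2).prod from H _ h.2
  intro l
  induction l with
  | nil => exact fun _ => rfl
  | cons p ps ih =>
    intro h
    rw [List.flatMap_cons, gwG_append, ih fun q hq => h q (List.mem_cons_of_mem _ hq), List.map_cons, List.prod_cons]
    congr 1
    show (List.map gG (4 :: p.2)).prod = _
    rw [List.map_cons, List.prod_cons]
    congr 1
    exact gwG_seg (h p List.mem_cons_self)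

/-- The seven lists of generators and rows. -/
noncomputable def dblData : List (List (ℕ × List ℕ × List ℕ) × List (ℕ × List ℕ × ℕ × List ℕ × List ℕ)) :=
  [(gens0, roots0), (gens1, roots1), (gens2, roots2), (gens3, roots3), (gens4, roots4), (gens5, roots5),
    (gens6, roots6)]

/-- The word pairs that must agree. -/
noncomputable def pairsOf (i : ℕ) : List (List ℕ × List ℕ) :=
  ((dblData.getD i ([], [])).1.map fun g => (gW g ++ repWs.getD i [], repWs.getD i [] ++ g.2.2)) ++
    (dblData.getD i ([], [])).2.map fun x =>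
      ([4] ++ invW x.2.1 ++ repWs.getD i [], x.2.2.2.1 ++ repWs.getD x.2.2.1 [] ++ x.2.2.2.2)

theorem pairs_check : (decide ((List.range 7).flatMap pairsOf = tgtAll.map (fun t => (joinT t.1, joinT t.2.1))) &&
    tgtAll.all (fun t => segOK t.1.1 && t.1.2.all (fun p => segOK p.2) && segOK t.2.1.1 &&
      t.2.1.2.all fun p => segOK p.2)) = true := by decide +kernel

theorem pairs_sound {i : ℕ} (hi : i < 7) {p : List ℕ × List ℕ} (hp : p ∈ pairsOf i) : gwG p.1 = gwG p.2 := by
  have h := pairs_check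
  rw [Bool.and_eq_true, decide_eq_true_eq, List.all_eq_true] at h
  have hm : p ∈ (List.range 7).flatMap pairsOf := List.mem_flatMap.2 ⟨i, List.mem_range.2 hi, hp⟩
  rw [h.1, List.mem_map] at hm
  obtain ⟨t, ht, rfl⟩ := hm
  have hs := h.2 t ht
  simp only [Bool.and_eq_true] at hs
  rw [gwG_join (by rw [hs.1.1.1, Bool.true_and]; exact hs.1.1.2),
    gwG_join (by rw [hs.1.2, Bool.true_and]; exact hs.2)]
  exact targetOK_sound graph_valid all_nodes_ok (all_targets_ok t ht)

/-! ### the double cosets fill the group -/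

/-- A representative. -/
noncomputable def rG (i : ℕ) : Spor.J4 := gwG (repWs.getD i [])

/-- The union of the double cosets. -/
def inU (x : Spor.J4) : Prop := ∃ j < 7, ∃ a ∈ Nh, ∃ b ∈ Nh, x = a * rG j * b

theorem inU_left {x : Spor.J4} (h : inU x) {m : Spor.J4} (hm : m ∈ Nh) : inU (m * x) := by
  obtain ⟨j, hj, a, ha, b, hb, rfl⟩ := h
  exact ⟨j, hj, m * a, mul_mem hm ha, b, hb, by group⟩

theorem inU_right {x : Spor.J4} (h : inU x) {m : Spor.J4} (hm : m ∈ Nh) : inU (x * m) := by
  obtain ⟨j, hj, a, ha, b, hb, rfl⟩ := h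
  exact ⟨j, hj, a, ha, b * m, mul_mem hb hm, by group⟩

theorem repWs_ok : (List.range 7).all (fun i => (repWs.getD i []).all fun k => Nat.blt k 17) = true := by
  decide +kernel

theorem rho_rG {i : ℕ} (hi : i < 7) : rho (rG i) = rE i :=
  rho_gwG fun k hk => by simpa using List.all_eq_true.1 (List.all_eq_true.1 repWs_ok i (List.mem_range.2 hi)) k hk

/-- The stabiliser in the presented group. -/
noncomputable def Dh (gs : List (ℕ × List ℕ × List ℕ)) : Subgroup Spor.J4 :=
  Subgroup.closure {x | ∃ g ∈ gs, x = gwG (gW g)}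

theorem gW_ok {r : List ℕ} {gs : List (ℕ × List ℕ × List ℕ)} (h : J4Order.gensOK r gs = true)
    {g : ℕ × List ℕ × List ℕ} (hg : g ∈ gs) :
    (∀ k ∈ gW g, k < 4 ∨ (6 ≤ k ∧ k < 17)) ∧ ∀ k ∈ g.2.2, k < 4 ∨ (6 ≤ k ∧ k < 17) := by
  refine ⟨fun k hk => ?_, ?_⟩
  · rcases List.mem_append.1 hk with hk | hk
    · exact Or.inr (J4Order.mem_eW hk)
    · exact Or.inl (((J4Order.gensOK_spec h).2 g hg).2.1 k hk)
  · simp only [J4Order.gensOK, Bool.and_eq_true, List.all_eq_true] at h
    exact nW_iff.1 (h.2 g hg).1.2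

theorem map_Dh {r : List ℕ} {gs : List (ℕ × List ℕ × List ℕ)} (h : J4Order.gensOK r gs = true) :
    (Dh gs).map rho = dG gs := by
  rw [Dh, MonoidHom.map_closure, dG]
  congr 1
  ext y
  simp only [Set.mem_image, Set.mem_ofPred_eq]
  constructor
  · rintro ⟨_, ⟨g, hg, rfl⟩, rfl⟩
    exact ⟨g, hg, rho_gwG fun k hk => by have := (gW_ok h hg).1 k hk; omega⟩
  · rintro ⟨g, hg, rfl⟩
    exact ⟨_, ⟨g, hg, rfl⟩, rho_gwG fun k hk => by have := (gW_ok h hg).1 k hk; omega⟩

theorem Dh_spec {i : ℕ} (hi : i < 7) {gs : List (ℕ × List ℕ × List ℕ)}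
    {rows : List (ℕ × List ℕ × ℕ × List ℕ × List ℕ)} (hd : dblData.getD i ([], []) = (gs, rows))
    (h : J4Order.gensOK (repWs.getD i []) gs = true) :
    Dh gs ≤ Nh ∧ ∀ d ∈ Dh gs, (rG i)⁻¹ * d * rG i ∈ Nh := by
  have h1 : Dh gs ≤ Nh := by
    rw [Dh, Subgroup.closure_le]
    rintro _ ⟨g, hg, rfl⟩
    exact gwG_mem (gW_ok h hg).1
  refine ⟨h1, fun d hd' => ?_⟩
  have hle : Dh gs ≤ Nh.comap ((MulAut.conj (rG i)⁻¹).toMonoidHom) := by
    rw [Dh, Subgroup.closure_le]
    rintro _ ⟨g, hg, rfl⟩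
    show (rG i)⁻¹ * gwG (gW g) * (rG i)⁻¹⁻¹ ∈ Nh
    rw [inv_inv]
    have e := pairs_sound hi (p := (gW g ++ repWs.getD i [], repWs.getD i [] ++ g.2.2))
      (List.mem_append_left _ (List.mem_map.2 ⟨g, by rw [hd]; exact hg, rfl⟩))
    rw [gwG_append, gwG_append] at e
    change gwG (gW g) * rG i = rG i * gwG g.2.2 at e
    rw [mul_assoc, e, inv_mul_cancel_left]
    exact gwG_mem (gW_ok h hg).2
  simpa using hle hd'

theorem good {i : ℕ} (hi : i < 7) {gs : List (ℕ × List ℕ × List ℕ)}
    {rows : List (ℕ × List ℕ × ℕ × List ℕ × List ℕ)} {bs : List (ℕ × ℕ × ℕ × ℕ)}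
    (hd : dblData.getD i ([], []) = (gs, rows))
    (hg : J4Order.gensOK (repWs.getD i []) gs = true) (hr : J4Order.rootsOK (repWs.getD i []) rows = true)
    (ht : J4Order.treeOK (gs.map gW) bs (rows.map (·.1)) = true) :
    ∀ n ∈ Nh, inU (jT * n * rG i) := by
  obtain ⟨hD, hC⟩ := Dh_spec hi hd hg
  obtain ⟨hD1, hC1⟩ := Dh_spec (i := 1) (gs := gens1) (rows := roots1) (by norm_num) rfl J4Order.gens1_ok
  have key : ∀ p < 15180, ∀ n ∈ Nh, (rho n)⁻¹ (vA 0) = vA p → inU (jT * n * rG i) := by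
    intro p hp
    refine treeOK_sound ht (fun p => ∀ n ∈ Nh, (rho n)⁻¹ (vA 0) = vA p → inU (jT * n * rG i)) ?_ ?_ hp
    · intro g p c hgl he hgood n hn hc
      obtain ⟨d0, hd0, hd0'⟩ := J4Order.mem_of_tree hg hgl he
      rw [← map_Dh hg] at hd0
      obtain ⟨d, hd1, rfl⟩ := hd0
      have h := hgood (n * d) (mul_mem hn (hD hd1)) (by
        rw [map_mul, mul_inv_rev, Equiv.Perm.mul_apply, hc, ← hd0', Equiv.Perm.coe_inv, Equiv.symm_apply_apply])
      have e : jT * n * rG i = jT * (n * d) * rG i * ((rG i)⁻¹ * d * rG i)⁻¹ := by group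
      rw [e]
      exact inU_right h (inv_mem (hC d hd1))
    · intro p hp n hn hc
      obtain ⟨row, hrow, rfl⟩ := List.mem_map.1 hp
      have hpair := pairs_sound hi (p := ([4] ++ invW row.2.1 ++ repWs.getD i [],
        row.2.2.2.1 ++ repWs.getD row.2.2.1 [] ++ row.2.2.2.2))
        (List.mem_append_right _ (List.mem_map.2 ⟨row, by rw [hd]; exact hrow, rfl⟩))
      obtain ⟨p, π, j, n1, n2⟩ := row
      simp only [J4Order.rootsOK, List.all_eq_true] at hr
      have h := hr _ hrow
      simp only [Bool.and_eq_true, Nat.blt_eq] at h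
      obtain ⟨⟨⟨⟨⟨h1, h2⟩, h3⟩, h4⟩, h5⟩, -⟩ := h
      have hπn := nW_iff.1 h1
      have hπlt : ∀ k ∈ π, k < 17 := fun k hk => by have := hπn k hk; omega
      have hπ : el π (vA 0) = vA p := J4Order.el_vA_eq hπlt (Nat.eq_of_beq_eq_true h2)
      have hπN : gwG π ∈ Nh := gwG_mem hπn
      have hinv : gwG (invW π) = (gwG π)⁻¹ := by
        have hlt2 : ∀ k ∈ invW π, k < 17 := by
          intro k hk
          simp only [invW, List.mem_reverse, List.mem_map] at hk
          obtain ⟨a, ha, rfl⟩ := hk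
          exact J4Order.inv2_lt (hπlt a ha)
        have hnw : ∀ k ∈ invW π, k < 4 ∨ (6 ≤ k ∧ k < 17) := by
          intro k hk
          simp only [invW, List.mem_reverse, List.mem_map] at hk
          obtain ⟨a, ha, rfl⟩ := hk
          have ha' := hπn a ha
          have hc2 : (List.range 17).all (fun a => decide ((a < 4 ∨ 6 ≤ a) →
              (J4Order.inv2 a < 4 ∨ (6 ≤ J4Order.inv2 a ∧ J4Order.inv2 a < 17)))) = true := by decide +kernel
          exact of_decide_eq_true (List.all_eq_true.1 hc2 a (List.mem_range.2 (by omega))) (by omega)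
        refine rho_injOn (gwG_mem hnw) (inv_mem hπN) ?_
        rw [rho_gwG hlt2, map_inv, rho_gwG hπlt, el_invW hπlt]
      have hρ : rho (n * gwG π) ∈ dG gens1 := J4Order.points.1 _ (rho_mem_nG (mul_mem hn hπN)) (by
        rw [map_mul, rho_gwG hπlt, Equiv.Perm.mul_apply, hπ]
        show rho n (vA p) = vA 0
        rw [show vA p = (rho n)⁻¹ (vA 0) from hc.symm, Equiv.Perm.coe_inv, Equiv.apply_symm_apply])
      rw [← map_Dh J4Order.gens1_ok] at hρ
      obtain ⟨k, hk, hke⟩ := hρ
      have hk' : n * gwG π = k := rho_injOn (mul_mem hn hπN) (hD1 hk) hke.symm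
      have hTk := hC1 k hk
      have hr1 : rG 1 = jT := by
        rw [rG, J4Order.repW_one]
        show (List.map gG [4]).prod = _
        rw [List.map_singleton, List.prod_singleton]
        rfl
      rw [hr1] at hTk
      rw [gwG_append, gwG_append, gwG_append, gwG_append, hinv,
        show gwG [4] = jT by show (List.map gG [4]).prod = _; rw [List.map_singleton, List.prod_singleton]; rfl]
        at hpair
      have e : jT * n * rG i = (jT⁻¹ * k * jT) * (jT * (gwG π)⁻¹ * rG i) := by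
        rw [← hk', jT_inv]
        simp only [mul_assoc]
        rw [← mul_assoc jT jT, jT_sq, one_mul, mul_inv_cancel_left]
      rw [e]
      refine inU_left ?_ hTk
      exact ⟨j, h3, gwG n1, gwG_mem (nW_iff.1 h4), gwG n2, gwG_mem (nW_iff.1 h5), hpair⟩
  intro n hn
  obtain ⟨p, hp, e⟩ := J4Order.points.2 (rho n)⁻¹ (inv_mem (rho_mem_nG hn))
  exact key p hp n hn e

theorem inU_jT {x : Spor.J4} (h : inU x) : inU (jT * x) := by
  obtain ⟨j, hj, a, ha, b, hb, rfl⟩ := h
  have e : jT * (a * rG j * b) = jT * a * rG j * b := by group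
  rw [e]
  refine inU_right ?_ hb
  interval_cases j
  · exact good (by norm_num) rfl J4Order.gens0_ok J4Order.roots0_ok J4Order.tree0_ok a ha
  · exact good (by norm_num) rfl J4Order.gens1_ok J4Order.roots1_ok J4Order.tree1_ok a ha
  · exact good (by norm_num) rfl J4Order.gens2_ok J4Order.roots2_ok J4Order.tree2_ok a ha
  · exact good (by norm_num) rfl J4Order.gens3_ok J4Order.roots3_ok J4Order.tree3_ok a ha
  · exact good (by norm_num) rfl J4Order.gens4_ok J4Order.roots4_ok J4Order.tree4_ok a ha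
  · exact good (by norm_num) rfl J4Order.gens5_ok J4Order.roots5_ok J4Order.tree5_ok a ha
  · exact good (by norm_num) rfl J4Order.gens6_ok J4Order.roots6_ok J4Order.tree6_ok a ha

theorem inU_all (x : Spor.J4) : inU x := by
  have hx : x ∈ Subgroup.closure (Set.range (PresentedGroup.of (α := Spor.J4.Gen)
      (rels := Spor.coxRelators Spor.J4.edges ∪ {r | r ∈ Spor.J4.extra}))) := by
    rw [PresentedGroup.closure_range_of]; trivial
  have h0 : jL 0 ∈ Nh := by have := jk_mem [0]; rwa [jk_cons (by norm_num), jk_nil, mul_one] at this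
  have h2 : jL 2 ∈ Nh := by have := jk_mem [2]; rwa [jk_two] at this
  induction hx using Subgroup.closure_induction_left with
  | one => exact ⟨0, by norm_num, 1, one_mem _, 1, one_mem _, by rw [rG, J4Order.repW_zero, gwG_nil]; group⟩
  | mul_left y hy z _ ih =>
    obtain ⟨g, rfl⟩ := hy
    cases g
    · exact inU_left ih h0
    · exact inU_left ih h2
    · exact inU_jT ih
  | inv_mul_cancel y hy z _ ih =>
    obtain ⟨g, rfl⟩ := hy
    cases g
    · exact inU_left ih (inv_mem h0)
    · exact inU_left ih (inv_mem h2)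
    · show inU (jT⁻¹ * z)
      rw [jT_inv]
      exact inU_jT ih

theorem moved_check : (List.range 7).all (fun j => Nat.beq j 0 ||
    !Nat.beq (J4Rep.runW tbl2 (repWs.getD j []) J4Order.oneVec) J4Order.oneVec) = true := by decide +kernel

theorem rE_not_mem {j : ℕ} (hj : j < 7) (h : rE j ∈ nG) : j = 0 := by
  have hc := List.all_eq_true.1 moved_check j (List.mem_range.2 hj)
  rw [Bool.or_eq_true] at hc
  rcases hc with hc | hc
  · exact Nat.eq_of_beq_eq_true hc
  · have hs := MulAction.mem_stabilizer_iff.1 (J4Order.nG_le_fix h)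
    rw [Equiv.Perm.smul_def] at hs
    have hlt : ∀ k ∈ repWs.getD j [], k < 17 := fun k hk => by
      simpa using List.all_eq_true.1 (List.all_eq_true.1 repWs_ok j (List.mem_range.2 hj)) k hk
    have := congrArg Subtype.val hs
    rw [rE, J4Order.el_apply hlt] at this
    simp [J4Order.oneV] at this
    simp [this] at hc

theorem rho_injective : Function.Injective rho := by
  rw [injective_iff_map_eq_one]
  intro x hx
  obtain ⟨j, hj, a, ha, b, hb, rfl⟩ := inU_all x
  rw [map_mul, map_mul, rho_rG hj] at hx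
  have hmem : rE j ∈ nG := by
    have e : rE j = (rho a)⁻¹ * (rho a * rE j * rho b) * (rho b)⁻¹ := by group
    rw [e, hx, mul_one]
    exact mul_mem (inv_mem (rho_mem_nG ha)) (inv_mem (rho_mem_nG hb))
  obtain rfl := rE_not_mem hj hmem
  have h0 : rG 0 = 1 := by rw [rG, J4Order.repW_zero, gwG_nil]
  rw [J4Order.rE_zero, mul_one, ← map_mul] at hx
  rw [h0, mul_one]
  exact rho_injOn (mul_mem ha hb) (one_mem _) (by rw [hx, map_one])

end CfsgLib.Sporadic.J4Inj
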