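import Cfsg.Agent.Lib.Sporadic.J4Inj.DataLocal

/-!
# The involution with centraliser a sextet group (owner: helper21)

From the relators: the cube `eJ` is an involution, commutes with its sextet stabiliser, seven of its conjugates commute
with the third generator, and three of them multiply to one.
-/

set_option autoImplicit false
set_option maxRecDepth 100000

namespace CfsgLib.Sporadic.J4Inj

open Cfsg
open CfsgLib.Sporadic.J4Rep (jL)

/-- The word `(y x)^4 y⁻¹ x`. -/
noncomputable def wWord : List ℕ := [2, 0, 2, 0, 2, 0, 2, 0, 3, 0]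

/-- The cube giving the translation. -/
noncomputable def eJ : Spor.J4 := (jL 2 * (jk wWord)⁻¹ * jT * jk wWord) ^ 3

/-- The words of its three factors. -/
noncomputable def tri : List (List ℕ) := [[2] ++ invK wWord, [2, 2] ++ invK wWord, invK wWord]

/-- The first context. -/
noncomputable def ctx1 : Ctx := ⟨tmpl1, [[[0], uWord]], [[540226594065541029546683109652923478, 508244361522818585577833354156352015]], toks1⟩

/-- Only the third generator. -/
noncomputable def z1 (_ : ℕ) : Spor.J4 := jT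

theorem cube_eq {G : Type*} [Group G] {y u : G} (hy : y ^ 3 = 1) :
    (y * u) ^ 3 = y * u * y⁻¹ * ((y * y) * u * (y * y)⁻¹) * u :=
  calc (y * u) ^ 3 = y * u * y * u * y * u := by simp only [pow_succ, pow_zero, one_mul, mul_assoc]
    _ = y * u * y⁻¹ * ((y * y) * u * (y * y)⁻¹) * y ^ 3 * u := by group
    _ = _ := by rw [hy, mul_one]

theorem y_cube : jL 2 ^ 3 = 1 := by
  have h := rel_one (r := Spor.J4.y ^ 3) (by simp [Spor.J4.extra])
  rw [map_pow] at h
  exact h

theorem jk_two : jk [2] = jL 2 := by rw [jk_cons (by norm_num), jk_nil, mul_one]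

theorem eJ_eq : eJ = (tri.map fun w => jk w * jT * (jk w)⁻¹).prod := by
  simp only [tri, List.map_cons, List.map_nil, List.prod_cons, List.prod_nil, mul_one, jk_append, jk_invK]
  rw [show jk [2, 2] = jL 2 * jL 2 by rw [jk_cons (by norm_num), jk_two], jk_two, eJ, mul_assoc (jL 2),
    mul_assoc (jL 2), cube_eq y_cube]
  simp only [mul_assoc, mul_inv_rev, inv_inv]

/-- The word of the first long relator. -/
noncomputable def raWord : List ℕ := [2, 0, 3, 0, 2, 0, 3, 0]

/-- The word of order four in the second long relator. -/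
noncomputable def mWord : List ℕ :=
  [2, 0, 2, 0, 2, 0, 2, 2, 0, 2, 0, 2, 0, 2, 2, 0, 2, 0, 2, 0, 2]

/-- The conjugating word in the second long relator. -/
noncomputable def bWord : List ℕ :=
  [0, 2, 0, 2, 0, 2, 2, 0, 2, 0, 2, 0, 2, 0, 2, 0, 2, 0, 2, 2]

theorem jT_conj_form (w : List ℕ) : tv z1 (0, w) = jk w * jT * (jk w)⁻¹ := by simp [tv, z1]

theorem line_rel (n : List ℕ) (hn : Nat.beq (J4Pres.pword (n ++ (n ++ n))) pone = true)
    (hn' : Nat.beq (J4Pres.pword n) (J4Pres.pword (raWord ++ [2] ++ invK raWord)) = true) :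
    jT * ((jk n * jT * (jk n)⁻¹) * (jk (n ++ n) * jT * (jk (n ++ n))⁻¹)) = 1 := by
  have h := rel_one (r := (Spor.J4.y * ((Spor.J4.y * Spor.J4.x * (Spor.J4.y⁻¹) * Spor.J4.x * Spor.J4.y *
    Spor.J4.x * (Spor.J4.y⁻¹) * Spor.J4.x)⁻¹ * Spor.J4.t * (Spor.J4.y * Spor.J4.x * (Spor.J4.y⁻¹) *
    Spor.J4.x * Spor.J4.y * Spor.J4.x * (Spor.J4.y⁻¹) * Spor.J4.x))) ^ 3) (by simp [Spor.J4.extra])
  simp only [map_mul, map_inv, map_pow] at h
  have hr : jk raWord = jL 2 * jL 0 * (jL 2)⁻¹ * jL 0 * jL 2 * jL 0 * (jL 2)⁻¹ * jL 0 := by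
    simp only [raWord, jk_cons (show (0 : ℕ) < 4 by norm_num), jk_cons (show (2 : ℕ) < 4 by norm_num),
      jk_cons (show (3 : ℕ) < 4 by norm_num), jk_nil, mul_one, mul_assoc]
    rfl
  have h' : (jL 2 * ((jk raWord)⁻¹ * jT * jk raWord)) ^ 3 = 1 := by rw [hr]; exact h
  have e := jk_eq_of_pword hn'
  rw [jk_append, jk_append, jk_invK, jk_two] at e
  have e3 := jk_eq_one hn
  rw [jk_append, jk_append] at e3
  calc jT * ((jk n * jT * (jk n)⁻¹) * (jk (n ++ n) * jT * (jk (n ++ n))⁻¹))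
      = jT * jk n * jT * jk n * jT * jk n * (jk n * (jk n * jk n))⁻¹ := by rw [jk_append]; group
    _ = jT * jk n * jT * jk n * jT * jk n := by rw [e3, inv_one, mul_one]
    _ = (jk raWord * (jL 2)⁻¹) * (jL 2 * ((jk raWord)⁻¹ * jT * jk raWord)) ^ 3 *
        (jk raWord * (jL 2)⁻¹)⁻¹ := by rw [e]; simp only [pow_succ, pow_zero, one_mul]; group
    _ = 1 := by rw [h', mul_one, mul_inv_cancel]

theorem square_rel {m m2 : List ℕ} (c : List ℕ) (hm : Nat.beq (J4Pres.pword m) (J4Pres.pword mWord) = true)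
    (hm2 : Nat.beq (J4Pres.pword m2) (J4Pres.pword (m ++ m)) = true)
    (hc : Nat.beq (J4Pres.pword m) (J4Pres.pword (alW ctx1 0 c)) = true) (hcomm : Commute (jk (alW ctx1 0 c)) jT) :
    jT * ((jk (m ++ invK bWord) * jT * (jk (m ++ invK bWord))⁻¹) * (jk m2 * (jT *
      (jk (invK bWord) * jT * (jk (invK bWord))⁻¹)))) = 1 := by
  have h := rel_one (r := (((Spor.J4.y * Spor.J4.x * Spor.J4.y * Spor.J4.x * Spor.J4.y * Spor.J4.x *
    Spor.J4.y) ^ 3) * Spor.J4.t * ((((Spor.J4.x * Spor.J4.y) ^ 3) * Spor.J4.y * ((Spor.J4.x * Spor.J4.y) ^ 6) *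
    Spor.J4.y)⁻¹ * Spor.J4.t * (((Spor.J4.x * Spor.J4.y) ^ 3) * Spor.J4.y * ((Spor.J4.x * Spor.J4.y) ^ 6) *
    Spor.J4.y))) ^ 2) (by simp [Spor.J4.extra])
  simp only [map_mul, map_inv, map_pow] at h
  have hm' : jk mWord = (jL 2 * jL 0 * jL 2 * jL 0 * jL 2 * jL 0 * jL 2) ^ 3 := by
    simp only [mWord, jk_cons (show (0 : ℕ) < 4 by norm_num), jk_cons (show (2 : ℕ) < 4 by norm_num),
      jk_nil, mul_one, mul_assoc, pow_succ, pow_zero, one_mul]
  have hb : jk bWord = (jL 0 * jL 2) ^ 3 * jL 2 * (jL 0 * jL 2) ^ 6 * jL 2 := by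
    simp only [bWord, jk_cons (show (0 : ℕ) < 4 by norm_num), jk_cons (show (2 : ℕ) < 4 by norm_num),
      jk_nil, mul_one, mul_assoc, pow_succ, pow_zero, one_mul]
  have h' : (jk mWord * jT * ((jk bWord)⁻¹ * jT * jk bWord)) ^ 2 = 1 := by rw [hm', hb]; exact h
  have e := jk_eq_of_pword hm
  have e2 := jk_eq_of_pword hm2
  rw [jk_append] at e2
  have ec : jk m * jT = jT * jk m := by rw [jk_eq_of_pword hc]; exact hcomm.eq
  rw [jk_append, jk_invK, e2]
  rw [← e, pow_two] at h'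
  calc jT * ((jk m * (jk bWord)⁻¹ * jT * (jk m * (jk bWord)⁻¹)⁻¹) * (jk m * jk m * (jT *
        ((jk bWord)⁻¹ * jT * ((jk bWord)⁻¹)⁻¹))))
      = jT * jk m * ((jk bWord)⁻¹ * jT * jk bWord) * (jk m * jT * ((jk bWord)⁻¹ * jT * jk bWord)) := by group
    _ = jk m * jT * ((jk bWord)⁻¹ * jT * jk bWord) * (jk m * jT * ((jk bWord)⁻¹ * jT * jk bWord)) := by rw [ec]
    _ = 1 := h'

/-- The word witnessing that the element of order four commutes with the third generator. -/
noncomputable def mC : List ℕ := [0, 1, 1, 0, 1, 1, 0, 1, 0, 1, 0, 1, 0, 1, 0, 1, 1, 1, 0, 1, 1, 0, 1, 1, 1, 0, 1, 0, 1]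

/-- The word of the first template. -/
noncomputable def nWord : List ℕ := [2, 0, 3, 0, 2, 0, 3, 0, 2, 0, 2, 0, 3, 0, 2, 0, 3]

theorem beq_refl_nat : ∀ a : ℕ, Nat.beq a a = true := fun a => by simp

theorem tmpl1_check : (decide (tmpl1 =
      [[(0, []), (0, nWord), (0, nWord ++ nWord)],
       [(0, []), (0, mWord ++ invK bWord), (2, mWord ++ mWord), (0, []), (0, invK bWord)],
       [(0, []), (0, [])]]) &&
    Nat.beq (J4Pres.pword (nWord ++ (nWord ++ nWord))) pone &&
    Nat.beq (J4Pres.pword nWord) (J4Pres.pword (raWord ++ [2] ++ invK raWord)) &&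
    Nat.beq (J4Pres.pword mWord) (J4Pres.pword (alW ctx1 0 mC))) = true := by decide +kernel

theorem comm_al1 : ∀ w ∈ ([[0], uWord] : List (List ℕ)), Commute (jk w) jT := by
  intro w hw
  simp only [List.mem_cons, List.not_mem_nil, or_false] at hw
  rcases hw with rfl | rfl
  · exact comm_x
  · exact comm_u

theorem comm_flat : ∀ c : List ℕ, Commute (jk (alW ctx1 0 c)) jT
  | [] => by rw [alW, List.flatMap_nil, jk_nil]; exact Commute.one_left _
  | i :: c => by
    rw [alW, List.flatMap_cons, jk_append]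
    refine Commute.mul_left ?_ (comm_flat c)
    show Commute (jk (([[0], uWord] : List (List ℕ)).getD i [])) jT
    match i with
    | 0 => exact comm_x
    | 1 => exact comm_u
    | _ + 2 => exact jk_nil ▸ Commute.one_left _

theorem valid1 : Valid z1 ctx1 where
  alp := by decide +kernel
  sq _ := jT_sq
  comm k w hw := by
    match k, hw with
    | 0, hw => exact comm_al1 w hw
    | _ + 1, hw => simp [ctx1] at hw
  tmpl ps hps := by
    have h := tmpl1_check
    simp only [Bool.and_eq_true, decide_eq_true_eq] at h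
    obtain ⟨⟨⟨h1, h2⟩, h3⟩, h4⟩ := h
    have hps' : ps ∈ tmpl1 := hps
    rw [h1] at hps'
    simp only [List.mem_cons, List.not_mem_nil, or_false] at hps'
    rcases hps' with rfl | rfl | rfl
    · simpa [tv, z1, jk_nil] using line_rel nWord h2 h3
    · simpa [tv, z1, jk_nil, mul_assoc] using
        square_rel (m := mWord) (m2 := mWord ++ mWord) mC (beq_refl_nat _) (beq_refl_nat _) h4 (comm_flat mC)
    · simp [tv, z1, jk_nil, jT_sq]

theorem toks1_ok : toksOK ctx1 = true := by decide +kernel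

theorem items1_ok : allOK ctx1 [] items1 = true := by decide +kernel

/-- A relation is derived, with the given tokens. -/
noncomputable def hasRel (R : List ℕ) (ws : List (List ℕ)) : Bool :=
  (items1.map (·.1)).contains R && decide (R.map (tok ctx1) = ws.map fun w => ((0 : ℕ), w))

theorem hasRel_sound {R : List ℕ} {ws : List (List ℕ)} (h : hasRel R ws = true) :
    (ws.map fun w => jk w * jT * (jk w)⁻¹).prod = 1 := by
  rw [hasRel, Bool.and_eq_true, decide_eq_true_eq] at h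
  have e := item_one valid1 toks1_ok items1_ok h.1
  rw [evalT] at e
  rw [show (R.map fun i => tv z1 (tok ctx1 i)) = (R.map (tok ctx1)).map (tv z1) by rw [List.map_map]; rfl,
    h.2, List.map_map] at e
  refine Eq.trans (congrArg List.prod (List.map_congr_left fun w _ => ?_)) e
  exact (jT_conj_form w).symm

/-- The three tokens of a conjugate. -/
noncomputable def triAt (g : List ℕ) : List (List ℕ) := tri.map (g ++ ·)

theorem prod_triAt (g : List ℕ) :
    ((triAt g).map fun w => jk w * jT * (jk w)⁻¹).prod = jk g * eJ * (jk g)⁻¹ := by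
  rw [eJ_eq]
  simp only [triAt, tri, List.map_cons, List.map_nil, List.prod_cons, List.prod_nil, mul_one, jk_append]
  group

theorem prod_triAt_rev (g : List ℕ) :
    ((triAt g).reverse.map fun w => jk w * jT * (jk w)⁻¹).prod = (jk g * eJ * (jk g)⁻¹)⁻¹ := by
  rw [← prod_triAt]
  simp only [triAt, tri, List.map_cons, List.map_nil, List.reverse_cons, List.reverse_nil, List.nil_append,
    List.cons_append, List.prod_cons, List.prod_nil, mul_one, mul_inv_rev, inv_inv, jT_inv, mul_assoc]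

/-- Two generators of the sextet stabiliser. -/
noncomputable def sGens : List (List ℕ) :=
  [[1, 3, 1, 2, 1, 3, 1, 3, 1, 3, 1, 3, 1, 2, 1, 3, 1, 2, 1, 2, 0, 3, 0, 3, 0, 3, 0, 2, 0, 2, 0, 2, 0, 2, 0, 3, 0, 2, 0],
    [1, 3, 1, 2, 1, 3, 1, 2, 1, 3, 1, 2, 1, 3, 1, 3, 1, 3, 1, 2, 2, 0, 3, 0, 2, 0, 3, 0, 3, 0, 3, 0, 3, 0, 2, 0, 2, 0, 3, 0]]

/-- Words moving the sextet to the seven refining the trio. -/
noncomputable def gT : List (List ℕ) :=
  [[2, 0, 2, 0, 3, 0, 3, 0, 3, 0, 2, 0, 2, 0, 3, 0],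
    [2, 0, 3, 0, 3, 0, 2, 0, 3, 0, 3, 0, 3, 0, 3, 0, 3, 0, 3, 0, 2, 0, 3, 0],
    [3, 0, 3, 0, 3, 0, 2, 0, 3, 0, 2, 0, 3, 0],
    [0, 2, 0, 2, 0, 3, 0, 3, 0, 3, 0, 2, 0, 2, 0, 3, 0],
    [2, 0, 2, 0, 2, 0, 2, 0, 3, 0],
    [0, 2, 0, 2, 0, 2, 0, 3, 0, 3, 0, 3, 0],
    [2, 0, 2, 0, 2, 0, 3, 0, 3, 0, 3, 0]]

/-- Three of them whose conjugates multiply to one. -/
noncomputable def gLine : List (List ℕ) :=
  [[2, 0, 2, 0, 3, 0, 3, 0, 3, 0, 2, 0, 2, 0, 3, 0],
    [2, 0, 3, 0, 3, 0, 2, 0, 3, 0, 3, 0, 3, 0, 3, 0, 3, 0, 3, 0, 2, 0, 3, 0],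
    [2, 0, 2, 0, 2, 0, 3, 0, 3, 0, 3, 0]]

theorem goals_check : (hasRel [3, 4, 5, 3, 4, 5] (triAt [] ++ triAt []) &&
    hasRel [18, 19, 20, 5, 4, 3] (triAt (sGens.getD 0 []) ++ (triAt []).reverse) &&
    hasRel [21, 22, 23, 5, 4, 3] (triAt (sGens.getD 1 []) ++ (triAt []).reverse) &&
    (List.range 7).all (fun i => hasRel (([[37, 38, 39, 40, 37, 40, 39, 38], [37, 47, 48, 49, 37, 49, 48, 47], [37, 62, 63, 64, 37, 64, 63, 62], [37, 77, 78, 79, 37, 79, 78, 77], [37, 92, 93, 94, 37, 94, 93, 92], [37, 107, 108, 109, 37, 109, 108, 107], [37, 122, 123, 124, 37, 124, 123, 122]] : List (List ℕ)).getD i [])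
      ([[]] ++ triAt (gT.getD i []) ++ [[]] ++ (triAt (gT.getD i [])).reverse)) &&
    hasRel [38, 39, 40, 47, 48, 49, 122, 123, 124] (triAt (gLine.getD 0 []) ++ triAt (gLine.getD 1 []) ++ triAt (gLine.getD 2 []))) = true := by
  decide +kernel

theorem eJ_sq : eJ * eJ = 1 := by
  have h := goals_check
  simp only [Bool.and_eq_true] at h
  have e := hasRel_sound h.1.1.1.1
  rw [List.map_append, List.prod_append, prod_triAt, jk_nil] at e
  simpa using e

theorem eJ_inv : eJ⁻¹ = eJ := inv_eq_of_mul_eq_one_right eJ_sq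

theorem comm_sGens : ∀ w ∈ sGens, Commute (jk w) eJ := by
  have h := goals_check
  simp only [Bool.and_eq_true] at h
  have key : ∀ {R : List ℕ} {g : List ℕ}, hasRel R (triAt g ++ (triAt []).reverse) = true → Commute (jk g) eJ := by
    intro R g hR
    have e := hasRel_sound hR
    rw [List.map_append, List.prod_append, prod_triAt, prod_triAt_rev, jk_nil, one_mul, inv_one, mul_one,
      mul_inv_eq_one] at e
    exact mul_inv_eq_iff_eq_mul.1 e
  intro w hw
  simp only [sGens, List.mem_cons, List.not_mem_nil, or_false] at hw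
  rcases hw with rfl | rfl
  · exact key h.1.1.1.2
  · exact key h.1.1.2

theorem comm_jT {i : ℕ} (hi : i < 7) : Commute (jk (gT.getD i []) * eJ * (jk (gT.getD i []))⁻¹) jT := by
  have h := goals_check
  simp only [Bool.and_eq_true] at h
  have e := hasRel_sound (List.all_eq_true.1 h.1.2 i (List.mem_range.2 hi))
  simp only [List.map_append, List.prod_append, prod_triAt, prod_triAt_rev, List.map_cons, List.map_nil,
    List.prod_cons, List.prod_nil, jk_nil, one_mul, inv_one, mul_one] at e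
  rw [mul_inv_eq_one] at e
  calc jk (gT.getD i []) * eJ * (jk (gT.getD i []))⁻¹ * jT
      = jT * (jT * (jk (gT.getD i []) * eJ * (jk (gT.getD i []))⁻¹) * jT) := by
        simp only [← mul_assoc, jT_sq, one_mul]
    _ = _ := by rw [e]

theorem eJ_line : jk (gLine.getD 0 []) * eJ * (jk (gLine.getD 0 []))⁻¹ *
    (jk (gLine.getD 1 []) * eJ * (jk (gLine.getD 1 []))⁻¹) *
    (jk (gLine.getD 2 []) * eJ * (jk (gLine.getD 2 []))⁻¹) = 1 := by
  have h := goals_check
  simp only [Bool.and_eq_true] at h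
  have e := hasRel_sound h.2
  simpa only [List.map_append, List.prod_append, prod_triAt] using e

end CfsgLib.Sporadic.J4Inj
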