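import Cfsg.Agent.Lib.Sporadic.J4Inj.Semi

/-!
# Checking a deduction graph on the double cosets of 2^11:M24 (owner: helper21)

A node is five numbers: a head with the kind and the arguments, and four packed elements. Kinds 0, 1 give elements
commuting with the third generator; kinds 2 to 5 give `D i * X = Y * D i`; kinds 6 to 11 give
`D i * X * jT = Y * D j * Z`.
-/

set_option autoImplicit false
set_option maxRecDepth 100000

namespace CfsgLib.Sporadic.J4Inj

open Cfsg
open CfsgLib.Sporadic (Rep pmul pget)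

/-- A node. -/
abbrev Node : Type := ℕ × ℕ × ℕ × ℕ × ℕ

/-- What is given to the checker. -/
structure Graph where
  tree : List (List (List Node))
  cgens : List (List ℕ)
  defs : List (ℕ × List ℕ)
  cycs : List (List ℕ)

variable (G : Graph)

/-- A node by number. -/
noncomputable def nodeAt (k : ℕ) : Node :=
  ((G.tree.getD (k / 576) []).getD ((k / 24) % 24) []).getD (k % 24) (15, 0, 0, 0, 0)

/-- Fields of the head. -/
noncomputable def fld (sh len hd : ℕ) : ℕ := Nat.land (Nat.shiftRight hd sh) (Nat.sub (Nat.shiftLeft 1 len) 1)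

/-- The kind. -/
noncomputable def tagOf (n : Node) : ℕ := fld 0 4 n.1
/-- The first vertex. -/
noncomputable def iOf (n : Node) : ℕ := fld 4 3 n.1
/-- The second vertex. -/
noncomputable def jOf (n : Node) : ℕ := fld 7 3 n.1
/-- The first argument. -/
noncomputable def arA (n : Node) : ℕ := fld 10 16 n.1
/-- The second argument. -/
noncomputable def arB (n : Node) : ℕ := fld 26 16 n.1
/-- A further argument. -/
noncomputable def arF (q : ℕ) (n : Node) : ℕ := fld (42 + 16 * q) 16 n.1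

/-- First packed element. -/
def xOf (n : Node) : ℕ := n.2.1
/-- Second packed element. -/
def yOf (n : Node) : ℕ := n.2.2.1
/-- Third packed element. -/
def zOf (n : Node) : ℕ := n.2.2.2.1
/-- Fourth packed element. -/
def wOf (n : Node) : ℕ := n.2.2.2.2

/-- A commuting element. -/
noncomputable def isC (n : Node) : Bool := Nat.blt (tagOf n) 2
/-- A stabiliser element. -/
noncomputable def isS (n : Node) : Bool := Nat.ble 2 (tagOf n) && Nat.blt (tagOf n) 6
/-- An edge. -/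
noncomputable def isE (n : Node) : Bool := Nat.ble 6 (tagOf n) && Nat.blt (tagOf n) 12

/-- A smaller number. -/
noncomputable def lt2 (k a : ℕ) : Bool := Nat.blt a k

/-- The inverse check. -/
noncomputable def isInv (x m : ℕ) : Bool := Nat.beq (mulN x m) oneN

/-- The elements between the steps of a cycle, conjugated. -/
noncomputable def cycN (c : Node) (ns : List ℕ) : List ℕ := ns.map fun b => mulN (mulN (xOf c) b) (yOf c)

/-- Following a chain of edges: the vertex, the element and the left factor. -/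
noncomputable def follow : List Node → List ℕ → ℕ × ℕ × ℕ → Option (ℕ × ℕ × ℕ)
  | [], _, st => some st
  | e :: es, b :: bs, st =>
    cond (isE e && Nat.beq (iOf e) st.1 && Nat.beq (xOf e) st.2.1)
      (follow es bs (jOf e, mulN (zOf e) b, mulN st.2.2 (yOf e))) none
  | _, _, _ => none

/-- The check of a cycle node. -/
noncomputable def cycOK (k : ℕ) (n : Node) (len : ℕ) : Bool :=
  let c := nodeAt G (arB n)
  let es := (List.range len).map fun q => nodeAt G (arF q n)
  let first := nodeAt G (arF 0 n)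
  let ns := cycN c (G.cycs.getD (arA n) [])
  lt2 k (arB n) && isC c && (List.range len).all (fun q => lt2 k (arF q n)) &&
    Nat.blt (arA n) G.cycs.length && Nat.beq ns.length (len + 1) &&
    match follow es ns (iOf first, xOf first, oneN) with
    | none => false
    | some st => Nat.beq (iOf n) st.1 && Nat.beq (xOf n) st.2.1 && isInv (yOf n) st.2.2 &&
        Nat.beq (jOf n) (iOf first) && isInv (wOf n) (ns.getD len 0) &&
        Nat.beq (zOf n) (mulN (xOf first) (wOf n))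

/-- The check of a node. -/
noncomputable def nodeOK (k : ℕ) : Bool :=
  let n := nodeAt G k
  let a := nodeAt G (arA n)
  let b := nodeAt G (arB n)
  match tagOf n with
  | 0 => Nat.blt (arA n) G.cgens.length && Nat.beq (xOf n) (wordN (G.cgens.getD (arA n) [])) &&
      isInv (yOf n) (xOf n)
  | 1 => lt2 k (arA n) && lt2 k (arB n) && isC a && isC b && Nat.beq (xOf n) (mulN (xOf a) (xOf b)) &&
      Nat.beq (yOf n) (mulN (yOf b) (yOf a))
  | 2 => Nat.beq (iOf n) 0 && Nat.beq (xOf n) (letN (arA n)) && Nat.beq (yOf n) (xOf n)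
  | 3 => lt2 k (arA n) && lt2 k (arB n) && isS a && isS b && Nat.beq (iOf n) (iOf a) && Nat.beq (iOf n) (iOf b) &&
      Nat.beq (xOf n) (mulN (xOf a) (xOf b)) && Nat.beq (yOf n) (mulN (yOf a) (yOf b))
  | 4 => lt2 k (arA n) && isS a && Nat.beq (iOf n) (iOf a) && isInv (xOf n) (xOf a) && isInv (yOf n) (yOf a)
  | 5 => lt2 k (arA n) && lt2 k (arB n) && isE a && isE b && Nat.beq (iOf a) (iOf b) &&
      Nat.beq (xOf a) (xOf b) && Nat.beq (jOf a) (jOf b) && Nat.beq (iOf n) (jOf a) &&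
      isInv (zOf n) (zOf b) && Nat.beq (xOf n) (mulN (zOf a) (zOf n)) &&
      isInv (wOf n) (yOf a) && Nat.beq (yOf n) (mulN (wOf n) (yOf b))
  | 6 => Nat.blt 0 (jOf n) && Nat.blt (jOf n) G.defs.length && Nat.beq (iOf n) (G.defs.getD (jOf n) (0, [])).1 &&
      Nat.beq (xOf n) (wordN (G.defs.getD (jOf n) (0, [])).2) && Nat.beq (yOf n) oneN && Nat.beq (zOf n) oneN
  | 7 => lt2 k (arA n) && lt2 k (arB n) && lt2 k (arF 0 n) && isE a && isS b && isC (nodeAt G (arF 0 n)) &&
      Nat.beq (iOf n) (iOf a) && Nat.beq (iOf b) (iOf a) && Nat.beq (jOf n) (jOf a) &&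
      Nat.beq (xOf n) (mulN (mulN (xOf b) (xOf a)) (xOf (nodeAt G (arF 0 n)))) &&
      Nat.beq (yOf n) (mulN (yOf b) (yOf a)) && Nat.beq (zOf n) (mulN (zOf a) (xOf (nodeAt G (arF 0 n))))
  | 8 => lt2 k (arA n) && lt2 k (arB n) && isE a && isC b && Nat.beq (iOf n) (iOf a) &&
      Nat.beq (jOf n) (jOf a) && Nat.beq (xOf n) (mulN (xOf a) (xOf b)) && Nat.beq (yOf n) (yOf a) &&
      Nat.beq (zOf n) (mulN (zOf a) (xOf b))
  | 9 => lt2 k (arA n) && isE a && Nat.beq (iOf n) (jOf a) && Nat.beq (jOf n) (iOf a) &&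
      Nat.beq (xOf n) (zOf a) && isInv (yOf n) (yOf a) && Nat.beq (zOf n) (xOf a)
  | 10 => cycOK G k n 2
  | 11 => cycOK G k n 3
  | _ => false

/-! ### meaning -/

variable (D : ℕ → Spor.J4)

/-- An element commuting with the third generator, and its inverse. -/
def CSem (x y : ℕ) : Prop := ∃ g, Sem x g ∧ Sem y g⁻¹ ∧ Commute g jT

/-- A stabiliser element of a vertex. -/
def SSem (i x y : ℕ) : Prop := ∃ g f, Sem x g ∧ Sem y f ∧ D i * g = f * D i

/-- An edge. -/
def ESem (i x y j z : ℕ) : Prop := ∃ gn gh gm, Sem x gn ∧ Sem y gh ∧ Sem z gm ∧ D i * gn * jT = gh * D j * gm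

/-- The meaning of a node. -/
def NodeSem (n : Node) : Prop :=
  (isC n = true → CSem (xOf n) (yOf n)) ∧ (isS n = true → SSem D (iOf n) (xOf n) (yOf n)) ∧
    (isE n = true → ESem D (iOf n) (xOf n) (yOf n) (jOf n) (zOf n))

/-- What is assumed. -/
structure GValid : Prop where
  zero : D 0 = 1
  cgens : ∀ w ∈ G.cgens, Commute (gW' w) jT
  defs : ∀ j, 0 < j → j < G.defs.length → D j = D (G.defs.getD j (0, [])).1 * gW' (G.defs.getD j (0, [])).2 * jT
  cycs : ∀ ns ∈ G.cycs, ∃ gs : List Spor.J4, List.Forall₂ Sem ns gs ∧ (gs.map fun g => jT * g).prod = 1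

theorem Sem.inv {x m : ℕ} {g : Spor.J4} (h : Sem m g) (hc : isInv x m = true) : Sem x g⁻¹ := by
  obtain ⟨w, hw, hr, rfl⟩ := h
  have e : mulN x m = oneN := Nat.eq_of_beq_eq_true hc
  have hlt : Nat.xor (aOf x) (actS (pOf x) (aOf m)) < 2048 :=
    Nat.xor_lt_two_pow (n := 11) (aOf_lt x) (actS_lt _ _)
  have ea := congrArg aOf e
  have ep := congrArg pOf e
  rw [mulN, aOf_mkN hlt, oneN, aOf_mkN (by norm_num)] at ea
  rw [mulN, pOf_mkN hlt, oneN, pOf_mkN (by norm_num)] at ep
  have hwi : ∀ k ∈ invK w, k < 4 := by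
    intro k hk
    simp only [invK, List.mem_reverse, List.mem_map] at hk
    obtain ⟨a, ha, rfl⟩ := hk
    have := hw a ha
    interval_cases a <;> decide
  have hperm : permW (invK w) = (permW w)⁻¹ := by
    refine eq_inv_of_mul_eq_one_left ?_
    rw [← permW_append]
    have e1 : jk (invK w ++ w) = 1 := by rw [jk_append, jk_invK, inv_mul_cancel]
    have e2 : J4Pres.val (invK w ++ w) = 1 := J4Rep.toJ4_injective (by rw [map_one]; exact e1)
    rw [permW, e2, map_one, Subgroup.coe_one]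
  have hrx : Rep (permW (invK w)) (pOf x) := by
    intro y
    obtain ⟨z, rfl⟩ : ∃ z, permW w z = y := ⟨(permW w)⁻¹ y, by simp⟩
    rw [hperm, Equiv.Perm.coe_inv, Equiv.symm_apply_apply]
    have h1 := congrArg (fun p => pget p (CfsgLib.Sporadic.ix z)) ep
    simp only [pmul] at h1
    rw [CfsgLib.Sporadic.pget_pmul_aux _ (fun i => CfsgLib.Sporadic.pget_lt _ _),
      if_pos (CfsgLib.Sporadic.ix_lt z), hr z, Rep.one z, Equiv.Perm.one_apply] at h1
    exact h1
  have ea' : aOf x = actS (pOf x) (aOf m) := by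
    have := congrArg (fun v => v ^^^ actS (pOf x) (aOf m)) (show aOf x ^^^ actS (pOf x) (aOf m) = 0 from ea)
    simpa [Nat.xor_assoc] using this
  refine ⟨invK w, hwi, hrx, ?_⟩
  rw [ea', ← conj_Eg (moves_word hwi) hrx (aOf_lt m), jk_invK, mul_inv_rev,
    inv_eq_of_mul_eq_one_right (Eg_sq (aOf m))]
  group

variable {G D}

section

attribute [local irreducible] mulN oneN Sem

theorem follow_sound {c : Spor.J4} :
    ∀ (es : List Node) (bs : List ℕ) (gs : List Spor.J4) (st st' : ℕ × ℕ × ℕ) (q : Spor.J4) (i0 : ℕ),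
      (∀ e ∈ es, NodeSem D e) → List.Forall₂ Sem bs gs →
      (∃ H x, Sem st.2.2 H ∧ Sem st.2.1 x ∧ D i0 * q * c = H * D st.1 * x) →
      follow es bs st = some st' →
      ∃ H x, Sem st'.2.2 H ∧ Sem st'.2.1 x ∧
        D i0 * q * (c * ((gs.take es.length).map fun g => jT * g).prod) = H * D st'.1 * x
  | [], bs, gs, st, st', q, i0, _, _, h, hf => by
    obtain ⟨H, x, hH, hx, e⟩ := h
    have : follow [] bs st = some st := by cases bs <;> rfl
    rw [this, Option.some.injEq] at hf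
    subst hf
    exact ⟨H, x, hH, hx, by simpa using e⟩
  | e :: es, [], gs, st, st', q, i0, _, _, _, hf => by simp [follow] at hf
  | e :: es, b :: bs, gs, st, st', q, i0, hes, hb, h, hf => by
    obtain ⟨H, x, hH, hx, eq⟩ := h
    cases hb with
    | cons hbg hrest =>
      rename_i g gs'
      cases hc : (isE e && Nat.beq (iOf e) st.1 && Nat.beq (xOf e) st.2.1) with
      | false => rw [follow, hc] at hf; simp at hf
      | true =>
        rw [follow, hc, cond_true] at hf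
        rw [Bool.and_eq_true, Bool.and_eq_true] at hc
        obtain ⟨⟨h1, h2⟩, h3⟩ := hc
        obtain ⟨gn, gh, gm, hn, hh, hm, ee⟩ := (hes e List.mem_cons_self).2.2 h1
        rw [Nat.eq_of_beq_eq_true h3] at hn
        rw [Nat.eq_of_beq_eq_true h2] at ee
        have := hn.unique hx
        subst this
        obtain ⟨H', x', hH', hx', e'⟩ := follow_sound (c := c * (jT * g)) es bs gs' _ st' q i0
          (fun e' he' => hes e' (List.mem_cons_of_mem _ he')) hrest
          ⟨H * gh, gm * g, hH.mul hh, hm.mul hbg, by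
            calc D i0 * q * (c * (jT * g)) = D i0 * q * c * jT * g := by group
              _ = H * (D st.1 * gn * jT) * g := by rw [eq]; group
              _ = H * gh * D (jOf e) * (gm * g) := by rw [ee]; group⟩ hf
        refine ⟨H', x', hH', hx', ?_⟩
        rw [← e']
        simp only [List.length_cons, List.take_succ_cons, List.map_cons, List.prod_cons, mul_assoc]

theorem cycOK_sound (hG : GValid G D) {k len : ℕ} (ih : ∀ m < k, NodeSem D (nodeAt G m))
    (h : cycOK G k (nodeAt G k) len = true) (hlen : 0 < len) :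
    ESem D (iOf (nodeAt G k)) (xOf (nodeAt G k)) (yOf (nodeAt G k)) (jOf (nodeAt G k)) (zOf (nodeAt G k)) := by
  simp only [cycOK, lt2, Bool.and_eq_true, List.all_eq_true, List.mem_range, Nat.blt_eq] at h
  obtain ⟨⟨⟨⟨⟨h1, h2⟩, h3⟩, h4⟩, h5⟩, h6⟩ := h
  obtain ⟨c, hcx, hcy, hct⟩ := (ih _ h1).1 h2
  set n := nodeAt G k
  set first := nodeAt G (arF 0 n)
  obtain ⟨gs, hgs, hprod⟩ := hG.cycs _ (by
    rw [List.getD_eq_getElem _ _ h4]; exact List.getElem_mem h4 : G.cycs.getD (arA n) [] ∈ G.cycs)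
  have hgs' : List.Forall₂ Sem (cycN (nodeAt G (arB n)) (G.cycs.getD (arA n) []))
      (gs.map fun g => c * g * c⁻¹) := by
    rw [cycN, List.forall₂_map_left_iff, List.forall₂_map_right_iff]
    exact hgs.imp fun a b hab => (hcx.mul hab).mul hcy
  have hprod' : ((gs.map fun g => c * g * c⁻¹).map fun g => jT * g).prod = 1 := by
    have : ∀ l : List Spor.J4, ((l.map fun g => c * g * c⁻¹).map fun g => jT * g).prod =
        c * (l.map fun g => jT * g).prod * c⁻¹ := by
      intro l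
      induction l with
      | nil => simp
      | cons g l ihl =>
        simp only [List.map_cons, List.prod_cons, ihl]
        have e : jT * (c * g * c⁻¹) = c * (jT * g) * c⁻¹ := by
          rw [← mul_assoc, ← mul_assoc, ← hct.eq]
          group
        rw [e]
        group
    rw [this, hprod, mul_one, mul_inv_cancel]
  set ns := cycN (nodeAt G (arB n)) (G.cycs.getD (arA n) []) with hns
  set hs := gs.map fun g => c * g * c⁻¹ with hhs
  cases hf : follow ((List.range len).map fun q => nodeAt G (arF q n)) ns (iOf first, xOf first, oneN) with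
  | none => rw [hf] at h6; simp at h6
  | some st =>
    rw [hf] at h6
    simp only [Bool.and_eq_true] at h6
    obtain ⟨⟨⟨⟨⟨e1, e2⟩, e3⟩, e4⟩, e5⟩, e6⟩ := h6
    have hfirst : isE first = true := by
      cases len with
      | zero => omega
      | succ len =>
        rw [List.range_succ_eq_map, List.map_cons] at hf
        match ns, hf with
        | [], hf => simp [follow] at hf
        | b :: bs, hf =>
          cases hc : isE first with
          | false => simp [follow, first, hc] at hf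
          | true => rfl
    obtain ⟨gn, -, -, hn, -, -, -⟩ := (ih _ (h3 0 hlen)).2.2 hfirst
    obtain ⟨H, x, hH, hx, e⟩ := follow_sound (c := (1 : Spor.J4)) _ ns hs _ st gn (iOf first)
      (fun e he => by
        obtain ⟨q, hq, rfl⟩ := List.mem_map.1 he
        exact ih _ (h3 q (List.mem_range.1 hq)))
      hgs' ⟨1, gn, Sem.one, hn, by group⟩ hf
    rw [one_mul, List.length_map, List.length_range] at e
    have hl : hs.length = len + 1 := by
      rw [← hgs'.length_eq]; exact Nat.eq_of_beq_eq_true h5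
    have hnl : len < ns.length := by rw [Nat.eq_of_beq_eq_true h5]; omega
    have hlast : Sem (ns.getD len 0) (hs[len]'(by omega)) := by
      rw [List.getD_eq_getElem _ _ hnl]
      exact hgs'.get hnl (by omega)
    have esplit : ((hs.take len).map fun g => jT * g).prod * (jT * hs[len]'(by omega)) = 1 := by
      have e0 : hs = hs.take len ++ [hs[len]'(by omega)] := by
        conv_lhs => rw [← List.take_length (l := hs), hl, List.take_succ_eq_append_getElem (by omega)]
      calc _ = ((hs.take len ++ [hs[len]'(by omega)]).map fun g => jT * g).prod := by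
            rw [List.map_append, List.prod_append, List.map_singleton, List.prod_singleton]
        _ = 1 := by rw [← e0]; exact hprod'
    have e2' := Nat.eq_of_beq_eq_true e2
    refine ⟨x, H⁻¹, gn * (hs[len]'(by omega))⁻¹, e2' ▸ hx, hH.inv e3,
      Nat.eq_of_beq_eq_true e6 ▸ hn.mul (hlast.inv e5), ?_⟩
    rw [Nat.eq_of_beq_eq_true e1, Nat.eq_of_beq_eq_true e4]
    calc D st.1 * x * jT = H⁻¹ * (H * D st.1 * x) * jT := by group
      _ = H⁻¹ * (D (iOf first) * gn * ((hs.take len).map fun g => jT * g).prod) * jT := by rw [e]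
      _ = H⁻¹ * D (iOf first) * gn *
          (((hs.take len).map fun g => jT * g).prod * (jT * hs[len]'(by omega))) * (hs[len]'(by omega))⁻¹ := by
        group
      _ = H⁻¹ * D (iOf first) * (gn * (hs[len]'(by omega))⁻¹) := by rw [esplit]; group

end

theorem nodeSem_C {n : Node} (ht : tagOf n < 2) (h : CSem (xOf n) (yOf n)) : NodeSem D n := by
  refine ⟨fun _ => h, fun hh => ?_, fun hh => ?_⟩ <;>
    simp only [isS, isE, Bool.and_eq_true, Nat.ble_eq, Nat.blt_eq] at hh <;> omega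

theorem nodeSem_S {n : Node} (h1 : 2 ≤ tagOf n) (h2 : tagOf n < 6) (h : SSem D (iOf n) (xOf n) (yOf n)) :
    NodeSem D n := by
  refine ⟨fun hh => ?_, fun _ => h, fun hh => ?_⟩ <;>
    simp only [isC, isE, Bool.and_eq_true, Nat.ble_eq, Nat.blt_eq] at hh <;> omega

theorem nodeSem_E {n : Node} (h1 : 6 ≤ tagOf n) (h : ESem D (iOf n) (xOf n) (yOf n) (jOf n) (zOf n)) :
    NodeSem D n := by
  refine ⟨fun hh => ?_, fun hh => ?_, fun _ => h⟩ <;>
    simp only [isC, isS, Bool.and_eq_true, Nat.ble_eq, Nat.blt_eq] at hh <;> omega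

theorem beqE {a b : ℕ} (h : Nat.beq a b = true) : a = b := Nat.eq_of_beq_eq_true h

theorem nodeOK_sound (hG : GValid G D) {k : ℕ} (ih : ∀ m < k, NodeSem D (nodeAt G m))
    (h : nodeOK G k = true) : NodeSem D (nodeAt G k) := by
  set n := nodeAt G k with hn
  simp only [nodeOK, lt2, ← hn] at h
  rcases ht : tagOf n with _ | _ | _ | _ | _ | _ | _ | _ | _ | _ | _ | _ | m <;>
    rw [ht] at h <;> simp only [Bool.and_eq_true, Nat.blt_eq, Bool.false_eq_true] at h
  · obtain ⟨⟨h1, h2⟩, h3⟩ := h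
    have hx : Sem (xOf n) (gW' (G.cgens.getD (arA n) [])) := beqE h2 ▸ Sem.word _
    refine nodeSem_C (by omega) ⟨_, hx, hx.inv h3, hG.cgens _ ?_⟩
    rw [List.getD_eq_getElem _ _ h1]
    exact List.getElem_mem h1
  · obtain ⟨⟨⟨⟨⟨h1, h2⟩, h3⟩, h4⟩, h5⟩, h6⟩ := h
    obtain ⟨g, hg, hgi, hgc⟩ := (ih _ h1).1 h3
    obtain ⟨f, hf, hfi, hfc⟩ := (ih _ h2).1 h4
    exact nodeSem_C (by omega) ⟨g * f, beqE h5 ▸ hg.mul hf, beqE h6 ▸ (mul_inv_rev g f).symm ▸ hfi.mul hgi,
      hgc.mul_left hfc⟩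
  · obtain ⟨⟨h1, h2⟩, h3⟩ := h
    have hx : Sem (xOf n) (gL (arA n)) := beqE h2 ▸ Sem.letter _
    exact nodeSem_S (by omega) (by omega)
      ⟨_, _, hx, beqE h3 ▸ hx, by rw [beqE h1, hG.zero, one_mul, mul_one]⟩
  · obtain ⟨⟨⟨⟨⟨⟨⟨h1, h2⟩, h3⟩, h4⟩, h5⟩, h6⟩, h7⟩, h8⟩ := h
    obtain ⟨g, f, hg, hf, e⟩ := (ih _ h1).2.1 h3
    obtain ⟨g', f', hg', hf', e'⟩ := (ih _ h2).2.1 h4
    rw [← beqE h5] at e
    rw [← beqE h6] at e'
    refine nodeSem_S (by omega) (by omega) ⟨g * g', f * f', beqE h7 ▸ hg.mul hg', beqE h8 ▸ hf.mul hf', ?_⟩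
    rw [← mul_assoc, e, mul_assoc, e', ← mul_assoc]
  · obtain ⟨⟨⟨⟨h1, h2⟩, h3⟩, h4⟩, h5⟩ := h
    obtain ⟨g, f, hg, hf, e⟩ := (ih _ h1).2.1 h2
    rw [← beqE h3] at e
    refine nodeSem_S (by omega) (by omega) ⟨g⁻¹, f⁻¹, hg.inv h4, hf.inv h5, ?_⟩
    calc D (iOf n) * g⁻¹ = f⁻¹ * (f * D (iOf n)) * g⁻¹ := by group
      _ = _ := by rw [← e]; group
  · obtain ⟨⟨⟨⟨⟨⟨⟨⟨⟨⟨⟨h1, h2⟩, h3⟩, h4⟩, h5⟩, h6⟩, h7⟩, h8⟩, h9⟩, h10⟩, h11⟩, h12⟩ := h
    obtain ⟨gn, gh, gm, hn1, hh1, hm1, e⟩ := (ih _ h1).2.2 h3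
    obtain ⟨gn', gh', gm', hn2, hh2, hm2, e'⟩ := (ih _ h2).2.2 h4
    rw [← beqE h6] at hn2
    have := hn1.unique hn2
    subst this
    rw [← beqE h5, ← beqE h7, e, ← beqE h8] at e'
    refine nodeSem_S (by omega) (by omega) ⟨gm * gm'⁻¹, gh⁻¹ * gh', beqE h10 ▸ hm1.mul (hm2.inv h9),
      beqE h12 ▸ (hh1.inv h11).mul hh2, ?_⟩
    calc D (iOf n) * (gm * gm'⁻¹) = gh⁻¹ * (gh * D (iOf n) * gm) * gm'⁻¹ := by group
      _ = _ := by rw [e']; group
  · obtain ⟨⟨⟨⟨⟨h1, h2⟩, h3⟩, h4⟩, h5⟩, h6⟩ := h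
    refine nodeSem_E (by omega) ⟨_, 1, 1, beqE h4 ▸ Sem.word _, beqE h5 ▸ Sem.one, beqE h6 ▸ Sem.one, ?_⟩
    rw [beqE h3, one_mul, mul_one, hG.defs _ h1 h2]
  · obtain ⟨⟨⟨⟨⟨⟨⟨⟨⟨⟨⟨h1, h2⟩, h3⟩, h4⟩, h5⟩, h6⟩, h7⟩, h8⟩, h9⟩, h10⟩, h11⟩, h12⟩ := h
    obtain ⟨gn, gh, gm, hn1, hh1, hm1, e⟩ := (ih _ h1).2.2 h4
    obtain ⟨g, f, hg, hf, es⟩ := (ih _ h2).2.1 h5
    obtain ⟨c, hc, -, hcc⟩ := (ih _ h3).1 h6
    rw [← beqE h7, ← beqE h9] at e
    rw [beqE h8, ← beqE h7] at es
    refine nodeSem_E (by omega) ⟨g * gn * c, f * gh, gm * c, beqE h10 ▸ (hg.mul hn1).mul hc,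
      beqE h11 ▸ hf.mul hh1, beqE h12 ▸ hm1.mul hc, ?_⟩
    calc D (iOf n) * (g * gn * c) * jT = D (iOf n) * g * gn * (c * jT) := by group
      _ = f * (D (iOf n) * gn * jT) * c := by rw [hcc.eq, es]; group
      _ = _ := by rw [e]; group
  · obtain ⟨⟨⟨⟨⟨⟨⟨⟨h1, h2⟩, h3⟩, h4⟩, h5⟩, h6⟩, h7⟩, h8⟩, h9⟩ := h
    obtain ⟨gn, gh, gm, hn1, hh1, hm1, e⟩ := (ih _ h1).2.2 h3
    obtain ⟨c, hc, -, hcc⟩ := (ih _ h2).1 h4
    rw [← beqE h5, ← beqE h6] at e
    refine nodeSem_E (by omega) ⟨gn * c, gh, gm * c, beqE h7 ▸ hn1.mul hc, beqE h8 ▸ hh1,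
      beqE h9 ▸ hm1.mul hc, ?_⟩
    calc D (iOf n) * (gn * c) * jT = D (iOf n) * gn * (c * jT) := by group
      _ = (D (iOf n) * gn * jT) * c := by rw [hcc.eq]; group
      _ = _ := by rw [e]; group
  · obtain ⟨⟨⟨⟨⟨⟨h1, h2⟩, h3⟩, h4⟩, h5⟩, h6⟩, h7⟩ := h
    obtain ⟨gn, gh, gm, hn1, hh1, hm1, e⟩ := (ih _ h1).2.2 h2
    rw [← beqE h3, ← beqE h4] at e
    refine nodeSem_E (by omega) ⟨gm, gh⁻¹, gn, beqE h5 ▸ hm1, hh1.inv h6, beqE h7 ▸ hn1, ?_⟩
    calc D (iOf n) * gm * jT = gh⁻¹ * (gh * D (iOf n) * gm) * jT := by group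
      _ = gh⁻¹ * (D (jOf n) * gn) * (jT * jT) := by rw [← e]; group
      _ = _ := by rw [jT_sq]; group
  · exact nodeSem_E (by omega) (cycOK_sound hG ih h (by norm_num))
  · exact nodeSem_E (by omega) (cycOK_sound hG ih h (by norm_num))

theorem nodes_sound (hG : GValid G D) {N : ℕ} (h : ∀ k < N, nodeOK G k = true) :
    ∀ k < N, NodeSem D (nodeAt G k) := by
  intro k
  induction k using Nat.strong_induction_on with
  | _ k ih => exact fun hk => nodeOK_sound hG (fun m hm => ih m hm (by omega)) (h k hk)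

variable (G)

/-- Tracing a word: the segments and the edge used at each occurrence of the third generator. -/
noncomputable def traceN (N : ℕ) : List (ℕ × List ℕ) → ℕ × ℕ × ℕ → Option (ℕ × ℕ × ℕ)
  | [], st => some st
  | p :: ps, st =>
    cond (Nat.blt p.1 N && isE (nodeAt G p.1) && Nat.beq (iOf (nodeAt G p.1)) st.1 &&
        Nat.beq (xOf (nodeAt G p.1)) st.2.1)
      (traceN N ps (jOf (nodeAt G p.1), mulN (zOf (nodeAt G p.1)) (wordN p.2),
        mulN st.2.2 (yOf (nodeAt G p.1)))) none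

/-- The value of a traced word. -/
noncomputable def traceVal (w0 : List ℕ) (ps : List (ℕ × List ℕ)) : Spor.J4 :=
  gW' w0 * (ps.map fun p => jT * gW' p.2).prod

variable {G}

attribute [local irreducible] mulN oneN Sem wordN

theorem traceN_sound (hG : GValid G D) {N : ℕ} (hN : ∀ k < N, nodeOK G k = true) :
    ∀ (ps : List (ℕ × List ℕ)) (st st' : ℕ × ℕ × ℕ) (g : Spor.J4),
      (∃ H x, Sem st.2.2 H ∧ Sem st.2.1 x ∧ g = H * D st.1 * x) → traceN G N ps st = some st' →
      ∃ H x, Sem st'.2.2 H ∧ Sem st'.2.1 x ∧ g * (ps.map fun p => jT * gW' p.2).prod = H * D st'.1 * x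
  | [], st, st', g, h, ht => by
    rw [traceN, Option.some.injEq] at ht
    subst ht
    simpa using h
  | p :: ps, st, st', g, ⟨H, x, hH, hx, eg⟩, ht => by
    cases hc : (Nat.blt p.1 N && isE (nodeAt G p.1) && Nat.beq (iOf (nodeAt G p.1)) st.1 &&
        Nat.beq (xOf (nodeAt G p.1)) st.2.1) with
    | false => rw [traceN, hc] at ht; simp at ht
    | true =>
      rw [traceN, hc, cond_true] at ht
      simp only [Bool.and_eq_true, Nat.blt_eq] at hc
      obtain ⟨⟨⟨h1, h2⟩, h3⟩, h4⟩ := hc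
      obtain ⟨gn, gh, gm, hn, hh, hm, e⟩ := (nodes_sound hG hN _ h1).2.2 h2
      rw [beqE h4] at hn
      rw [beqE h3] at e
      have := hn.unique hx
      subst this
      obtain ⟨H', x', hH', hx', e'⟩ := traceN_sound hG hN ps _ st' (g * (jT * gW' p.2))
        ⟨H * gh, gm * gW' p.2, hH.mul hh, hm.mul (Sem.word _), by
          calc g * (jT * gW' p.2) = H * (D st.1 * gn * jT) * gW' p.2 := by rw [eg]; group
            _ = _ := by rw [e]; group⟩ ht
      refine ⟨H', x', hH', hx', ?_⟩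
      rw [← e', List.map_cons, List.prod_cons]
      simp only [mul_assoc]

variable (G)

/-- Two traced words agree. -/
noncomputable def targetOK (N : ℕ) (t : (List ℕ × List (ℕ × List ℕ)) × (List ℕ × List (ℕ × List ℕ)) × ℕ) : Bool :=
  match traceN G N t.1.2 (0, wordN t.1.1, oneN), traceN G N t.2.1.2 (0, wordN t.2.1.1, oneN) with
  | some a, some b =>
    Nat.beq a.1 b.1 && (Nat.beq t.2.2 N && Nat.beq a.2.1 b.2.1 && Nat.beq a.2.2 b.2.2 ||
      Nat.blt t.2.2 N && isS (nodeAt G t.2.2) && Nat.beq (iOf (nodeAt G t.2.2)) a.1 &&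
        Nat.beq (mulN (xOf (nodeAt G t.2.2)) b.2.1) a.2.1 && Nat.beq (mulN a.2.2 (yOf (nodeAt G t.2.2))) b.2.2)
  | _, _ => false

variable {G}

theorem targetOK_sound (hG : GValid G D) {N : ℕ} (hN : ∀ k < N, nodeOK G k = true)
    {t : (List ℕ × List (ℕ × List ℕ)) × (List ℕ × List (ℕ × List ℕ)) × ℕ} (h : targetOK G N t = true) :
    traceVal t.1.1 t.1.2 = traceVal t.2.1.1 t.2.1.2 := by
  rw [targetOK] at h
  split at h
  · rename_i a b ha hb
    have st : ∀ w : List ℕ, ∃ H x, Sem oneN H ∧ Sem (wordN w) x ∧ gW' w = H * D 0 * x := fun w =>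
      ⟨1, gW' w, Sem.one, Sem.word w, by rw [hG.zero, one_mul, one_mul]⟩
    obtain ⟨H, x, hH, hx, e⟩ := traceN_sound hG hN _ _ _ _ (st t.1.1) ha
    obtain ⟨H', x', hH', hx', e'⟩ := traceN_sound hG hN _ _ _ _ (st t.2.1.1) hb
    rw [traceVal, traceVal, e, e']
    simp only [Bool.and_eq_true, Bool.or_eq_true, Nat.blt_eq] at h
    obtain ⟨h0, h⟩ := h
    rw [← beqE h0]
    rcases h with ⟨⟨-, h1⟩, h2⟩ | ⟨⟨⟨⟨h1, h2⟩, h3⟩, h4⟩, h5⟩
    · rw [← beqE h1] at hx'
      rw [← beqE h2] at hH'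
      rw [hx.unique hx', hH.unique hH']
    · obtain ⟨g, f, hg, hf, es⟩ := (nodes_sound hG hN _ h1).2.1 h2
      rw [beqE h3] at es
      have ex := (beqE h4 ▸ hg.mul hx' : Sem a.2.1 (g * x')).unique hx
      have eH := (beqE h5 ▸ hH.mul hf : Sem b.2.2 (H * f)).unique hH'
      rw [← ex, ← eH]
      calc H * D a.1 * (g * x') = H * (D a.1 * g) * x' := by group
        _ = _ := by rw [es]; group
  · simp at h

end CfsgLib.Sporadic.J4Inj
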