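import Cfsg.Agent.Lib.Sporadic.J4Inj.DataDuads

/-!
# Computing in 2^11:M24 inside the presented J4 (owner: helper21)

An element is packed as `p * 2048 + a`: eleven bits of translation and a packed permutation. `Sem n g` says that `g`
is the element of the presented group so described.
-/

set_option autoImplicit false
set_option maxRecDepth 100000

namespace CfsgLib.Sporadic.J4Inj

open Cfsg
open CfsgLib.Sporadic (Rep pmul pget ix pt ix_pt forallLt forallLt_elim)
open CfsgLib.Sporadic.J4Rep (jL app)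
open CfsgLib.Sporadic.J4Order (conjX conjY)

/-- The value of a pair of points. -/
noncomputable def dd (i j : ℕ) : ℕ := Nat.land (Nat.shiftRight (duadRows.getD i 0) (Nat.mul 11 j)) 2047

theorem dd_lt (i j : ℕ) : dd i j < 2048 :=
  Nat.lt_succ_of_le (show _ &&& 2047 ≤ 2047 from Nat.and_le_right)

/-- The image of a sum of pairs. -/
noncomputable def ddImg (p : ℕ) (l : List (ℕ × ℕ)) : ℕ :=
  List.rec 0 (fun q _ ih => Nat.xor (dd (pget p q.1) (pget p q.2)) ih) l

/-- The image of a translation, over the first `n` bits. -/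
noncomputable def actN (p a n : ℕ) : ℕ :=
  Nat.rec 0 (fun i ih => cond (a.testBit i) (Nat.xor ih (ddImg p (unitPairs.getD i []))) ih) n

/-- The image of a translation. -/
noncomputable def actS (p a : ℕ) : ℕ := actN p a 11

theorem ddImg_lt (p : ℕ) : ∀ l, ddImg p l < 2048
  | [] => by norm_num [ddImg]
  | q :: l => Nat.xor_lt_two_pow (n := 11) (dd_lt _ _) (ddImg_lt p l)

theorem actS_lt (p a : ℕ) : actS p a < 2048 := by
  show actN p a 11 < 2048
  suffices ∀ n, actN p a n < 2048 from this 11
  intro n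
  induction n with
  | zero => show 0 < 2048; norm_num
  | succ n ih =>
    show cond (a.testBit n) (Nat.xor (actN p a n) (ddImg p (unitPairs.getD n []))) (actN p a n) < 2048
    cases a.testBit n
    · exact ih
    · exact Nat.xor_lt_two_pow (n := 11) ih (ddImg_lt _ _)

/-! ### conjugation of pairs -/

theorem jk_letter_eq : (Nat.beq (J4Pres.pword [1]) (J4Pres.pword [0]) &&
    Nat.beq (J4Pres.pword [3]) (J4Pres.pword [2, 2])) = true := by decide +kernel

/-- The check for one generator. -/
noncomputable def ddOK (g : ℕ) (cj : List ℕ) : Bool :=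
  forallLt 24 fun i => forallLt 24 fun j =>
    Nat.beq (app cj (dd i j)) (dd (pget (J4Pres.pk g) i) (pget (J4Pres.pk g) j)) &&
      Nat.blt (pget (J4Pres.pk g) i) 24

theorem dd_check : (ddOK 0 conjX && ddOK 2 conjY) = true := by decide +kernel

/-- The permutation of a word. -/
noncomputable def permW (w : List ℕ) : Equiv.Perm GolayPt := ((J4Pres.toM24 (J4Pres.val w) : ↥M24) : Equiv.Perm GolayPt)

theorem rep_permW (w : List ℕ) : Rep (permW w) (J4Pres.pword w) := by
  rw [permW, toM24_val]
  exact J4Pres.rep_word w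

theorem permW_append (u v : List ℕ) : permW (u ++ v) = permW u * permW v := by
  rw [permW, J4Pres.val_append, map_mul, Subgroup.coe_mul]; rfl

/-- Conjugation by a word moves pairs. -/
def MovesPairs (w : List ℕ) : Prop :=
  ∀ x y : GolayPt, jk w * Eg (dd (ix x) (ix y)) * (jk w)⁻¹ = Eg (dd (ix (permW w x)) (ix (permW w y)))

theorem moves_gen {g : ℕ} {cj : List ℕ} (hg : ddOK g cj = true)
    (hc : ∀ a < 2048, jk [g] * Eg a * (jk [g])⁻¹ = Eg (app cj a)) : MovesPairs [g] := by
  intro x y
  have h := forallLt_elim (forallLt_elim hg (CfsgLib.Sporadic.ix_lt x)) (CfsgLib.Sporadic.ix_lt y)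
  rw [Bool.and_eq_true] at h
  have hr := rep_permW [g]
  have e : J4Pres.pword [g] = pmul (J4Pres.pk g) pone := rfl
  have hp : ∀ z, pget (J4Pres.pk g) (ix z) = ix (permW [g] z) := by
    intro z
    have h1 : Rep (permW [g]) (J4Pres.pk g) := by
      have h2 := (J4Pres.exists_letter g).choose_spec.1
      rw [permW, toM24_val, List.map_cons, List.map_nil, List.prod_cons, List.prod_nil, mul_one]
      exact h2
    exact h1 z
  rw [hc _ (dd_lt _ _), Nat.eq_of_beq_eq_true h.1, hp, hp]

theorem moves_append {u v : List ℕ} (hu : MovesPairs u) (hv : MovesPairs v) : MovesPairs (u ++ v) := by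
  intro x y
  rw [permW_append, Equiv.Perm.mul_apply, Equiv.Perm.mul_apply, jk_append]
  calc jk u * jk v * Eg (dd (ix x) (ix y)) * (jk u * jk v)⁻¹
      = jk u * (jk v * Eg (dd (ix x) (ix y)) * (jk v)⁻¹) * (jk u)⁻¹ := by group
    _ = _ := by rw [hv x y, hu _ _]

theorem moves_congr {u v : List ℕ} (h : Nat.beq (J4Pres.pword u) (J4Pres.pword v) = true) (hv : MovesPairs v) :
    MovesPairs u := by
  intro x y
  rw [jk_eq_of_pword h, permW, val_eq_of_pword h]
  exact hv x y

theorem moves_nil : MovesPairs [] := by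
  intro x y
  simp [jk_nil, permW, J4Pres.val]

theorem moves_letter : ∀ {k : ℕ}, k < 4 → MovesPairs [k] := by
  have h := dd_check
  rw [Bool.and_eq_true] at h
  have hl := jk_letter_eq
  rw [Bool.and_eq_true] at hl
  have m0 : MovesPairs [0] := moves_gen h.1 fun a ha => Eg_conj_x ha
  have m2 : MovesPairs [2] := moves_gen h.2 fun a ha => Eg_conj_y ha
  intro k hk
  interval_cases k
  · exact m0
  · exact moves_congr hl.1 m0
  · exact m2
  · exact moves_congr hl.2 (moves_append m2 m2)

theorem moves_word : ∀ {w : List ℕ}, (∀ k ∈ w, k < 4) → MovesPairs w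
  | [], _ => moves_nil
  | k :: w, h => moves_append (u := [k]) (moves_letter (h k List.mem_cons_self))
      (moves_word fun j hj => h j (List.mem_cons_of_mem _ hj))

theorem units_check : ((List.range 11).all fun i =>
    (unitPairs.getD i []).all (fun q => Nat.blt q.1 24 && Nat.blt q.2 24) &&
    Nat.beq (ddImg pone (unitPairs.getD i [])) (1 <<< i)) = true := by decide +kernel

theorem conj_ddImg {w : List ℕ} (hw : MovesPairs w) {p : ℕ} (hp : Rep (permW w) p) :
    ∀ l : List (ℕ × ℕ), (∀ q ∈ l, q.1 < 24 ∧ q.2 < 24) →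
      jk w * Eg (ddImg pone l) * (jk w)⁻¹ = Eg (ddImg p l)
  | [], _ => by show jk w * Eg 0 * (jk w)⁻¹ = Eg 0; rw [Eg_zero, mul_one, mul_inv_cancel]
  | q :: l, hl => by
    show jk w * Eg (dd (pget pone q.1) (pget pone q.2) ^^^ ddImg pone l) * (jk w)⁻¹ =
      Eg (dd (pget p q.1) (pget p q.2) ^^^ ddImg p l)
    obtain ⟨h1, h2⟩ := hl q List.mem_cons_self
    have e1 : ∀ i < 24, pget pone i = ix (pt i) := fun i hi => by
      have := Rep.one (pt i)
      rw [ix_pt hi] at this
      rw [this, Equiv.Perm.one_apply, ix_pt hi]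
    have e2 : ∀ i < 24, pget p i = ix (permW w (pt i)) := fun i hi => by
      have := hp (pt i)
      rwa [ix_pt hi] at this
    rw [Eg_xor, Eg_xor, e1 _ h1, e1 _ h2, e2 _ h1, e2 _ h2, ← hw (pt q.1) (pt q.2),
      ← conj_ddImg hw hp l fun r hr => hl r (List.mem_cons_of_mem _ hr)]
    group

theorem conj_Eg {w : List ℕ} (hw : MovesPairs w) {p : ℕ} (hp : Rep (permW w) p) {a : ℕ} (ha : a < 2048) :
    jk w * Eg a * (jk w)⁻¹ = Eg (actS p a) := by
  suffices H : ∀ n ≤ 11, ∀ a < 2 ^ n, jk w * Eg a * (jk w)⁻¹ = Eg (actN p a n) from H 11 le_rfl a ha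
  intro n
  induction n with
  | zero =>
    intro _ a ha
    obtain rfl : a = 0 := by simpa using ha
    show jk w * Eg 0 * (jk w)⁻¹ = Eg 0
    rw [Eg_zero, mul_one, mul_inv_cancel]
  | succ n ih =>
    intro hn a ha
    show _ = Eg (cond (a.testBit n) (Nat.xor (actN p a n) (ddImg p (unitPairs.getD n []))) (actN p a n))
    have hN : ∀ b, (∀ i < n, b.testBit i = a.testBit i) → actN p b n = actN p a n := by
      intro b hb
      have : ∀ m ≤ n, actN p b m = actN p a m := by
        intro m
        induction m with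
        | zero => exact fun _ => rfl
        | succ m ihm =>
          intro hm
          show cond (b.testBit m) (Nat.xor (actN p b m) (ddImg p (unitPairs.getD m []))) (actN p b m) =
            cond (a.testBit m) (Nat.xor (actN p a m) (ddImg p (unitPairs.getD m []))) (actN p a m)
          rw [hb m (by omega), ihm (by omega)]
      exact this n le_rfl
    by_cases h : a < 2 ^ n
    · rw [Nat.testBit_eq_false_of_lt h, cond_false]
      exact ih (by omega) a h
    · have hb : a.testBit n = true := by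
        have : a / 2 ^ n = 1 := Nat.div_eq_of_lt_le (by omega) (by rw [pow_succ] at ha; omega)
        simp [Nat.testBit_eq_decide_div_mod_eq, this]
      rw [hb, cond_true]
      have hlow : a ^^^ 2 ^ n < 2 ^ n := by
        refine Nat.lt_pow_two_of_testBit _ fun i hi => ?_
        rw [Nat.testBit_xor, Nat.testBit_two_pow]
        rcases Nat.lt_or_eq_of_le hi with hi' | rfl
        · rw [Nat.testBit_eq_false_of_lt (lt_of_lt_of_le ha (Nat.pow_le_pow_right (by norm_num) hi'))]
          simp [Nat.ne_of_lt hi']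
        · simp [hb]
      have hu := units_check
      rw [List.all_eq_true] at hu
      have hu' := hu n (List.mem_range.2 (by omega))
      rw [Bool.and_eq_true, List.all_eq_true, Nat.one_shiftLeft] at hu'
      have e := conj_ddImg hw hp _ fun q hq => by simpa using hu'.1 q hq
      rw [Nat.eq_of_beq_eq_true hu'.2] at e
      have ea : a = (a ^^^ 2 ^ n) ^^^ 2 ^ n := by rw [Nat.xor_assoc, Nat.xor_self, Nat.xor_zero]
      have eb : actN p (a ^^^ 2 ^ n) n = actN p a n := hN _ fun i hi => by
        rw [Nat.testBit_xor, Nat.testBit_two_pow]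
        simp [Nat.ne_of_gt hi]
      show _ = Eg (actN p a n ^^^ ddImg p (unitPairs.getD n []))
      rw [Eg_xor, ← eb, ← ih (by omega) _ hlow, ← e]
      conv_lhs => rw [ea, Eg_xor]
      group

/-! ### packed elements -/

/-- Packing. -/
noncomputable def mkN (a p : ℕ) : ℕ := Nat.add (Nat.mul p 2048) a

/-- The translation part. -/
noncomputable def aOf (n : ℕ) : ℕ := Nat.land n 2047

/-- The permutation part. -/
noncomputable def pOf (n : ℕ) : ℕ := Nat.shiftRight n 11

/-- The product. -/
noncomputable def mulN (m n : ℕ) : ℕ :=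
  mkN (Nat.xor (aOf m) (actS (pOf m) (aOf n))) (pmul (pOf m) (pOf n))

/-- The identity. -/
noncomputable def oneN : ℕ := mkN 0 pone

theorem aOf_lt (n : ℕ) : aOf n < 2048 := Nat.lt_succ_of_le (show n &&& 2047 ≤ 2047 from Nat.and_le_right)

theorem aOf_mkN {a : ℕ} (ha : a < 2048) (p : ℕ) : aOf (mkN a p) = a := by
  show (p * 2048 + a) &&& 2047 = a
  rw [show (2047 : ℕ) = 2 ^ 11 - 1 by norm_num, Nat.and_two_pow_sub_one_eq_mod, Nat.mul_add_mod',
    Nat.mod_eq_of_lt (by norm_num; omega)]

theorem pOf_mkN {a : ℕ} (ha : a < 2048) (p : ℕ) : pOf (mkN a p) = p := by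
  show (p * 2048 + a) >>> 11 = p
  rw [Nat.shiftRight_eq_div_pow, show (2 : ℕ) ^ 11 = 2048 by norm_num]
  omega

/-- An element is described by a packed number. -/
def Sem (n : ℕ) (g : Spor.J4) : Prop :=
  ∃ w : List ℕ, (∀ k ∈ w, k < 4) ∧ Rep (permW w) (pOf n) ∧ g = Eg (aOf n) * jk w

theorem Sem.unique {n : ℕ} {g g' : Spor.J4} (h : Sem n g) (h' : Sem n g') : g = g' := by
  obtain ⟨w, -, hw, rfl⟩ := h
  obtain ⟨v, -, hv, rfl⟩ := h'
  have e : J4Pres.val w = J4Pres.val v :=
    J4Pres.toM24_injective (Subtype.ext (hw.unique hv))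
  rw [jk, jk, e]

theorem Sem.one : Sem oneN 1 :=
  ⟨[], by simp, by
    rw [oneN, pOf_mkN (by norm_num)]
    simpa [permW, J4Pres.val] using Rep.one, by rw [oneN, aOf_mkN (by norm_num), Eg_zero, jk_nil, mul_one]⟩

theorem Sem.mul {m n : ℕ} {g h : Spor.J4} (hg : Sem m g) (hh : Sem n h) : Sem (mulN m n) (g * h) := by
  obtain ⟨u, hu, hru, rfl⟩ := hg
  obtain ⟨v, hv, hrv, rfl⟩ := hh
  have hlt : Nat.xor (aOf m) (actS (pOf m) (aOf n)) < 2048 :=
    Nat.xor_lt_two_pow (n := 11) (aOf_lt m) (actS_lt _ _)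
  refine ⟨u ++ v, ?_, ?_, ?_⟩
  · intro k hk
    rcases List.mem_append.1 hk with hk | hk
    · exact hu k hk
    · exact hv k hk
  · rw [mulN, pOf_mkN hlt, permW_append]
    exact Rep.mul hru hrv
  · rw [mulN, aOf_mkN hlt, jk_append, show Nat.xor (aOf m) (actS (pOf m) (aOf n)) =
      aOf m ^^^ actS (pOf m) (aOf n) from rfl, Eg_xor, ← conj_Eg (moves_word hu) hru (aOf_lt n)]
    group

/-- The letters: four of the generators, eleven translations. -/
noncomputable def letN (k : ℕ) : ℕ :=
  cond (Nat.blt k 4) (mkN 0 (J4Pres.pk k)) (mkN (Nat.land (Nat.shiftLeft 1 (Nat.sub k 6)) 2047) pone)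

/-- The letters in the group. -/
noncomputable def gL (k : ℕ) : Spor.J4 :=
  cond (Nat.blt k 4) (jL k) (Eg (Nat.land (Nat.shiftLeft 1 (Nat.sub k 6)) 2047))

/-- A word. -/
noncomputable def wordN (w : List ℕ) : ℕ := List.rec oneN (fun k _ ih => mulN (letN k) ih) w

/-- Its value. -/
noncomputable def gW' (w : List ℕ) : Spor.J4 := (w.map gL).prod

theorem Sem.letter (k : ℕ) : Sem (letN k) (gL k) := by
  unfold letN gL
  by_cases hk : k < 4
  · rw [show Nat.blt k 4 = true by simpa using hk, cond_true, cond_true]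
    refine ⟨[k], by simpa using hk, ?_, ?_⟩
    · rw [pOf_mkN (by norm_num), permW, toM24_val, List.map_cons, List.map_nil, List.prod_cons, List.prod_nil,
        mul_one]
      exact (J4Pres.exists_letter k).choose_spec.1
    · rw [aOf_mkN (by norm_num), Eg_zero, one_mul, jk_cons hk, jk_nil, mul_one]
  · rw [show Nat.blt k 4 = false from Bool.eq_false_iff.2 (by simpa using hk), cond_false, cond_false]
    have hlt : Nat.land (Nat.shiftLeft 1 (Nat.sub k 6)) 2047 < 2048 :=
      Nat.lt_succ_of_le (show _ &&& 2047 ≤ 2047 from Nat.and_le_right)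
    refine ⟨[], by simp, ?_, by rw [aOf_mkN hlt, jk_nil, mul_one]⟩
    rw [pOf_mkN hlt]
    simpa [permW, J4Pres.val] using Rep.one

theorem Sem.word : ∀ w : List ℕ, Sem (wordN w) (gW' w)
  | [] => Sem.one
  | k :: w => by
    show Sem (mulN (letN k) (wordN w)) _
    rw [gW', List.map_cons, List.prod_cons]
    exact (Sem.letter k).mul (Sem.word w)

end CfsgLib.Sporadic.J4Inj
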