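import Cfsg.Agent.Lib.Sporadic.J4Inj.Local
import Cfsg.Agent.Lib.Sporadic.J4Inj.DataLine
import Cfsg.Agent.Lib.Sporadic.J4Order.EGroup

/-!
# The elementary abelian group of 2048 translations inside the presented J4 (owner: helper21)

`Eg a` multiplies eleven commuting conjugates of `eJ`; it is additive, normalised by the first two generators, and
`Eg 2007 = eJ`.
-/

set_option autoImplicit false
set_option maxRecDepth 100000

namespace CfsgLib.Sporadic.J4Inj

open Cfsg
open CfsgLib.Sporadic.J4Rep (app app_xor)
open CfsgLib.Sporadic.J4Order (conjX conjY)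

/-- The involutions of the two kinds. -/
noncomputable def z2 (k : ℕ) : Spor.J4 := if k = 1 then eJ else jT

/-- The context of the lines. -/
noncomputable def ctx2 : Ctx := ⟨[gLine.map (fun g => ((1 : ℕ), g)), [(1, []), (1, [])]], [[], sGens], [[], [26315299064963739298737816753312236, 627888142510150870265585803596022220]], toks2⟩

/-- The context with the commutation templates. -/
noncomputable def ctx3 : Ctx := ⟨ctx2.tmpl ++ tmpl3, [[], sGens], [[], [26315299064963739298737816753312236, 627888142510150870265585803596022220]], toks2⟩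

theorem z2_sq (k : ℕ) : z2 k * z2 k = 1 := by
  unfold z2
  split_ifs
  · exact eJ_sq
  · exact jT_sq

theorem comm_al2 (k : ℕ) (w : List ℕ) (hw : w ∈ ([[], sGens] : List (List (List ℕ))).getD k []) :
    Commute (jk w) (z2 k) := by
  match k, hw with
  | 0, hw => simp at hw
  | 1, hw => exact comm_sGens w hw
  | _ + 2, hw => simp at hw

theorem valid2 : Valid z2 ctx2 where
  alp := by decide +kernel
  sq := z2_sq
  comm k w hw := comm_al2 k w hw
  tmpl ps hps := by
    simp only [ctx2, List.mem_cons, List.not_mem_nil, or_false] at hps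
    rcases hps with rfl | rfl
    · have e := eJ_line
      simp only [gLine, List.getD_cons_zero, List.getD_cons_succ] at e
      simpa [gLine, tv, z2, mul_assoc] using e
    · simp [tv, z2, jk_nil, eJ_sq]

theorem toks2_ok : toksOK ctx2 = true := by decide +kernel

theorem items2_ok : allOK ctx2 [] items2 = true := by decide +kernel

theorem tmpl3_check : (decide (tmpl3 = commGoals.map fun R => R.map (tok ctx2)) &&
    commGoals.all fun R => (items2.map (·.1)).contains R) = true := by decide +kernel

theorem valid3 : Valid z2 ctx3 where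
  alp := by decide +kernel
  sq := z2_sq
  comm k w hw := comm_al2 k w hw
  tmpl ps hps := by
    rcases List.mem_append.1 (show ps ∈ ctx2.tmpl ++ tmpl3 from hps) with hps | hps
    · exact valid2.tmpl ps hps
    · have h := tmpl3_check
      rw [Bool.and_eq_true, decide_eq_true_eq, List.all_eq_true] at h
      rw [h.1, List.mem_map] at hps
      obtain ⟨R, hR, rfl⟩ := hps
      have e := item_one valid2 toks2_ok items2_ok (h.2 R hR)
      rw [evalT] at e
      rw [List.map_map]
      exact e

theorem toks3_ok : toksOK ctx3 = true := by decide +kernel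

theorem items3_ok : allOK ctx3 [] items3 = true := by decide +kernel

/-- The value of a token. -/
noncomputable def eTok (i : ℕ) : Spor.J4 := tv z2 (tok ctx3 i)

/-- A basic translation. -/
noncomputable def seedE (i : ℕ) : Spor.J4 := eTok (seedToks.getD i 0)

theorem eTok_sq (i : ℕ) : eTok i * eTok i = 1 := tv_sq valid3 toks3_ok i

theorem comm_pairs : ((List.range 11).all fun i => (List.range i).all fun j =>
    commRels.any fun R => decide (R = [seedToks.getD i 0, seedToks.getD j 0, seedToks.getD i 0, seedToks.getD j 0]) &&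
      (items3.map (·.1)).contains R) = true := by decide +kernel

theorem seedE_comm {i j : ℕ} (hi : i < 11) (hj : j < 11) : Commute (seedE i) (seedE j) := by
  have key : ∀ i < 11, ∀ j < i, Commute (seedE i) (seedE j) := by
    intro i hi j hj
    have h := List.all_eq_true.1 (List.all_eq_true.1 comm_pairs i (List.mem_range.2 hi)) j (List.mem_range.2 hj)
    rw [List.any_eq_true] at h
    obtain ⟨R, -, hR⟩ := h
    rw [Bool.and_eq_true, decide_eq_true_eq] at hR
    have e := item_one valid3 toks3_ok items3_ok hR.2
    rw [hR.1] at e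
    simp only [evalT, List.map_cons, List.map_nil, List.prod_cons, List.prod_nil, mul_one] at e
    rw [← mul_assoc, mul_eq_one_iff_eq_inv, mul_inv_rev] at e
    show seedE i * seedE j = seedE j * seedE i
    calc seedE i * seedE j = (eTok (seedToks.getD j 0))⁻¹ * (eTok (seedToks.getD i 0))⁻¹ := e
      _ = _ := by
        rw [inv_eq_of_mul_eq_one_right (eTok_sq _), inv_eq_of_mul_eq_one_right (eTok_sq _)]
        rfl
  rcases Nat.lt_trichotomy i j with h | rfl | h
  · exact (key j hj i h).symm
  · exact Commute.refl _
  · exact key i hi j h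

/-- The product of the basic translations in a set. -/
noncomputable def egS (n m : ℕ) : Spor.J4 :=
  Nat.rec 1 (fun i ih => ih * cond (m.testBit i) (seedE i) 1) n

theorem egS_succ (n m : ℕ) : egS (n + 1) m = egS n m * cond (m.testBit n) (seedE n) 1 := rfl

theorem seedE_comm_egS {i : ℕ} (hi : i < 11) (m : ℕ) : ∀ n, n ≤ 11 → Commute (seedE i) (egS n m)
  | 0, _ => Commute.one_right _
  | n + 1, hn => by
    rw [egS_succ]
    refine (seedE_comm_egS hi m n (by omega)).mul_right ?_
    cases m.testBit n
    · exact Commute.one_right _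
    · exact seedE_comm hi (by omega)

theorem egS_xor (a b : ℕ) : ∀ n, n ≤ 11 → egS n (a ^^^ b) = egS n a * egS n b
  | 0, _ => (one_mul _).symm
  | n + 1, hn => by
    rw [egS_succ, egS_succ, egS_succ, egS_xor a b n (by omega), Nat.testBit_xor]
    have hc := seedE_comm_egS (i := n) (by omega) b n (by omega)
    have hs : seedE n * seedE n = 1 := eTok_sq _
    cases a.testBit n <;> cases b.testBit n <;> simp only [Bool.false_bne, Bool.true_bne, Bool.not_false,
      Bool.not_true, cond_true, cond_false, mul_one]
    · exact mul_assoc _ _ _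
    · rw [mul_assoc, mul_assoc, hc.eq]
    · rw [mul_assoc (egS n a), ← mul_assoc (seedE n), hc.eq, mul_assoc (egS n b), hs, mul_one]

/-- The translation with the given eleven bits. -/
noncomputable def Eg (a : ℕ) : Spor.J4 := egS 11 (app coords a)

theorem Eg_xor (a b : ℕ) : Eg (a ^^^ b) = Eg a * Eg b := by rw [Eg, app_xor, egS_xor _ _ 11 le_rfl]; rfl

theorem Eg_zero : Eg 0 = 1 := by
  rw [Eg, J4Rep.app_zero]
  have : ∀ n, egS n 0 = 1 := fun n => by induction n <;> simp_all [egS]
  exact this 11

theorem Eg_sq (a : ℕ) : Eg a * Eg a = 1 := by rw [← Eg_xor, Nat.xor_self, Eg_zero]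

theorem egS_unit : ∀ (n i : ℕ), i < n → n ≤ 11 → egS n (2 ^ i) = seedE i
  | n + 1, i, hi, hn => by
    rw [egS_succ, Nat.testBit_two_pow]
    have hz : ∀ m, m ≤ i → egS m (2 ^ i) = 1 := by
      intro m
      induction m with
      | zero => exact fun _ => rfl
      | succ m ih =>
        intro hm
        rw [egS_succ, ih (by omega), Nat.testBit_two_pow, decide_eq_false (by omega), cond_false, mul_one]
    rcases Nat.lt_or_eq_of_le (Nat.le_of_lt_succ hi) with h | rfl
    · rw [egS_unit n i h (by omega), decide_eq_false (by omega), cond_false, mul_one]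
    · rw [hz i le_rfl, decide_eq_true rfl, cond_true, one_mul]

theorem seed_coords : ((List.range 11).all fun i => Nat.beq (app coords (seedVals.getD i 0)) (1 <<< i)) = true := by
  decide +kernel

theorem Eg_seed {i : ℕ} (hi : i < 11) : Eg (seedVals.getD i 0) = seedE i := by
  rw [Eg, Nat.eq_of_beq_eq_true (List.all_eq_true.1 seed_coords i (List.mem_range.2 hi)), Nat.one_shiftLeft]
  exact egS_unit 11 i hi le_rfl

/-- The orderings of a node's three tokens. -/
noncomputable def nodeRot (n : ℕ × ℕ × ℕ × List ℕ × ℕ) : Bool :=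
  (items3.map (·.1)).contains n.2.2.2.1 &&
    ([[n.1, n.2.1, n.2.2.1], [n.2.1, n.2.2.1, n.1], [n.2.2.1, n.1, n.2.1], [n.1, n.2.2.1, n.2.1],
      [n.2.2.1, n.2.1, n.1], [n.2.1, n.1, n.2.2.1]] : List (List ℕ)).contains n.2.2.2.1

/-- The tokens with known values, one by one. -/
noncomputable def nodesRun : List (ℕ × ℕ × ℕ × List ℕ × ℕ) → List (ℕ × ℕ) → List (ℕ × ℕ)
  | [], kn => kn
  | n :: ns, kn =>
    match kn.find? (fun p => Nat.beq p.1 n.2.1), kn.find? (fun p => Nat.beq p.1 n.2.2.1) with
    | some p, some q => cond (nodeRot n) (nodesRun ns ((n.1, p.2 ^^^ q.2) :: kn)) kn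
    | _, _ => kn

theorem perm_three {G : Type*} [Group G] {s a b : G} (hs : s * s = 1) (ha : a * a = 1) (hb : b * b = 1)
    (hc : Commute a b) (h : s * (a * b) = 1 ∨ a * (b * s) = 1 ∨ b * (s * a) = 1 ∨ s * (b * a) = 1 ∨
      b * (a * s) = 1 ∨ a * (s * b) = 1) : s = a * b := by
  have hab : a * b * (a * b) = 1 := by
    rw [mul_assoc, ← mul_assoc b, ← hc.eq, mul_assoc a b, hb, mul_one, ha]
  have i1 : ∀ x : G, x * (a * b) = 1 → x = a * b := fun x e => by
    calc x = x * (a * b * (a * b)) := by rw [hab, mul_one]
      _ = _ := by rw [← mul_assoc, e, one_mul]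
  rcases h with h | h | h | h | h | h
  · exact i1 s h
  · exact i1 s (mul_eq_one_comm.1 (by rwa [mul_assoc]))
  · refine i1 s ?_
    have : s * a * b = 1 := mul_eq_one_comm.1 h
    rwa [mul_assoc] at this
  · exact i1 s (by rw [hc.eq]; exact h)
  · refine i1 s (mul_eq_one_comm.1 ?_)
    rw [hc.eq, mul_assoc]; exact h
  · refine i1 s ?_
    rw [hc.eq]
    have : s * b * a = 1 := mul_eq_one_comm.1 h
    rwa [mul_assoc] at this

theorem nodesRun_sound : ∀ (ns : List (ℕ × ℕ × ℕ × List ℕ × ℕ)) (kn : List (ℕ × ℕ)),
    (∀ p ∈ kn, eTok p.1 = Eg p.2) → ∀ p ∈ nodesRun ns kn, eTok p.1 = Eg p.2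
  | [], _, h => h
  | n :: ns, kn, h => by
    rw [nodesRun]
    split
    · rename_i p q hp hq
      cases hn : nodeRot n with
      | false => exact h
      | true =>
        refine nodesRun_sound ns _ fun r hr => ?_
        rcases List.mem_cons.1 hr with rfl | hr
        · have ep := h p (List.mem_of_find?_eq_some hp)
          have eq' := h q (List.mem_of_find?_eq_some hq)
          rw [Nat.eq_of_beq_eq_true (List.find?_some (p := fun p : ℕ × ℕ => Nat.beq p.1 n.2.1) hp)] at ep
          rw [Nat.eq_of_beq_eq_true (List.find?_some (p := fun p : ℕ × ℕ => Nat.beq p.1 n.2.2.1) hq)] at eq'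
          show eTok n.1 = Eg (p.2 ^^^ q.2)
          rw [Eg_xor, ← ep, ← eq']
          have hc : Commute (eTok n.2.1) (eTok n.2.2.1) := by
            rw [ep, eq']
            show Eg p.2 * Eg q.2 = Eg q.2 * Eg p.2
            rw [← Eg_xor, ← Eg_xor, Nat.xor_comm]
          rw [nodeRot, Bool.and_eq_true] at hn
          have e := item_one valid3 toks3_ok items3_ok hn.1
          refine perm_three (eTok_sq _) (eTok_sq _) (eTok_sq _) hc ?_
          have hm := hn.2
          rw [List.contains_iff_mem] at hm
          simp only [List.mem_cons, List.not_mem_nil, or_false] at hm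
          rcases hm with hm | hm | hm | hm | hm | hm <;> rw [hm] at e <;>
            simp only [evalT, List.map_cons, List.map_nil, List.prod_cons, List.prod_nil, mul_one] at e <;>
            simp only [eTok] at * <;> tauto
        · exact h r hr
    · exact h

/-- The basic tokens with their values. -/
noncomputable def seedsKnown : List (ℕ × ℕ) :=
  (List.range 11).map fun i => (seedToks.getD i 0, seedVals.getD i 0)

/-- All the tokens with known values. -/
noncomputable def known : List (ℕ × ℕ) := nodesRun lineNodes seedsKnown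

theorem known_sound {p : ℕ × ℕ} (hp : known.contains p = true) : eTok p.1 = Eg p.2 := by
  refine nodesRun_sound _ _ (fun q hq => ?_) p (List.contains_iff_mem.1 hp)
  rw [seedsKnown, List.mem_map] at hq
  obtain ⟨i, hi, rfl⟩ := hq
  exact (Eg_seed (List.mem_range.1 hi)).symm

/-- A word conjugates a basic translation to a token with the expected value. -/
noncomputable def imgOK (g : List ℕ) (im : List (ℕ × List ℕ)) (cj : List ℕ) (i : ℕ) : Bool :=
  known.contains ((im.getD i (0, [])).1, app cj (seedVals.getD i 0)) &&
    Nat.beq (tok ctx3 (seedToks.getD i 0)).1 1 && Nat.beq (tok ctx3 (im.getD i (0, [])).1).1 1 &&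
    Nat.beq (J4Pres.pword (g ++ (tok ctx3 (seedToks.getD i 0)).2))
      (J4Pres.pword ((tok ctx3 (im.getD i (0, [])).1).2 ++ alW ctx3 1 (im.getD i (0, [])).2))

theorem img_check : (List.range 11).all (fun i => imgOK [0] imgX conjX i && imgOK [2] imgY conjY i) = true := by
  decide +kernel

theorem conj_seed {g : List ℕ} {im : List (ℕ × List ℕ)} {cj : List ℕ} {i : ℕ} (h : imgOK g im cj i = true) :
    jk g * seedE i * (jk g)⁻¹ = Eg (app cj (seedVals.getD i 0)) := by
  simp only [imgOK, Bool.and_eq_true] at h
  obtain ⟨⟨⟨h1, h2⟩, h3⟩, h4⟩ := h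
  rw [← known_sound h1, seedE, eTok, eTok, tv, tv, Nat.eq_of_beq_eq_true h2, Nat.eq_of_beq_eq_true h3,
    if_neg (show ¬(1 : ℕ) = 2 by norm_num), if_neg (show ¬(1 : ℕ) = 2 by norm_num)]
  have e := jk_eq_of_pword h4
  rw [jk_append, jk_append] at e
  have e' := conj_eq (comm_alW valid3 1 (im.getD i (0, [])).2) e
  rw [mul_inv_rev] at e'
  rw [← e']
  simp only [mul_assoc]

theorem span_check : (List.range 2048).all (fun a => Nat.beq (app seedVals (app coords a)) a) = true := by
  decide +kernel

theorem Eg_conj {g : List ℕ} {im : List (ℕ × List ℕ)} {cj : List ℕ} (h : ∀ i < 11, imgOK g im cj i = true)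
    {a : ℕ} (ha : a < 2048) : jk g * Eg a * (jk g)⁻¹ = Eg (app cj a) := by
  have key : ∀ n ≤ 11, ∀ m, (∀ j, m.testBit j = true → j < n) →
      jk g * egS 11 m * (jk g)⁻¹ = Eg (app cj (app seedVals m)) := by
    intro n
    induction n with
    | zero =>
      intro _ m hm
      obtain rfl : m = 0 := Nat.eq_of_testBit_eq fun j => by
        rw [Nat.zero_testBit]
        exact Bool.eq_false_iff.2 fun e => absurd (hm j e) (Nat.not_lt_zero j)
      have e0 : egS 11 0 = 1 := by
        have : ∀ n, egS n 0 = 1 := fun n => by induction n <;> simp_all [egS]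
        exact this 11
      rw [e0, J4Rep.app_zero, J4Rep.app_zero, Eg_zero, mul_one, mul_inv_cancel]
    | succ n ih =>
      intro hn m hm
      by_cases hb : m.testBit n = true
      · have hlow : ∀ j, (m ^^^ 2 ^ n).testBit j = true → j < n := by
          intro j hj
          rw [Nat.testBit_xor, Nat.testBit_two_pow] at hj
          by_cases hjn : n = j
          · subst hjn; simp [hb] at hj
          · have hj' : m.testBit j = true := by simpa [hjn] using hj
            have := hm j hj' 
            omega
        have happ : app seedVals (2 ^ n) = seedVals.getD n 0 := by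
          have hc : (List.range 11).all (fun i => Nat.beq (app seedVals (1 <<< i)) (seedVals.getD i 0)) = true := by
            decide +kernel
          have := List.all_eq_true.1 hc n (List.mem_range.2 (by omega))
          rwa [Nat.one_shiftLeft, Nat.beq_eq] at this
        have e : m = (m ^^^ 2 ^ n) ^^^ 2 ^ n := by rw [Nat.xor_assoc, Nat.xor_self, Nat.xor_zero]
        rw [e, egS_xor _ _ 11 le_rfl, app_xor seedVals, app_xor cj, Eg_xor, ← ih (by omega) _ hlow,
          egS_unit 11 n (by omega) le_rfl, happ, ← conj_seed (h n (by omega))]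
        group
      · refine ih (by omega) m fun j hj => ?_
        have h1 := hm j hj
        rcases Nat.lt_or_eq_of_le (Nat.le_of_lt_succ h1) with h2 | rfl
        · exact h2
        · exact absurd hj hb
  have hbits : ∀ j, (app coords a).testBit j = true → j < 11 := by
    intro j hj
    by_contra hcon
    have hlt : app coords a < 2 ^ 11 :=
      J4Rep.app_lt (fun c hc => by
        have hc' : coords.all (fun c => Nat.blt c (2 ^ 11)) = true := by decide +kernel
        simpa using List.all_eq_true.1 hc' c hc) a
    rw [Nat.testBit_eq_false_of_lt (lt_of_lt_of_le hlt (Nat.pow_le_pow_right (by norm_num) (by omega)))] at hj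
    simp at hj
  rw [Eg, key 11 le_rfl _ hbits, Nat.eq_of_beq_eq_true (List.all_eq_true.1 span_check a (List.mem_range.2 ha))]

theorem Eg_conj_x {a : ℕ} (ha : a < 2048) : jk [0] * Eg a * (jk [0])⁻¹ = Eg (app conjX a) :=
  Eg_conj (fun i hi => (Bool.and_eq_true _ _ ▸ List.all_eq_true.1 img_check i (List.mem_range.2 hi)).1) ha

theorem Eg_conj_y {a : ℕ} (ha : a < 2048) : jk [2] * Eg a * (jk [2])⁻¹ = Eg (app conjY a) :=
  Eg_conj (fun i hi => (Bool.and_eq_true _ _ ▸ List.all_eq_true.1 img_check i (List.mem_range.2 hi)).2) ha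

theorem Eg_2007 : Eg 2007 = eJ := by
  have h : (known.contains (eTarget.1, 2007) && Nat.beq (tok ctx3 eTarget.1).1 1 &&
      Nat.beq (J4Pres.pword []) (J4Pres.pword ((tok ctx3 eTarget.1).2 ++ alW ctx3 1 eTarget.2))) = true := by
    decide +kernel
  simp only [Bool.and_eq_true] at h
  have e := jk_eq_of_pword h.2
  rw [jk_append] at e
  have e' := conj_eq (comm_alW valid3 1 eTarget.2) e
  rw [jk_nil, inv_one, one_mul, mul_one] at e'
  rw [← known_sound h.1.1, eTok, tv, Nat.eq_of_beq_eq_true h.1.2, if_neg (by norm_num), ← e']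
  rfl

/-- The values of the seven tokens commuting with the third generator. -/
noncomputable def tVals : List ℕ := [1024, 1931, 1295, 271, 644, 1668, 907]

theorem tVals_check : ((List.range 7).all fun i =>
    known.contains ((tTargets.getD i (0, [])).1, tVals.getD i 0) &&
    Nat.beq (tok ctx3 (tTargets.getD i (0, [])).1).1 1 &&
    Nat.beq (J4Pres.pword (gT.getD i []))
      (J4Pres.pword ((tok ctx3 (tTargets.getD i (0, [])).1).2 ++ alW ctx3 1 (tTargets.getD i (0, [])).2))) = true := by
  decide +kernel

theorem Eg_comm_jT {i : ℕ} (hi : i < 7) : Commute (Eg (tVals.getD i 0)) jT := by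
  have h := List.all_eq_true.1 tVals_check i (List.mem_range.2 hi)
  simp only [Bool.and_eq_true] at h
  have e := jk_eq_of_pword h.2
  rw [jk_append] at e
  have e' := conj_eq (comm_alW valid3 1 (tTargets.getD i (0, [])).2) e
  rw [← known_sound h.1.1, eTok, tv, Nat.eq_of_beq_eq_true h.1.2, if_neg (by norm_num), ← e']
  exact comm_jT hi

end CfsgLib.Sporadic.J4Inj
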